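import Cfsg.Agent.Lib.LocalEven.Generation
import Cfsg.Agent.Lib.Core.Nilpotent

/-!
# Coprime generation for an abelian operator group

`le_of_cyclic_quot`: an `N` acted on coprimely by an abelian `p`-group `B` is generated by the
`N ∩ C(B₀)` with `B / B₀` cyclic.
-/

set_option autoImplicit false
set_option linter.style.haveILetI false

namespace CfsgLib.FTDep

open Subgroup

variable {G : Type*} [Group G] [Finite G] {p : ℕ} [hp : Fact p.Prime]

/-- `B` is generated over `B₀` by one element. -/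
def CyclicMod (B B₀ : Subgroup G) : Prop := ∃ b ∈ B, B ≤ B₀ ⊔ zpowers b

theorem le_of_cyclic_quot {B N W : Subgroup G} [hBc : IsMulCommutative B] (hB : IsPGroup p B)
    (hBN : B ≤ normalizer (N : Set G)) (hN : ¬ p ∣ Nat.card N)
    (h : ∀ B₀ : Subgroup G, B₀ ≤ B → CyclicMod B B₀ → N ⊓ centralizer (B₀ : Set G) ≤ W) : N ≤ W := by
  suffices hmain : ∀ n, ∀ B₁ : Subgroup G, B₁ ≤ B → B₁.relIndex B = n →
      N ⊓ centralizer (B₁ : Set G) ≤ W by
    refine le_trans (le_inf le_rfl fun x _ => Subgroup.mem_centralizer_iff.mpr ?_)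
      (hmain _ ⊥ bot_le rfl)
    intro y hy
    rw [Subgroup.mem_bot.mp hy, one_mul, mul_one]
  intro n
  induction n using Nat.strong_induction_on with
  | _ n ih =>
  intro B₁ hB₁ hn
  by_cases hcy : CyclicMod B B₁
  · exact h B₁ hB₁ hcy
  set H := normalizer (B₁ : Set G) with hH
  haveI : (B₁.subgroupOf H).Normal := Subgroup.normal_in_normalizer
  let π := QuotientGroup.mk' (B₁.subgroupOf H)
  have eqker : ∀ u v : H, π u = π v → (u : G)⁻¹ * v ∈ B₁ := fun u v huv => by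
    have h1 : π (u⁻¹ * v) = 1 := by rw [map_mul, map_inv, huv, inv_mul_cancel]
    exact (QuotientGroup.eq_one_iff (u⁻¹ * v)).mp h1
  have hBH : B ≤ H := fun b hb => by
    refine Subgroup.centralizer_le_normalizer _ (Subgroup.mem_centralizer_iff.mpr fun y hy => ?_)
    exact congrArg Subtype.val (mul_comm' (⟨y, hB₁ hy⟩ : B) ⟨b, hb⟩)
  set Q := (B.subgroupOf H).map π with hQ
  haveI : IsMulCommutative Q := by
    refine ⟨⟨?_⟩⟩
    rintro ⟨_, u, hu, rfl⟩ ⟨_, v, hv, rfl⟩
    refine Subtype.ext ?_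
    show π u * π v = π v * π u
    rw [← map_mul, ← map_mul]
    exact congrArg π (Subtype.ext (show (u : G) * v = v * u from
      congrArg (fun z : B => (z : G)) (mul_comm' (⟨u, hu⟩ : B) ⟨v, hv⟩)))
  have hQp : IsPGroup p Q := (hB.comap_of_injective _ H.subtype_injective).map π
  have hQnc : ¬ IsCyclic Q := by
    intro hc
    obtain ⟨⟨_, b, hb, rfl⟩, hg⟩ := hc.exists_generator
    refine hcy ⟨b, hb, fun x hx => ?_⟩
    obtain ⟨k, hk⟩ := Subgroup.mem_zpowers_iff.mp (hg ⟨π ⟨x, hBH hx⟩, ⟨x, hBH hx⟩, hx, rfl⟩)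
    have h1 : π (b ^ k) = π ⟨x, hBH hx⟩ := by
      rw [map_zpow]; exact congrArg Subtype.val hk
    have h2 : ((b ^ k : H) : G)⁻¹ * x ∈ B₁ := eqker _ _ h1
    rw [show x = ((b ^ k : H) : G) * (((b ^ k : H) : G)⁻¹ * x) by group]
    exact mul_mem (Subgroup.mem_sup_right (by
      rw [SubgroupClass.coe_zpow]; exact Subgroup.zpow_mem_zpowers _ k)) (Subgroup.mem_sup_left h2)
  obtain ⟨q, hq, E, hEQ, hexp, hcard⟩ := Core.exists_elementary_of_not_isCyclic Q hQnc
  have hEne : E ≠ ⊥ := fun h0 => by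
    rw [h0, Subgroup.card_bot] at hcard
    nlinarith [hq.two_le]
  obtain ⟨⟨e, he⟩, he1⟩ := Subgroup.ne_bot_iff_exists_ne_one.mp hEne
  have hqp : q = p := by
    haveI := Fact.mk hq
    have he1' : e ≠ 1 := fun h' => he1 (Subtype.ext h')
    have ho : orderOf (⟨e, hEQ he⟩ : Q) = q := by
      rw [Subgroup.orderOf_mk]; exact orderOf_eq_prime (hexp e he) he1'
    obtain ⟨i, hi⟩ := IsPGroup.iff_orderOf.mp hQp ⟨e, hEQ he⟩
    exact (Nat.prime_dvd_prime_iff_eq hq hp.out).mp (hq.dvd_of_dvd_pow (n := i) (hi ▸ ho ▸ dvd_rfl))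
  subst hqp
  haveI : IsMulCommutative E :=
    ⟨⟨fun u v => Subtype.ext (show (u : H ⧸ B₁.subgroupOf H) * v = v * u from
      congrArg (fun z : Q => (z : H ⧸ B₁.subgroupOf H)) (mul_comm' (⟨u, hEQ u.2⟩ : Q) ⟨v, hEQ v.2⟩))⟩⟩
  set M := N ⊓ centralizer (B₁ : Set G) with hM
  have hMH : M ≤ H := inf_le_right.trans (Subgroup.centralizer_le_normalizer _)
  have hdisj : ∀ x ∈ N, x ∈ B₁ → x = 1 := fun x hxN hxB => by
    obtain ⟨j, hj⟩ := IsPGroup.iff_orderOf.mp hB ⟨x, hB₁ hxB⟩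
    rw [Subgroup.orderOf_mk] at hj
    rcases Nat.eq_zero_or_pos j with rfl | hj0
    · exact orderOf_eq_one_iff.mp (by simpa using hj)
    · exact absurd ((hj ▸ dvd_pow_self q hj0.ne').trans (Subgroup.orderOf_dvd_natCard _ hxN)) hN
  set W' := ((W ⊓ M).subgroupOf H).map π
  have hMb : (M.subgroupOf H).map π ≤ W' := by
    refine LocalEven.le_of_centralizers_le (p := q) (A := E) hexp hcard ?_ ?_ ?_
    · intro z hz
      obtain ⟨b, hb, rfl⟩ := hEQ hz
      refine Subgroup.le_normalizer_map π ⟨b, ?_, rfl⟩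
      refine Subgroup.le_normalizer_comap H.subtype ?_
      show (b : G) ∈ normalizer (M : Set G)
      rw [Subgroup.mem_normalizer_iff]
      have key : ∀ c ∈ B, ∀ m ∈ M, c * m * c⁻¹ ∈ M := by
        intro c hc m hm
        refine ⟨Core.conj_mem_of_le_normalizer hBN hc hm.1, Subgroup.mem_centralizer_iff.mpr fun y hy => ?_⟩
        have h1 : y * c = c * y := congrArg Subtype.val (mul_comm' (⟨y, hB₁ hy⟩ : B) ⟨c, hc⟩)
        have h2 := Subgroup.mem_centralizer_iff.mp hm.2 y hy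
        have h3 : y * c⁻¹ = c⁻¹ * y := by
          calc y * c⁻¹ = c⁻¹ * (c * y) * c⁻¹ := by group
            _ = c⁻¹ * (y * c) * c⁻¹ := by rw [h1]
            _ = c⁻¹ * y := by group
        calc y * (c * m * c⁻¹) = (y * c) * m * c⁻¹ := by group
          _ = c * (y * m) * c⁻¹ := by rw [h1]; group
          _ = c * (m * y) * c⁻¹ := by rw [h2]
          _ = c * m * (y * c⁻¹) := by group
          _ = _ := by rw [h3]; group
      exact fun m => ⟨key b hb m, fun hm => by simpa [mul_assoc] using key _ (B.inv_mem hb) _ hm⟩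
    · intro hd
      refine hN ((hd.trans (Subgroup.card_map_dvd _ π)).trans ?_)
      rw [Nat.card_congr (Subgroup.subgroupOfEquivOfLe hMH).toEquiv]
      exact Subgroup.card_dvd_of_le inf_le_left
    · rintro a ha ha1 _ ⟨⟨m, hm, rfl⟩, hma⟩
      obtain ⟨b, hb, rfl⟩ := hEQ ha
      refine Subgroup.mem_map_of_mem π (show (m : G) ∈ W ⊓ M from ⟨?_, hm⟩)
      set B₂ := B₁ ⊔ zpowers (b : G) with hB₂
      have hB₂B : B₂ ≤ B := sup_le hB₁ (by rw [Subgroup.zpowers_le]; exact hb)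
      have hbB₁ : (b : G) ∉ B₁ := fun hb1 => ha1 ((QuotientGroup.eq_one_iff b).mpr hb1)
      have hlt : B₂.relIndex B < n := by
        have h1 := Subgroup.relIndex_mul_relIndex B₁ B₂ B le_sup_left hB₂B
        rw [hn] at h1
        have h2 : B₁.relIndex B₂ ≠ 1 := fun h2 =>
          hbB₁ (Subgroup.relIndex_eq_one.mp h2 (Subgroup.mem_sup_right (Subgroup.mem_zpowers _)))
        have h3 : B₁.relIndex B₂ ≠ 0 := Subgroup.index_ne_zero_of_finite
        have h4 : B₂.relIndex B ≠ 0 := Subgroup.index_ne_zero_of_finite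
        rw [← h1]
        exact lt_mul_left (Nat.pos_of_ne_zero h4) (by omega)
      refine ih _ hlt B₂ hB₂B rfl ⟨hm.1, ?_⟩
      -- `m` commutes with `b`
      have h0 : π b * π m = π m * π b :=
        (Subgroup.mem_centralizer_singleton_iff.mp hma).symm
      rw [← map_mul, ← map_mul] at h0
      have h5 : ((b : G) * m)⁻¹ * ((m : G) * b) ∈ B₁ := eqker _ _ h0
      have h6 : ((b : G) * m)⁻¹ * ((m : G) * b) ∈ N := by
        rw [show ((b : G) * m)⁻¹ * ((m : G) * b) = (m : G)⁻¹ * ((b : G)⁻¹ * m * (b : G)⁻¹⁻¹) by group]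
        exact mul_mem (inv_mem hm.1) (Core.conj_mem_of_le_normalizer hBN (B.inv_mem hb) hm.1)
      have h7 : (b : G) * m = m * b := inv_mul_eq_one.mp (hdisj _ h6 h5)
      have hle : B₂ ≤ centralizer ({(m : G)} : Set G) := by
        refine sup_le (fun y hy => Subgroup.mem_centralizer_singleton_iff.mpr
          (Subgroup.mem_centralizer_iff.mp hm.2 y hy)) ?_
        rw [Subgroup.zpowers_le]
        exact Subgroup.mem_centralizer_singleton_iff.mpr h7
      exact Subgroup.mem_centralizer_iff.mpr fun y hy =>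
        Subgroup.mem_centralizer_singleton_iff.mp (hle hy)
  intro x hx
  obtain ⟨w, hw, hwx⟩ := hMb ⟨⟨x, hMH hx⟩, hx, rfl⟩
  have h8 : (w : G)⁻¹ * x ∈ B₁ := eqker _ _ hwx
  have h9 : (w : G) = x := inv_mul_eq_one.mp (hdisj _ (mul_mem (inv_mem hw.2.1) hx.1) h8)
  exact h9 ▸ hw.1

end CfsgLib.FTDep
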