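import Cfsg.Agent.Lib.FTDep.Basic
import Mathlib.GroupTheory.Transfer
import Mathlib.LinearAlgebra.Dual.Lemmas
import Mathlib.FieldTheory.Finiteness
import Mathlib.Algebra.Module.ZMod

/-!
# Perfect groups fixing an anisotropic quadratic map over the field with two elements

If a perfect finite group `P` acts on a finite elementary abelian 2-group `V` and preserves an
anisotropic quadratic map `q : V → Z`, then it acts trivially, given the odd order theorem: on an
irreducible section a character sum gives `|W| ≤ |Φ| ^ 2` for the group `Φ` of forms `λ ∘ q`, so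
`W` is at most a plane over its commutant, and a point stabiliser is a self-normalising abelian
2-group.
-/

set_option autoImplicit false
set_option linter.style.haveILetI false
set_option linter.unusedSectionVars false

universe u v w

namespace CfsgLib.FTDep.Aniso

open Finset

/-- The additive character of `ZMod 2`. -/
def chi (x : ZMod 2) : ℤ := if x = 0 then 1 else -1

theorem chi_add : ∀ a b : ZMod 2, chi (a + b) = chi a * chi b := by decide

theorem z2_first : ∀ a b c : ZMod 2, a + b = c + (b - c - a) := by decide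

theorem z2_second : ∀ a : ZMod 2, 0 - a - a = 0 := by decide

theorem chi_one : chi 1 = -1 := rfl

theorem chi_zero : chi 0 = 1 := rfl

theorem sum_chi_eq_zero {A : Type*} [AddGroup A] [Fintype A] (L : A →+ ZMod 2) (hL : ∃ a, L a ≠ 0) :
    ∑ a, chi (L a) = 0 := by
  obtain ⟨b, hb⟩ := hL
  have hb1 : L b = 1 := by
    revert hb; generalize L b = z; revert z; decide
  have h : ∑ a, chi (L (a + b)) = ∑ a, chi (L a) :=
    Equiv.sum_comp (Equiv.addRight b) fun a => chi (L a)
  simp only [map_add, chi_add, hb1, chi_one, mul_neg, mul_one, sum_neg_distrib] at h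
  linarith

theorem card_hom {W : Type*} [AddCommGroup W] [Finite W] (hW : ∀ v : W, v + v = 0) :
    Nat.card (W →+ ZMod 2) = Nat.card W := by
  letI : Module (ZMod 2) W := AddCommGroup.zmodModule fun v => by rw [two_nsmul]; exact hW v
  haveI : Module.Finite (ZMod 2) W := Module.Finite.of_finite
  haveI : Finite (Module.Dual (ZMod 2) W) := Module.finite_of_finite (ZMod 2)
  rw [Nat.card_congr ({ toFun := fun f => f.toZModLinearMap 2
                        invFun := fun f => f.toAddMonoidHom
                        left_inv := fun _ => rfl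
                        right_inv := fun _ => by ext; rfl } : (W →+ ZMod 2) ≃ Module.Dual (ZMod 2) W)]
  rw [Module.natCard_eq_pow_finrank (K := ZMod 2) (V := Module.Dual (ZMod 2) W),
    Module.natCard_eq_pow_finrank (K := ZMod 2) (V := W), Subspace.dual_finrank_eq]

theorem exists_pow_two {W : Type*} [AddCommGroup W] [Finite W] (hW : ∀ v : W, v + v = 0) :
    ∃ n : ℕ, Nat.card W = 2 ^ n := by
  letI : Module (ZMod 2) W := AddCommGroup.zmodModule fun v => by rw [two_nsmul]; exact hW v
  haveI : Module.Finite (ZMod 2) W := Module.Finite.of_finite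
  exact ⟨_, by rw [Module.natCard_eq_pow_finrank (K := ZMod 2) (V := W), Nat.card_zmod]⟩

theorem exists_hom_ne_zero {Z : Type*} [AddCommGroup Z] (hZ : ∀ z : Z, z + z = 0) {z : Z}
    (hz : z ≠ 0) : ∃ l : Z →+ ZMod 2, l z ≠ 0 := by
  letI : Module (ZMod 2) Z := AddCommGroup.zmodModule fun v => by rw [two_nsmul]; exact hZ v
  obtain ⟨l, hl⟩ := not_forall.mp (mt (Module.forall_dual_apply_eq_zero_iff (ZMod 2) z).mp hz)
  exact ⟨l.toAddMonoidHom, hl⟩

/-- The polar of a map. -/
def pol {V Z : Type*} [AddCommGroup V] [AddCommGroup Z] (q : V → Z) (x y : V) : Z :=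
  q (x + y) - q x - q y

/-- A perfect group has no nontrivial self-normalising abelian Sylow 2-subgroup. -/
theorem eq_bot_of_selfnormalizing {P : Type*} [Group P] [Finite P] [Group.IsPerfect P]
    (T : Subgroup P) (hTp : IsPGroup 2 T) (hidx : ¬ 2 ∣ T.index)
    (hN : Subgroup.normalizer (T : Set P) ≤ T) (hTc : IsMulCommutative T) : T = ⊥ := by
  haveI : Fact (Nat.Prime 2) := ⟨Nat.prime_two⟩
  obtain ⟨S₂, rfl⟩ : ∃ S₂ : Sylow 2 P, (S₂ : Subgroup P) = T := ⟨hTp.toSylow hidx, rfl⟩
  have hNC : Subgroup.normalizer ((S₂ : Subgroup P) : Set P) ≤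
      Subgroup.centralizer ((S₂ : Subgroup P) : Set P) := fun m hm =>
    Subgroup.mem_centralizer_iff.mpr fun a ha => by
      have h1 := @mul_comm' (↥(S₂ : Subgroup P)) _ hTc ⟨a, ha⟩ ⟨m, hN hm⟩
      exact congrArg Subtype.val h1
  haveI := hTc
  set tr := MonoidHom.transferSylow S₂ hNC
  have hker : tr.ker = ⊤ := top_unique fun x _ => by
    have hsub : commutator P ≤ tr.ker := by
      rw [commutator_def, Subgroup.commutator_le]
      intro a _ b _
      rw [MonoidHom.mem_ker, map_commutatorElement, commutatorElement_eq_one_iff_mul_comm]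
      exact mul_comm' _ _
    rw [Group.IsPerfect.commutator_eq_top] at hsub
    exact hsub (Subgroup.mem_top x)
  have hc := MonoidHom.ker_transferSylow_isComplement' S₂ hNC
  exact bot_unique (le_trans (le_inf (hker ▸ le_top) le_rfl) hc.disjoint.le_bot)

section Irreducible

variable {P : Type u} [Group P] [Finite P] {W : Type v} [AddCommGroup W] [Finite W]
  [DistribMulAction P W] {Z : Type w} [AddCommGroup Z]

/-- The forms `l ∘ q`. -/
def formHom (q : W → Z) : (Z →+ ZMod 2) →+ (W → ZMod 2) where
  toFun l := fun v => l (q v)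
  map_zero' := rfl
  map_add' _ _ := rfl

set_option maxHeartbeats 1000000 in
theorem no_irreducible (hFT : OddSolvable.{u}) (hperf : Group.IsPerfect P)
    (hfaith : ∀ g : P, (∀ v : W, g • v = v) → g = 1) (hne : ∃ (g : P) (v : W), g • v ≠ v)
    (hirr : ∀ X : AddSubgroup W, (∀ (g : P), ∀ x ∈ X, g • x ∈ X) → X = ⊥ ∨ X = ⊤)
    (hW : ∀ v : W, v + v = 0) (hZ : ∀ z : Z, z + z = 0) (q : W → Z)
    (hadd : ∀ x y z : W, pol q (x + y) z = pol q x z + pol q y z)
    (hinv : ∀ (g : P) (v : W), q (g • v) = q v) (hq : ∀ v, q v = 0 → v = 0) : False := by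
  classical
  haveI := Fintype.ofFinite W
  haveI : Fact (Nat.Prime 2) := ⟨Nat.prime_two⟩
  set Φ : AddSubgroup (W → ZMod 2) := (formHom q).range with hΦ
  haveI := Fintype.ofFinite Φ
  have hq0 : q 0 = 0 := by
    have h1 := hadd 0 0 0
    simp only [add_zero, pol] at h1
    have h2 : q 0 - q 0 - q 0 = 0 := by
      have h3 := sub_eq_zero.mpr h1.symm
      rw [add_sub_cancel_right] at h3
      exact h3
    simpa using h2
  have hqinj : ∀ v, (∀ f ∈ Φ, f v = 0) → v = 0 := by
    intro v hv
    by_contra hv0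
    obtain ⟨l, hl⟩ := exists_hom_ne_zero hZ fun h => hv0 (hq v h)
    exact hl (hv _ ⟨l, rfl⟩)
  -- properties of the forms
  have hf0 : ∀ f ∈ Φ, f 0 = 0 := by
    rintro _ ⟨l, rfl⟩; show l (q 0) = 0; rw [hq0, map_zero]
  have hfinv : ∀ f ∈ Φ, ∀ (g : P) v, f (g • v) = f v := by
    rintro _ ⟨l, rfl⟩ g v; show l (q (g • v)) = l (q v); rw [hinv]
  have hfpol : ∀ f ∈ Φ, ∀ x y z, pol f (x + y) z = pol f x z + pol f y z := by
    rintro _ ⟨l, rfl⟩ x y z
    simp only [pol, formHom, AddMonoidHom.coe_mk, ZeroHom.coe_mk, ← map_sub, ← map_add]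
    exact congrArg l (hadd x y z)
  have pol_comm : ∀ (f : W → ZMod 2) x y, pol f x y = pol f y x := fun f x y => by
    simp only [pol, add_comm x y]; ring
  let B : ∀ f, f ∈ Φ → W →+ W →+ ZMod 2 := fun f hf =>
    AddMonoidHom.mk' (fun x => AddMonoidHom.mk' (pol f x) fun y z => by
      rw [pol_comm f x, hfpol f hf, pol_comm f y, pol_comm f z])
      fun x y => AddMonoidHom.ext fun z => hfpol f hf x y z
  have hBapply : ∀ f hf x y, B f hf x y = pol f x y := fun _ _ _ _ => rfl
  have hBinv : ∀ f hf (g : P) x y, B f hf (g • x) (g • y) = B f hf x y := fun f hf g x y => by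
    simp only [hBapply, pol, ← smul_add, hfinv f hf]
  -- invariant homomorphisms vanish
  have hlin : ∀ f ∈ Φ, (∀ x y, f (x + y) = f x + f y) → f = 0 := by
    intro f hf hfl
    let L : W →+ ZMod 2 := AddMonoidHom.mk' f hfl
    have hker : ∀ (g : P), ∀ x ∈ L.ker, g • x ∈ L.ker := fun g x hx => by
      rw [AddMonoidHom.mem_ker] at hx ⊢
      show f (g • x) = 0
      rw [hfinv f hf]; exact hx
    rcases hirr L.ker hker with h | h
    · obtain ⟨g, v, hgv⟩ := hne
      refine absurd ?_ hgv
      rw [← sub_eq_zero, ← AddSubgroup.mem_bot, ← h, AddMonoidHom.mem_ker, map_sub]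
      show f (g • v) - f v = 0
      rw [hfinv f hf, sub_self]
    · funext v
      exact AddMonoidHom.mem_ker.mp (h ▸ AddSubgroup.mem_top v : v ∈ L.ker)
  have hnd : ∀ f hf, f ≠ 0 → ∀ x, (∀ y, B f hf x y = 0) → x = 0 := by
    intro f hf hf1 x hx
    let R : AddSubgroup W := (B f hf).ker
    have hR : ∀ (g : P), ∀ z ∈ R, g • z ∈ R := fun g z hz => by
      rw [AddMonoidHom.mem_ker] at hz ⊢
      ext y
      rw [← smul_inv_smul g y, hBinv f hf, hz]; rfl
    have hxR : x ∈ R := AddMonoidHom.mem_ker.mpr (AddMonoidHom.ext hx)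
    rcases hirr R hR with h | h
    · rw [h] at hxR; exact hxR
    · refine absurd (hlin f hf fun a b => ?_) hf1
      have hab : pol f a b = 0 := DFunLike.congr_fun
        (AddMonoidHom.mem_ker.mp (h ▸ AddSubgroup.mem_top a : a ∈ R)) b
      rw [pol, sub_sub, sub_eq_zero] at hab
      exact hab
  -- character sums
  obtain ⟨n, hn⟩ := exists_pow_two hW
  set S : (W → ZMod 2) → ℤ := fun f => ∑ v, chi (f v) with hS
  have hsq : ∀ (f : W → ZMod 2) (hf : f ∈ Φ), f ≠ 0 → S f ^ 2 = 2 ^ n := by
    intro f hf hf1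
    have e1 : S f ^ 2 = ∑ v, ∑ u : W, chi (f v + f (v + u)) := by
      rw [sq, hS, Finset.sum_mul_sum]
      refine Finset.sum_congr rfl fun v _ => ?_
      rw [← Equiv.sum_comp (Equiv.addLeft v) fun u => chi (f v) * chi (f u)]
      exact Finset.sum_congr rfl fun u _ => (chi_add _ _).symm
    rw [e1, Finset.sum_comm]
    have e2 : ∀ u : W, ∑ v, chi (f v + f (v + u)) = chi (f u) * ∑ v, chi (B f hf u v) := fun u => by
      rw [Finset.mul_sum]
      refine Finset.sum_congr rfl fun v _ => ?_
      rw [← chi_add, hBapply f hf, pol, add_comm v u]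
      congr 1
      exact z2_first _ _ _
    rw [Finset.sum_congr rfl fun u _ => e2 u, Finset.sum_eq_single (0 : W)]
    · simp [hf0 f hf, chi_zero, ← Nat.card_eq_fintype_card, hn]
    · intro u _ hu
      rw [sum_chi_eq_zero (B f hf u) ?_, mul_zero]
      by_contra h
      exact hu (hnd f hf hf1 u fun y => by simpa using (not_exists.mp h) y)
    · simp
  have htot : ∑ f : Φ, S (f : W → ZMod 2) = (Nat.card Φ : ℤ) := by
    simp only [hS]
    rw [Finset.sum_comm, Finset.sum_eq_single (0 : W)]
    · simp [fun f : Φ => hf0 _ f.2, chi_zero, Nat.card_eq_fintype_card]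
    · intro v _ hv
      refine sum_chi_eq_zero (AddMonoidHom.mk' (fun f : Φ => (f : W → ZMod 2) v) fun _ _ => rfl) ?_
      by_contra h
      exact hv (hqinj v fun f hf => by simpa using (not_exists.mp h) ⟨f, hf⟩)
    · simp
  obtain ⟨g₀, v₀, hgv₀⟩ := hne
  have hv₀ : v₀ ≠ 0 := fun h => hgv₀ (by rw [h, smul_zero])
  obtain ⟨f₀, hf₀, hf₀1⟩ : ∃ f ∈ Φ, f ≠ 0 := by
    by_contra h
    push Not at h
    exact hv₀ (hqinj v₀ fun f hf => by rw [h f hf]; rfl)
  have hsq₀ : (S f₀).natAbs ^ 2 = 2 ^ n := by
    have h1 := congrArg Int.natAbs (hsq f₀ hf₀ hf₀1)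
    simpa [Int.natAbs_pow] using h1
  obtain ⟨h, -, hh⟩ := (Nat.dvd_prime_pow Nat.prime_two).mp (hsq₀ ▸ dvd_pow_self _ two_ne_zero)
  have hnh : 2 * h = n := by
    rw [hh, ← pow_mul] at hsq₀
    rw [← Nat.pow_right_injective le_rfl hsq₀, mul_comm]
  have hdiv : ∀ f : Φ, (2 ^ h : ℤ) ∣ S (f : W → ZMod 2) := by
    intro f
    by_cases hf1 : (f : W → ZMod 2) = 0
    · have : S (f : W → ZMod 2) = (2 ^ h : ℤ) * 2 ^ h := by
        rw [← pow_add, ← two_mul, hnh]
        simp [hS, hf1, chi_zero, ← Nat.card_eq_fintype_card, hn]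
      exact this ▸ dvd_mul_right _ _
    · have h1 : ((S (f : W → ZMod 2)).natAbs) ^ 2 = (2 ^ h) ^ 2 := by
        have := congrArg Int.natAbs (hsq _ f.2 hf1)
        rw [← pow_mul, mul_comm, hnh]
        simpa [Int.natAbs_pow] using this
      have h2 := Nat.pow_left_injective two_ne_zero h1
      exact Int.natAbs_dvd_natAbs.mp (by simp [h2, Int.natAbs_pow])
  have hΦle : 2 ^ h ≤ Nat.card Φ := by
    have h1 : (2 ^ h : ℤ) ∣ (Nat.card Φ : ℤ) := htot ▸ Finset.dvd_sum fun f _ => hdiv f
    exact Nat.le_of_dvd Nat.card_pos (by exact_mod_cast h1)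
  -- the commutant
  let C : AddSubgroup (W →+ W) :=
    { carrier := {c | ∀ (g : P) v, c (g • v) = g • c v}
      zero_mem' := fun g v => by simp
      add_mem' := fun {a b} ha hb g v => by simp [ha g v, hb g v]
      neg_mem' := fun {a} ha g v => by simp [ha g v] }
  have hCinj : ∀ c ∈ C, c ≠ 0 → ∀ v, c v = 0 → v = 0 := by
    intro c hc hc0 v hv
    rcases hirr c.ker (fun g x hx => by
      rw [AddMonoidHom.mem_ker] at hx ⊢; rw [hc, hx, smul_zero]) with h | h
    · rw [← AddSubgroup.mem_bot, ← h]; exact hv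
    · exact absurd (AddMonoidHom.ext fun x =>
        AddMonoidHom.mem_ker.mp (h ▸ AddSubgroup.mem_top x : x ∈ c.ker)) hc0
  have hbij : Function.Bijective fun x => B f₀ hf₀ x := by
    haveI : Finite (W →+ ZMod 2) := Finite.of_injective _ DFunLike.coe_injective
    refine (Nat.bijective_iff_injective_and_card _).mpr ⟨fun a b hab => ?_, (card_hom hW).symm⟩
    refine sub_eq_zero.mp (hnd f₀ hf₀ hf₀1 _ fun y => ?_)
    rw [map_sub, AddMonoidHom.sub_apply, sub_eq_zero]
    exact DFunLike.congr_fun hab y
  let e : W ≃+ (W →+ ZMod 2) := AddEquiv.ofBijective (B f₀ hf₀) hbij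
  have he : ∀ (L : W →+ ZMod 2) y, B f₀ hf₀ (e.symm L) y = L y := fun L y =>
    DFunLike.congr_fun (e.apply_symm_apply L) y
  have hcmem : ∀ f : Φ, (e.symm.toAddMonoidHom.comp (B f f.2)) ∈ C := fun f g x => by
    refine hbij.1 (AddMonoidHom.ext fun y => ?_)
    simp only [AddMonoidHom.comp_apply, AddEquiv.coe_toAddMonoidHom]
    rw [he, ← smul_inv_smul g y, hBinv f f.2, hBinv f₀ hf₀, he]
  set κ : Φ → C := fun f => ⟨_, hcmem f⟩ with hκ
  have hκapply : ∀ (f : Φ) x y, B f f.2 x y = B f₀ hf₀ ((κ f : W →+ W) x) y := fun f x y =>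
    (he (B f f.2 x) y).symm
  have hκinj : Function.Injective κ := by
    intro a b hab
    refine sub_eq_zero.mp (Subtype.ext (hlin _ (a - b).2 fun x y => ?_))
    have h1 : B a a.2 x y = B b b.2 x y := by rw [hκapply, hκapply, hab]
    simp only [hBapply, pol] at h1
    simp only [AddSubgroup.coe_sub, Pi.sub_apply]
    linear_combination h1
  have hCW : ∀ v, v ≠ 0 → Function.Injective fun c : C => (c : W →+ W) v := by
    intro v hv a b hab
    by_contra hne'
    refine hv (hCinj _ (a - b).2 (fun h0 => hne' (sub_eq_zero.mp (Subtype.ext h0))) v ?_)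
    simp only [AddSubgroup.coe_sub, AddMonoidHom.sub_apply]
    exact sub_eq_zero.mpr hab
  haveI : Finite C := Finite.of_injective _ (hCW v₀ hv₀)
  -- perfect groups of odd order
  haveI := hperf
  have hPtriv : Group.IsSolvable P → False := fun hs => by
    haveI := hs
    haveI : Nontrivial P := ⟨g₀, 1, fun h => hgv₀ (by rw [h, one_smul])⟩
    exact (Group.IsSolvable.commutator_lt_top_of_nontrivial P).ne Group.IsPerfect.commutator_eq_top
  by_cases hreg : ∀ v : W, v ≠ 0 → ∀ g : P, g • v = v → g = 1
  · refine hPtriv (hFT P ?_)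
    by_contra hev
    rw [Nat.not_odd_iff_even, even_iff_two_dvd] at hev
    obtain ⟨t, ht⟩ := exists_prime_orderOf_dvd_card' 2 hev
    have h1 : t = 1 := by
      refine hreg (v₀ + t • v₀) (fun h0 => ?_) t ?_

      · have h2 : t • v₀ = v₀ := by
          rw [← add_left_cancel_iff (a := v₀), h0, hW]
        exact absurd (hreg v₀ hv₀ t h2) fun h3 => by rw [h3, orderOf_one] at ht; omega
      · rw [smul_add, smul_smul, ← sq, ← ht, pow_orderOf_eq_one, one_smul, add_comm]
    rw [h1, orderOf_one] at ht; omega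
  push Not at hreg
  obtain ⟨v, hv, g, hgv, hg1⟩ := hreg
  have hfixC : ∀ (k : P) (x : W), k • x = x → ∀ c : C, k • (c : W →+ W) x = (c : W →+ W) x :=
    fun k x hk c => by rw [← c.2, hk]
  -- `W` is a plane over the commutant
  have hpairinj : ∀ x, (∀ c : C, (c : W →+ W) v ≠ x) →
      Function.Injective fun p : C × C => (p.1 : W →+ W) v + (p.2 : W →+ W) x := by
    intro x hx a b hab
    simp only at hab
    have h1 : ((a.1 - b.1 : C) : W →+ W) v = ((b.2 - a.2 : C) : W →+ W) x := by
      simp only [AddSubgroup.coe_sub, AddMonoidHom.sub_apply]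
      linear_combination (norm := abel) hab
    by_cases h2 : b.2 - a.2 = 0
    · have h2' : a.2 = b.2 := (sub_eq_zero.mp h2).symm
      rw [h2] at h1
      have h3 : (a.1 - b.1 : C) = 0 := hCW v hv (by simpa using h1)
      exact Prod.ext (sub_eq_zero.mp h3) h2'
    · exfalso
      set d : C := b.2 - a.2
      have hdinj : Function.Injective (d : W →+ W) := (injective_iff_map_eq_zero _).mpr
        (hCinj _ d.2 fun h0 => h2 (Subtype.ext h0))
      let de : W ≃+ W := AddEquiv.ofBijective (d : W →+ W) (Finite.injective_iff_bijective.mp hdinj)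
      have hde : de.symm.toAddMonoidHom ∈ C := fun k y => by
        refine de.injective ?_
        simp only [AddEquiv.coe_toAddMonoidHom, AddEquiv.apply_symm_apply]
        show k • y = (d : W →+ W) (k • de.symm y)
        rw [d.2]
        exact (congrArg (k • ·) (de.apply_symm_apply y)).symm
      refine hx ⟨de.symm.toAddMonoidHom.comp ((a.1 - b.1 : C) : W →+ W), fun k y => ?_⟩ ?_
      · simp only [AddMonoidHom.comp_apply, (a.1 - b.1 : C).2 k y, hde k]
      · show de.symm (((a.1 - b.1 : C) : W →+ W) v) = x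
        rw [h1]; exact de.symm_apply_apply x
  have hfull : ∀ (k : P), k ≠ 1 → k • v = v → ∀ x, k • x = x → ∃ c : C, (c : W →+ W) v = x := by
    intro k hk1 hkv x hkx
    by_contra hx
    push Not at hx
    have hcard : Nat.card W ≤ Nat.card (C × C) := by
      rw [Nat.card_prod, hn, ← hnh, two_mul, pow_add]
      exact Nat.mul_le_mul (hΦle.trans (Nat.card_le_card_of_injective κ hκinj))
        (hΦle.trans (Nat.card_le_card_of_injective κ hκinj))
    refine hk1 (hfaith k fun y => ?_)
    obtain ⟨⟨a, b⟩, rfl⟩ := ((hpairinj x hx).bijective_of_nat_card_le hcard).2 y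
    simp only [smul_add, hfixC k v hkv, hfixC k x hkx]
  obtain ⟨u₀, hu₀⟩ : ∃ x, ∀ c : C, (c : W →+ W) v ≠ x := by
    by_contra hall
    push Not at hall
    exact hg1 (hfaith g fun y => by obtain ⟨c, rfl⟩ := hall y; exact hfixC g v hgv c)
  have hcardle : Nat.card C * Nat.card C ≤ Nat.card W := by
    rw [← Nat.card_prod]; exact Nat.card_le_card_of_injective _ (hpairinj u₀ hu₀)
  have hCcard : Nat.card C = 2 ^ h := by
    refine le_antisymm ?_ (hΦle.trans (Nat.card_le_card_of_injective κ hκinj))
    rw [hn, ← hnh, two_mul, pow_add] at hcardle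
    exact Nat.mul_self_le_mul_self_iff.mp hcardle
  have hκsurj : Function.Surjective κ :=
    (hκinj.bijective_of_nat_card_le (hCcard ▸ hΦle)).2
  have hWcard : Nat.card W ≤ Nat.card (C × C) := by
    rw [Nat.card_prod, hCcard, hn, ← hnh, two_mul, pow_add]
  -- the line through `v` is totally isotropic
  have hBsymm : ∀ (f : Φ) x y, B f f.2 x y = B f f.2 y x := fun f x y => pol_comm _ x y
  have hselfadj : ∀ (c : C) x y,
      B f₀ hf₀ ((c : W →+ W) x) y = B f₀ hf₀ x ((c : W →+ W) y) := by
    intro c x y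
    obtain ⟨f, rfl⟩ := hκsurj c
    rw [← hκapply, hBsymm, hκapply]
    exact pol_comm _ _ _
  have halt : ∀ (c : C) x, B f₀ hf₀ ((c : W →+ W) x) x = 0 := by
    intro c x
    obtain ⟨f, rfl⟩ := hκsurj c
    rw [← hκapply, hBapply _ f.2, pol, hW, hf0 _ f.2]
    exact z2_second _
  have hcomp : ∀ a b : C, (a : W →+ W).comp (b : W →+ W) ∈ C := fun a b k y => by
    simp only [AddMonoidHom.comp_apply, b.2 k y, a.2 k]
  have hiso : ∀ a b : C, B f₀ hf₀ ((a : W →+ W) v) ((b : W →+ W) v) = 0 := by
    intro a b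
    rw [← hselfadj b]
    exact halt ⟨_, hcomp b a⟩ v
  have hperp : ∀ x, (∀ c : C, B f₀ hf₀ x ((c : W →+ W) v) = 0) → ∃ c : C, (c : W →+ W) v = x := by
    intro x hx
    by_contra hx'
    push Not at hx'
    refine hv (hnd f₀ hf₀ hf₀1 v fun y => ?_)
    obtain ⟨⟨a, b⟩, rfl⟩ := ((hpairinj x hx').bijective_of_nat_card_le hWcard).2 y
    simp only [map_add]
    have h1 : B f₀ hf₀ v ((a : W →+ W) v) = 0 := by
      rw [← hselfadj]; exact halt a v
    have h2 : B f₀ hf₀ v ((b : W →+ W) x) = 0 := by
      rw [← hselfadj, show B f₀ hf₀ ((b : W →+ W) v) x = B f₀ hf₀ x ((b : W →+ W) v) from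
        pol_comm _ _ _]
      exact hx b
    rw [h1, h2, add_zero]
  have hmove : ∀ k : P, k • v = v → ∀ x, ∃ c : C, (c : W →+ W) v = k • x - x := by
    intro k hk x
    refine hperp _ fun c => ?_
    rw [map_sub, AddMonoidHom.sub_apply]
    nth_rewrite 1 [← hfixC k v hk c]
    rw [hBinv f₀ hf₀, sub_self]
  -- the stabiliser of `v`
  let T : Subgroup P := MulAction.stabilizer P v
  have hTcomm : ∀ a ∈ T, ∀ b ∈ T, ∀ x : W, (a * b) • x = (b * a) • x := by
    intro a ha b hb x
    obtain ⟨c, hc⟩ := hmove a ha x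
    obtain ⟨d, hd⟩ := hmove b hb x
    rw [eq_sub_iff_add_eq] at hc hd
    rw [mul_smul, mul_smul, ← hd, smul_add, hfixC a v ha, ← hc, smul_add, hfixC b v hb, ← hd]
    abel
  haveI hTc : IsMulCommutative T := ⟨⟨fun a b => Subtype.ext (by
    show (a : P) * b = b * a
    refine mul_inv_eq_one.mp (hfaith _ fun x => ?_)
    rw [mul_smul, hTcomm a a.2 b b.2, smul_inv_smul])⟩⟩
  have hTp : IsPGroup 2 T := fun a => ⟨1, Subtype.ext (hfaith _ fun x => by
    obtain ⟨c, hc⟩ := hmove a a.2 x
    rw [eq_sub_iff_add_eq] at hc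
    rw [SubmonoidClass.coe_pow, pow_one, sq, mul_smul, ← hc, smul_add, hfixC a v a.2, ← hc,
      ← add_assoc, hW, zero_add])⟩
  have hN : Subgroup.normalizer (T : Set P) ≤ T := by
    intro m hm
    have hgm : g • (m • v) = m • v := by
      have h1 : m⁻¹ * g * m ∈ T := by
        have := (Subgroup.mem_normalizer_iff.mp (Subgroup.inv_mem _ hm) g).mp hgv
        simpa using this
      have h2 : (m⁻¹ * g * m) • v = v := h1
      rw [mul_smul, mul_smul, inv_smul_eq_iff] at h2
      exact h2
    obtain ⟨c, hc⟩ := hfull g hg1 hgv _ hgm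
    show m • v = v
    have h0 : ∀ a b : C, pol q ((a : W →+ W) v) ((b : W →+ W) v) = 0 := by
      intro a b
      by_contra h3
      obtain ⟨l, hl⟩ := exists_hom_ne_zero hZ h3
      refine hl ?_
      have h4 := hiso ⟨_, hcomp (κ ⟨_, l, rfl⟩) a⟩ b
      rw [AddMonoidHom.comp_apply, ← hκapply] at h4
      simpa [hBapply, pol, formHom] using h4
    let one : C := ⟨AddMonoidHom.id W, fun _ _ => rfl⟩
    rw [← sub_eq_zero]
    refine hq _ ?_
    have h5 := h0 c one
    rw [pol, hc, show (one : W →+ W) v = v from rfl, hinv, sub_sub, sub_eq_zero, hZ] at h5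
    rw [sub_eq_add_neg, neg_eq_of_add_eq_zero_left (hW v)]
    exact h5
  obtain ⟨k, hk⟩ := IsPGroup.iff_card.mp hTp
  have hk0 : k ≠ 0 := by
    rintro rfl
    exact hg1 (Subgroup.mem_bot.mp ((Subgroup.card_eq_one.mp hk) ▸ (hgv : g ∈ T)))
  have hidx : ¬ 2 ∣ T.index := by
    have h1 := Sylow.card_quotient_normalizer_modEq_card_quotient hk
    have h2 : Nat.card (Subgroup.normalizer (T : Set P) ⧸
        T.comap (Subgroup.normalizer (T : Set P)).subtype) = 1 := by
      refine Subgroup.index_eq_one.mpr (top_unique fun x _ => ?_)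
      exact hN x.2
    rw [h2] at h1
    intro h3
    have h4 : Nat.card (P ⧸ T) % 2 = 0 := Nat.mod_eq_zero_of_dvd h3
    simp [Nat.ModEq, h4] at h1
  exact hg1 (Subgroup.mem_bot.mp
    (eq_bot_of_selfnormalizing T hTp hidx hN hTc ▸ (hgv : g ∈ T) : g ∈ (⊥ : Subgroup P)))

end Irreducible


section Reducible

variable {P : Type u} [Group P] [Finite P] {V : Type u} [AddCommGroup V] [Finite V]
  [DistribMulAction P V] {Z : Type w} [AddCommGroup Z]

/-- The fixed points of `P` in `V`. -/
def fixedAdd (P : Type u) [Group P] (V : Type u) [AddCommGroup V] [DistribMulAction P V] :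
    AddSubgroup V where
  carrier := {v | ∀ g : P, g • v = v}
  zero_mem' := fun g => smul_zero g
  add_mem' := fun {a b} ha hb g => by rw [smul_add, ha g, hb g]
  neg_mem' := fun {a} ha g => by rw [smul_neg, ha g]

/-- For a perfect group a vector all of whose displacements are fixed is fixed. -/
theorem mem_fixed_of_displacement (hperf : Group.IsPerfect P) {u : V}
    (h : ∀ g : P, g • u - u ∈ fixedAdd P V) : u ∈ fixedAdd P V := by
  haveI := hperf
  let δ : P →* Multiplicative V :=
    { toFun := fun g => Multiplicative.ofAdd (g • u - u)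
      map_one' := by rw [one_smul, sub_self]; rfl
      map_mul' := fun a b => by
        rw [← ofAdd_add]
        congr 1
        have h1 := h b a
        rw [smul_sub] at h1
        rw [mul_smul]
        linear_combination (norm := abel) h1 }
  have hker : commutator P ≤ δ.ker := Abelianization.commutator_subset_ker δ
  rw [Group.IsPerfect.commutator_eq_top] at hker
  intro g
  exact sub_eq_zero.mp (Multiplicative.ofAdd.injective (hker (Subgroup.mem_top g)))

/-- A perfect group preserving an anisotropic quadratic map on an elementary abelian 2-group acts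
trivially, given the odd order theorem. -/
theorem fixed_of_anisotropic (hFT : OddSolvable.{u}) (hperf : Group.IsPerfect P)
    (hV : ∀ v : V, v + v = 0) (hZ : ∀ z : Z, z + z = 0) (q : V → Z)
    (hadd : ∀ x y z : V, pol q (x + y) z = pol q x z + pol q y z)
    (hinv : ∀ (g : P) (v : V), q (g • v) = q v) (hq : ∀ v, q v = 0 → v = 0) :
    ∀ (g : P) (v : V), g • v = v := by
  classical
  suffices htop : fixedAdd P V = ⊤ from fun g v => (htop ▸ AddSubgroup.mem_top v : v ∈ fixedAdd P V) g
  by_contra hne
  set C := fixedAdd P V with hC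
  -- a minimal invariant subgroup properly above the fixed points
  obtain ⟨U, ⟨hCU, hUinv⟩, hUmin⟩ :=
    (wellFounded_lt (α := AddSubgroup V)).has_min
      {U : AddSubgroup V | C < U ∧ ∀ (g : P), ∀ x ∈ U, g • x ∈ U}
      ⟨⊤, lt_top_iff_ne_top.mpr hne, fun _ _ _ => AddSubgroup.mem_top _⟩
  have hCinv : ∀ (g : P), ∀ x ∈ C, g • x ∈ C := fun g x hx => by rw [hx g]; exact hx
  -- the displacement subgroup of `U`
  set U' : AddSubgroup V := AddSubgroup.closure {x | ∃ g : P, ∃ u ∈ U, x = g • u - u} with hU'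
  have hU'U : U' ≤ U := (AddSubgroup.closure_le _).mpr fun x hx => by
    obtain ⟨g, u, hu, rfl⟩ := hx
    exact U.sub_mem (hUinv g u hu) hu
  have hU'inv : ∀ (g : P), ∀ x ∈ U', g • x ∈ U' := fun g => by
    have : U' ≤ U'.comap (DistribSMul.toAddMonoidHom V g) :=
      (AddSubgroup.closure_le _).mpr fun x hx => by
        obtain ⟨k, u, hu, rfl⟩ := hx
        refine AddSubgroup.subset_closure ⟨g * k * g⁻¹, g • u, hUinv g u hu, ?_⟩
        show g • (k • u - u) = (g * k * g⁻¹) • g • u - g • u
        rw [smul_sub, smul_smul, smul_smul, inv_mul_cancel_right]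
    exact fun x hx => this hx
  have hsup : U' ⊔ C = U := by
    have h1 : U' ⊔ C ≤ U := sup_le hU'U hCU.le
    rcases lt_or_eq_of_le (le_sup_right : C ≤ U' ⊔ C) with h2 | h2
    · refine h1.eq_of_not_lt fun h3 => hUmin _ ⟨h2, fun g x hx => ?_⟩ h3
      obtain ⟨a, ha, b, hb, rfl⟩ := AddSubgroup.mem_sup.mp hx
      rw [smul_add]
      exact AddSubgroup.mem_sup.mpr ⟨_, hU'inv g a ha, _, hCinv g b hb, rfl⟩
    · exfalso
      obtain ⟨u, huU, huC⟩ := SetLike.exists_of_lt hCU
      refine huC (mem_fixed_of_displacement hperf fun g => ?_)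
      rw [← hC, h2]
      exact AddSubgroup.mem_sup_left (AddSubgroup.subset_closure ⟨g, u, huU, rfl⟩)
  -- the polar vanishes between fixed points and displacements
  have hq0 : q 0 = 0 := by
    have h1 := hadd 0 0 0
    simp only [add_zero] at h1
    have h2 : pol q (0 : V) 0 = 0 := add_eq_left.mp h1.symm
    simpa [pol] using h2
  have pol_comm : ∀ x y, pol q x y = pol q y x := fun x y => by
    simp only [pol, add_comm x y]; abel
  have hCU' : ∀ c ∈ C, ∀ x ∈ U', pol q c x = 0 := by
    intro c hc
    let L : V →+ Z := AddMonoidHom.mk' (pol q c) fun x y => by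
      rw [pol_comm c, hadd, pol_comm c, pol_comm c]
    have : U' ≤ L.ker := (AddSubgroup.closure_le _).mpr fun x hx => by
      obtain ⟨g, u, -, rfl⟩ := hx
      show L (g • u - u) = 0
      rw [map_sub, sub_eq_zero]
      show pol q c (g • u) = pol q c u
      simp only [pol]
      conv_lhs => rw [← hc g, ← smul_add, hinv, hinv, hinv]
    exact fun x hx => this hx
  -- the section
  set D : AddSubgroup U' := C.addSubgroupOf U' with hD
  let qD : D →+ Z := AddMonoidHom.mk' (fun d => q ((d : U') : V)) fun a b => by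
    have h1 := hCU' _ a.2 _ ((b : U')).2
    rw [pol, sub_sub, sub_eq_zero] at h1
    exact h1
  let r : U' → Z ⧸ qD.range := fun x => QuotientAddGroup.mk (q (x : V))
  have hr : ∀ (x : U') (d : D), r (x + (d : U')) = r x := by
    intro x d
    have h1 := hCU' _ d.2 _ x.2
    rw [pol, sub_sub, sub_eq_zero] at h1
    simp only [AddSubgroup.coe_subtype] at h1
    rw [add_comm ((d : U') : V)] at h1
    have h4 : -q (x : V) + q ((x : V) + ((d : U') : V)) ∈ qD.range := ⟨d, by
      show q ((d : U') : V) = -q (x : V) + q ((x : V) + ((d : U') : V))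
      rw [h1]; abel⟩
    exact (QuotientAddGroup.eq.mpr h4).symm
  let sec : U' ⧸ D → Z ⧸ qD.range := fun x => Quotient.liftOn' x r fun a b hab => by
    rw [QuotientAddGroup.leftRel_apply] at hab
    have h2 := hr a ⟨-a + b, hab⟩
    rw [add_neg_cancel_left] at h2
    exact h2.symm
  have hsec : ∀ x : U', sec (QuotientAddGroup.mk x) = r x := fun _ => rfl
  letI : DistribMulAction P U' :=
    { smul := fun g x => ⟨g • (x : V), hU'inv g x x.2⟩
      one_smul := fun x => Subtype.ext (one_smul P (x : V))
      mul_smul := fun a b x => Subtype.ext (mul_smul a b (x : V))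
      smul_zero := fun g => Subtype.ext (smul_zero g)
      smul_add := fun g x y => Subtype.ext (smul_add g (x : V) (y : V)) }
  let φ : P → U' ⧸ D →+ U' ⧸ D := fun g =>
    QuotientAddGroup.map D D (DistribSMul.toAddMonoidHom U' g) fun x hx => hCinv g _ hx
  letI : DistribMulAction P (U' ⧸ D) :=
    { smul := fun g x => φ g x
      one_smul := fun x => by
        induction x using QuotientAddGroup.induction_on with
        | H x => exact congrArg QuotientAddGroup.mk (one_smul P x)
      mul_smul := fun a b x => by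
        induction x using QuotientAddGroup.induction_on with
        | H x => exact congrArg QuotientAddGroup.mk (mul_smul a b x)
      smul_zero := fun g => map_zero (φ g)
      smul_add := fun g x y => map_add (φ g) x y }
  have hsm : ∀ (g : P) (x : U'), g • (QuotientAddGroup.mk x : U' ⧸ D) = QuotientAddGroup.mk (g • x) :=
    fun _ _ => rfl
  -- pass to the faithful image
  let τ : P →* MulAut (Multiplicative (U' ⧸ D)) :=
    { toFun := fun g => AddEquiv.toMultiplicative (DistribMulAction.toAddEquiv (U' ⧸ D) g)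
      map_one' := MulEquiv.ext fun x => one_smul P (Multiplicative.toAdd x)
      map_mul' := fun a b => MulEquiv.ext fun x => mul_smul a b (Multiplicative.toAdd x) }
  letI : DistribMulAction τ.range (U' ⧸ D) :=
    { smul := fun k x => Multiplicative.toAdd ((k : MulAut (Multiplicative (U' ⧸ D)))
        (Multiplicative.ofAdd x))
      one_smul := fun _ => rfl
      mul_smul := fun _ _ _ => rfl
      smul_zero := fun k => map_one (k : MulAut (Multiplicative (U' ⧸ D)))
      smul_add := fun k x y => map_mul (k : MulAut (Multiplicative (U' ⧸ D))) _ _ }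
  haveI := hperf
  haveI hperfR : Group.IsPerfect τ.range :=
    Group.IsPerfect.ofSurjective (f := τ.rangeRestrict) τ.rangeRestrict_surjective
  have hact : ∀ (g : P) (x : U' ⧸ D), τ.rangeRestrict g • x = g • x := fun _ _ => rfl
  refine no_irreducible (P := τ.range) (W := U' ⧸ D) hFT hperfR ?_ ?_ ?_ ?_ ?_ sec ?_ ?_ ?_
  · intro k hk
    exact Subtype.ext (MulEquiv.ext fun x => hk (Multiplicative.toAdd x))
  · by_contra h
    push Not at h
    obtain ⟨u, huU, huC⟩ := SetLike.exists_of_lt hCU
    have hle : U' ≤ C := fun x hx => mem_fixed_of_displacement hperf fun g => by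
      have h2 := h (τ.rangeRestrict g) (QuotientAddGroup.mk ⟨x, hx⟩)
      rw [hact, hsm, QuotientAddGroup.eq] at h2
      have h3 : -(g • x) + x ∈ C := h2
      have h4 := C.neg_mem h3
      rwa [neg_add, neg_neg, ← sub_eq_add_neg] at h4
    exact huC ((sup_eq_right.mpr hle ▸ hsup.symm : U = C) ▸ huU)
  · intro X hX
    let X₀ : AddSubgroup V := (X.comap (QuotientAddGroup.mk' D)).map U'.subtype
    have hX₀inv : ∀ (g : P), ∀ x ∈ X₀ ⊔ C, g • x ∈ X₀ ⊔ C := fun g x hx => by
      obtain ⟨_, ⟨a, ha, rfl⟩, b, hb, rfl⟩ := AddSubgroup.mem_sup.mp hx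
      rw [smul_add]
      exact AddSubgroup.mem_sup.mpr
        ⟨_, ⟨g • a, hX (τ.rangeRestrict g) _ ha, rfl⟩, _, hCinv g b hb, rfl⟩
    have hX₀U : X₀ ⊔ C ≤ U := sup_le (fun _ hx => hU'U (by
      obtain ⟨a, -, rfl⟩ := hx; exact a.2)) hCU.le
    rcases lt_or_eq_of_le (le_sup_right : C ≤ X₀ ⊔ C) with h2 | h2
    · refine Or.inr (top_unique fun x _ => ?_)
      induction x using QuotientAddGroup.induction_on with
      | H x =>
        have h3 : (x : V) ∈ X₀ ⊔ C :=
          hX₀U.eq_of_not_lt (fun h4 => hUmin _ ⟨h2, hX₀inv⟩ h4) ▸ hU'U x.2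
        obtain ⟨_, ⟨a, ha, rfl⟩, b, hb, hab⟩ := AddSubgroup.mem_sup.mp h3
        have h5 : (QuotientAddGroup.mk a : U' ⧸ D) = QuotientAddGroup.mk x := by
          refine QuotientAddGroup.eq.mpr ?_
          show -(a : V) + (x : V) ∈ C
          rw [← hab]; simpa using hb
        rw [← h5]; exact ha
    · refine Or.inl (bot_unique fun x hx => ?_)
      induction x using QuotientAddGroup.induction_on with
      | H x =>
        have h3 : (x : V) ∈ C := h2 ▸ AddSubgroup.mem_sup_left ⟨x, hx, rfl⟩
        exact (QuotientAddGroup.eq_zero_iff x).mpr h3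
  · intro x
    induction x using QuotientAddGroup.induction_on with
    | H x => exact congrArg QuotientAddGroup.mk (Subtype.ext (hV (x : V)))
  · intro z
    induction z using QuotientAddGroup.induction_on with
    | H z => exact congrArg QuotientAddGroup.mk (hZ z)
  · intro x y z
    induction x using QuotientAddGroup.induction_on with
    | H x => induction y using QuotientAddGroup.induction_on with
      | H y => induction z using QuotientAddGroup.induction_on with
        | H z =>
          simp only [pol, ← QuotientAddGroup.mk_add, hsec]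
          exact congrArg (QuotientAddGroup.mk (s := qD.range)) (hadd (x : V) y z)
  · rintro ⟨_, g, rfl⟩ x
    induction x using QuotientAddGroup.induction_on with
    | H x => exact congrArg (QuotientAddGroup.mk (s := qD.range)) (hinv g (x : V))
  · intro x
    induction x using QuotientAddGroup.induction_on with
    | H x =>
      intro hx
      obtain ⟨d, hd⟩ := (QuotientAddGroup.eq_zero_iff _).mp hx
      have h1 := hCU' _ d.2 _ x.2
      rw [pol, sub_sub, sub_eq_zero] at h1
      simp only [AddSubgroup.coe_subtype] at h1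
      rw [show q ((d : U') : V) = q (x : V) from hd, hZ] at h1
      refine (QuotientAddGroup.eq_zero_iff x).mpr ?_
      show (x : V) ∈ C
      have h3 := hq _ h1
      have h4 : (x : V) = ((d : U') : V) :=
        (add_left_cancel (h3.trans (hV _).symm) : (x : V) = ((d : U') : V))
      rw [h4]
      exact d.2

end Reducible

end CfsgLib.FTDep.Aniso
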