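import Cfsg.Agent.Lib.Components.LBalanceTwo
import Cfsg.Agent.Lib.Components.Diagonal

/-!
# Consequences of the solvability of groups of odd order

All results take the odd order theorem as the hypothesis `OddSolvable`.

* `component_isPComponent_two`: every component is a 2-component;
* `component_centralizer_le_layer`: `L_{2'}(G) = E(G)` puts components of `C(t)` into `E(G)`.
-/

set_option autoImplicit false
set_option linter.style.haveILetI false

universe u

namespace CfsgLib.FTDep

open Subgroup
open CfsgLib.Components CfsgLib.Signalizer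
open scoped commutatorElement Pointwise

/-- Every finite group of odd order is solvable. -/
def OddSolvable : Prop :=
  ∀ (H : Type u) [Group H] [Finite H], Odd (Nat.card H) → Group.IsSolvable H

variable {G : Type u} [Group G] [Finite G]

theorem not_solvable_perfect_quotient {K : Type u} [Group K] (hK : Group.IsPerfect K)
    {N : Subgroup K} [N.Normal] (hs : Group.IsSolvable (K ⧸ N)) : N = ⊤ := by
  haveI := hK
  haveI := hs
  by_contra hne
  haveI : Nontrivial (K ⧸ N) := QuotientGroup.nontrivial_iff.mpr hne
  haveI : Group.IsPerfect (K ⧸ N) :=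
    Group.IsPerfect.ofSurjective (f := QuotientGroup.mk' N) (QuotientGroup.mk'_surjective N)
  exact (Group.IsSolvable.commutator_lt_top_of_nontrivial (K ⧸ N)).ne Group.IsPerfect.commutator_eq_top

theorem even_card_of_quasisimple (hFT : OddSolvable.{u}) {K : Subgroup G}
    (hK : Cfsg.IsQuasisimple K) : Even (Nat.card K) :=
  Nat.not_odd_iff_even.mp fun h => IsQuasisimple.not_isSolvable hK (hFT K h)

/-- A perfect group is generated by its 2-elements. -/
theorem pGen_two_eq (hFT : OddSolvable.{u}) {K : Subgroup G} (hK : Group.IsPerfect K) :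
    pGen 2 K = K := by
  haveI : Fact (Nat.Prime 2) := ⟨Nat.prime_two⟩
  haveI hn : ((pGen 2 K).subgroupOf K).Normal :=
    (Subgroup.normal_subgroupOf_iff_le_normalizer (pGen_le K)).mpr
      (Subgroup.le_normalizer.trans (normalizer_le_normalizer_pGen K))
  refine le_antisymm (pGen_le K) (Subgroup.subgroupOf_eq_top.mp
    (not_solvable_perfect_quotient hK (hFT _ ?_)))
  rw [← Subgroup.index_eq_card, Nat.odd_iff, Nat.two_dvd_ne_zero.symm]
  intro hd
  obtain ⟨P⟩ : Nonempty (Sylow 2 K) := inferInstance
  refine P.not_dvd_index (hd.trans (Subgroup.index_dvd_of_le fun x hx => ?_))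
  obtain ⟨k, hk⟩ := P.isPGroup' ⟨x, hx⟩
  exact mem_pGen x.2 (congrArg (fun z : (P : Subgroup K) => ((z : K) : G)) hk)

theorem component_isPComponent_two (hFT : OddSolvable.{u}) {K : Subgroup G}
    (hK : Cfsg.IsComponent K) : Cfsg.IsPComponent 2 K := by
  haveI : Fact (Nat.Prime 2) := ⟨Nat.prime_two⟩
  haveI := pPrimeCore_normal (G := K) 2
  refine isPComponent_iff.mpr ⟨hK.1, pGen_two_eq hFT (IsQuasisimple.isPerfect hK.2),
    IsQuasisimple.quotient hK.2 fun h => ?_⟩
  have h1 := pPrimeCore_coprime (G := K) 2
  rw [h, Subgroup.card_top, Nat.coprime_two_right] at h1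
  exact Nat.not_even_iff_odd.mpr h1 (even_card_of_quasisimple hFT hK.2)

theorem centralizer_zpowers (t : G) :
    centralizer ((zpowers t : Subgroup G) : Set G) = centralizer ({t} : Set G) := by
  rw [Subgroup.zpowers_eq_closure, Subgroup.centralizer_closure]

theorem isPGroup_zpowers {t : G} (ht : orderOf t = 2) : IsPGroup 2 (zpowers t) :=
  IsPGroup.of_card (n := 1) (by rw [Nat.card_zpowers, ht, pow_one])

theorem component_centralizer_le_layer (hFT : OddSolvable.{u})
    (hL2 : Cfsg.pLayer 2 G = Cfsg.layer G) {t : G} (ht : orderOf t = 2) {L : Subgroup G}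
    (hLt : L ≤ centralizer ({t} : Set G))
    (hL : Cfsg.IsComponent (L.subgroupOf (centralizer ({t} : Set G)))) :
    Cfsg.IsPComponentOf 2 L (centralizer ({t} : Set G)) ∧ L ≤ Cfsg.layer G := by
  have hp : Cfsg.IsPComponentOf 2 L (centralizer ({t} : Set G)) :=
    ⟨hLt, component_isPComponent_two hFT hL⟩
  refine ⟨hp, ?_⟩
  have h := pLayer_two_centralizer_le (G := G) (isPGroup_zpowers ht)
  rw [centralizer_zpowers t, hL2] at h
  exact fun x hx => h ⟨⟨x, hLt hx⟩, pComponent_le_pLayer hp.2
    (show (⟨x, hLt hx⟩ : centralizer ({t} : Set G)) ∈ L.subgroupOf _ from hx), rfl⟩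

end CfsgLib.FTDep
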