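import Cfsg.Agent.Lib.FTDep.Basic
import Cfsg.Agent.Lib.Intrinsic.Basic

/-!
# Images of odd normal subgroups of centralizers in the quotient by the core

For an involution `d` of `Γ`, an odd subgroup `Q ≤ C(d)` normalized by `C(d)` maps into
`O(C(π d))`; so it normalizes every component of `Γ/O(Γ)` and is trivial when it centralizes them all.
-/

set_option autoImplicit false
set_option linter.style.haveILetI false
set_option linter.unusedSectionVars false

universe u

namespace CfsgLib.FTDep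

open Subgroup
open CfsgLib.Components CfsgLib.Signalizer
open scoped commutatorElement Pointwise

variable {Γ : Type u} [Group Γ] [Finite Γ]

/-- The data: an involution `d` and an odd subgroup `Q ≤ C(d)` normalized by `C(d)`. -/
structure CoreDatum (d : Γ) (Q : Subgroup Γ) : Prop where
  two : orderOf d = 2
  odd : Odd (Nat.card Q)
  le : Q ≤ centralizer ({d} : Set Γ)
  norm : centralizer ({d} : Set Γ) ≤ normalizer (Q : Set Γ)

namespace CoreDatum

variable {d : Γ} {Q : Subgroup Γ}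

theorem orderOf_proj (h : CoreDatum d Q) : orderOf (modCore 2 Γ d) = 2 := by
  refine orderOf_eq_prime (by rw [← map_pow, ← h.two, pow_orderOf_eq_one, map_one]) fun h1 => ?_
  have h2 := CfsgLib.Intrinsic.orderOf_odd_of_proj_eq_one (Γ := Γ) h1
  rw [h.two] at h2
  exact Nat.not_even_iff_odd.mpr h2 even_two

theorem map_le (h : CoreDatum d Q) :
    Q.map (modCore 2 Γ) ≤ (Cfsg.pPrimeCore 2 (centralizer ({modCore 2 Γ d} : Set _))).map
      (centralizer ({modCore 2 Γ d} : Set _)).subtype := by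
  set C := centralizer ({modCore 2 Γ d} : Set (Γ ⧸ Cfsg.pPrimeCore 2 Γ)) with hC
  have hQC : Q.map (modCore 2 Γ) ≤ C := by
    rintro _ ⟨q, hq, rfl⟩
    rw [Subgroup.mem_centralizer_singleton_iff, ← map_mul, ← map_mul,
      Subgroup.mem_centralizer_singleton_iff.mp (h.le hq)]
  rw [← Subgroup.map_subgroupOf_eq_of_le hQC]
  refine Subgroup.map_mono (le_pPrimeCore
    ((Subgroup.normal_subgroupOf_iff_le_normalizer hQC).mpr fun x hx => ?_) ?_)
  · have hd2 : d ^ 2 = 1 := by rw [← h.two, pow_orderOf_eq_one]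
    obtain ⟨y, rfl, hy⟩ := CfsgLib.Intrinsic.exists_centralizing_lift hd2
      (Subgroup.mem_centralizer_singleton_iff.mp hx)
    exact Subgroup.le_normalizer_map (modCore 2 Γ)
      ⟨y, h.norm (Subgroup.mem_centralizer_singleton_iff.mpr hy.eq), rfl⟩
  · rw [Nat.card_congr (Subgroup.subgroupOfEquivOfLe hQC).toEquiv, Nat.coprime_two_right]
    exact h.odd.of_dvd_nat (Subgroup.card_map_dvd _ _)

theorem proj_odd (h : CoreDatum d Q) {q : Γ} (hq : q ∈ Q) : (orderOf (modCore 2 Γ q)).Coprime 2 := by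
  rw [Nat.coprime_two_right]
  exact h.odd.of_dvd_nat ((orderOf_map_dvd _ q).trans (Subgroup.orderOf_dvd_natCard Q hq))

/-- Images of `Q` normalize every component. -/
theorem normalizes (h : CoreDatum d Q) {M : Subgroup (Γ ⧸ Cfsg.pPrimeCore 2 Γ)}
    (hM : Cfsg.IsComponent M) {q : Γ} (hq : q ∈ Q) :
    modCore 2 Γ q ∈ normalizer (M : Set (Γ ⧸ Cfsg.pPrimeCore 2 Γ)) := by
  haveI : Fact (Nat.Prime 2) := ⟨Nat.prime_two⟩
  set δ := modCore 2 Γ d with hδ
  have hN : normalizer ((zpowers δ : Subgroup _) : Set (Γ ⧸ Cfsg.pPrimeCore 2 Γ)) =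
      centralizer ({δ} : Set (Γ ⧸ Cfsg.pPrimeCore 2 Γ)) := by
    refine le_antisymm (fun x hx => ?_) (centralizer_zpowers δ ▸ Subgroup.centralizer_le_normalizer _)
    have h1 : x * δ * x⁻¹ ∈ zpowers δ :=
      (Subgroup.mem_normalizer_iff.mp hx δ).mp (Subgroup.mem_zpowers δ)
    obtain ⟨k, hk⟩ := Subgroup.mem_zpowers_iff.mp h1
    rw [← zpow_mod_orderOf, h.orderOf_proj] at hk
    rcases Int.emod_two_eq k with h0 | h0 <;> rw [show ((2 : ℕ) : ℤ) = 2 from rfl, h0] at hk
    · rw [zpow_zero, eq_comm, conj_eq_one_iff] at hk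
      have := h.orderOf_proj
      rw [← hδ, hk, orderOf_one] at this
      omega
    · rw [zpow_one, eq_comm, mul_inv_eq_iff_eq_mul] at hk
      exact Subgroup.mem_centralizer_singleton_iff.mpr hk
  have h2 := local_normalizes_component (p := 2) (Core.pPrimeCore_quotient_pPrimeCore 2 Γ)
    (isPGroup_zpowers h.orderOf_proj) hM
  rw [hN, Subgroup.map_sup] at h2
  exact h2 (Subgroup.mem_sup_right (h.map_le ⟨q, hq, rfl⟩))

/-- Unless `d` acts fully on `M`, `Q` centralizes `M`. -/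
theorem centralizes_of_ne (h : CoreDatum d Q) {M : Subgroup (Γ ⧸ Cfsg.pPrimeCore 2 Γ)}
    (hM : Cfsg.IsComponent M) (hne : ⁅M, zpowers (modCore 2 Γ d)⁆ ≠ M) :
    Q.map (modCore 2 Γ) ≤ centralizer (M : Set (Γ ⧸ Cfsg.pPrimeCore 2 Γ)) := by
  haveI : Fact (Nat.Prime 2) := ⟨Nat.prime_two⟩
  have h1 := component_commutes_core_centralizer (p := 2) (Core.pPrimeCore_quotient_pPrimeCore 2 Γ)
    h.orderOf_proj hM hne
  rw [Subgroup.commutator_comm, Subgroup.commutator_eq_bot_iff_le_centralizer] at h1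
  exact h.map_le.trans h1

/-- Images of `Q` centralize `O₂`. -/
theorem centralizes_pCore (h : CoreDatum d Q) :
    Q.map (modCore 2 Γ) ≤ centralizer (Cfsg.pCore 2 (Γ ⧸ Cfsg.pPrimeCore 2 Γ) : Set _) := by
  haveI : Fact (Nat.Prime 2) := ⟨Nat.prime_two⟩
  set δ := modCore 2 Γ d with hδ
  rintro _ ⟨q, hq, rfl⟩
  obtain ⟨z, hz, hzq⟩ := h.map_le ⟨q, hq, rfl⟩
  refine Subgroup.zpowers_le.mp (Core.pq_lemma (isPGroup_zpowers h.orderOf_proj)
    (Q := zpowers (modCore 2 Γ q)) (by rw [Nat.card_zpowers]; exact h.proj_odd hq)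
    (pCore_isPGroup 2) ?_ (haveI := pCore_normal (G := Γ ⧸ Cfsg.pPrimeCore 2 Γ) 2;
      Subgroup.le_normalizer_of_normal)
    (haveI := pCore_normal (G := Γ ⧸ Cfsg.pPrimeCore 2 Γ) 2; Subgroup.le_normalizer_of_normal) ?_)
  · rw [centralizer_zpowers, Subgroup.zpowers_le, Subgroup.mem_centralizer_singleton_iff]
    rw [← hzq]
    exact (Subgroup.mem_centralizer_singleton_iff.mp z.2).symm
  · intro y hy
    rw [centralizer_zpowers, Subgroup.mem_centralizer_singleton_iff]
    have hyC : y ∈ centralizer ({δ} : Set (Γ ⧸ Cfsg.pPrimeCore 2 Γ)) := by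
      rw [← centralizer_zpowers]; exact hy.2
    haveI := pCore_normal (G := Γ ⧸ Cfsg.pPrimeCore 2 Γ) 2
    have h1 : (⟨y, hyC⟩ : centralizer ({δ} : Set (Γ ⧸ Cfsg.pPrimeCore 2 Γ))) ∈
        Cfsg.pCore 2 (centralizer ({δ} : Set (Γ ⧸ Cfsg.pPrimeCore 2 Γ))) :=
      Core.pCore_subgroupOf_le _ hy.1
    have h2 := Subgroup.mem_centralizer_iff.mp
      (Subgroup.commutator_eq_bot_iff_le_centralizer.mp pPrimeCore_commutes_pCore hz) _ h1
    rw [← hzq]
    exact congrArg Subtype.val h2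

/-- An element of `Q` centralizing every component is in the core. -/
theorem mem_core (h : CoreDatum d Q) {q : Γ} (hq : q ∈ Q)
    (hc : ∀ M : Subgroup (Γ ⧸ Cfsg.pPrimeCore 2 Γ), Cfsg.IsComponent M →
      modCore 2 Γ q ∈ centralizer (M : Set (Γ ⧸ Cfsg.pPrimeCore 2 Γ))) :
    q ∈ Cfsg.pPrimeCore 2 Γ := by
  haveI : Fact (Nat.Prime 2) := ⟨Nat.prime_two⟩
  refine (QuotientGroup.eq_one_iff q).mp ?_
  set x := modCore 2 Γ q with hx
  show x = 1
  set F := Cfsg.generalizedFittingSubgroup (Γ ⧸ Cfsg.pPrimeCore 2 Γ) with hF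
  have hxc : x ∈ centralizer (F : Set (Γ ⧸ Cfsg.pPrimeCore 2 Γ)) := by
    have hle : F ≤ centralizer ({x} : Set (Γ ⧸ Cfsg.pPrimeCore 2 Γ)) := by
      rw [hF, Cfsg.generalizedFittingSubgroup,
        fitting_eq_pCore_of_core_bot (Core.pPrimeCore_quotient_pPrimeCore 2 Γ)]
      refine sup_le (layer_le_iff.mpr fun M hM y hy => ?_) fun y hy => ?_
      · exact Subgroup.mem_centralizer_singleton_iff.mpr (Subgroup.mem_centralizer_iff.mp (hc M hM) y hy)
      · exact Subgroup.mem_centralizer_singleton_iff.mpr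
          (Subgroup.mem_centralizer_iff.mp (h.centralizes_pCore ⟨q, hq, rfl⟩) y hy)
    exact Subgroup.mem_centralizer_iff.mpr fun y hy =>
      Subgroup.mem_centralizer_singleton_iff.mp (hle hy)
  have hxF := centralizer_gFitting_le hxc
  have hxZ : (⟨x, hxF⟩ : F) ∈ Subgroup.center F :=
    Subgroup.mem_center_iff.mpr fun y => Subtype.ext (Subgroup.mem_centralizer_iff.mp hxc y y.2)
  have hfit : x ∈ Cfsg.fittingSubgroup (Γ ⧸ Cfsg.pPrimeCore 2 Γ) := by
    refine subnormal_nilpotent_le_fitting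
      (((inferInstance : (Subgroup.center F).Normal).isSubnormal.trans'
        gFitting_normal.isSubnormal)) ?_ (Subgroup.mem_map.mpr ⟨⟨x, hxF⟩, hxZ, rfl⟩)
    haveI : Group.IsNilpotent (Subgroup.center F) :=
      Subgroup.nilpotent_iff_lowerCentralSeries.mpr ⟨1, by
        rw [Subgroup.lowerCentralSeries_succ, Subgroup.lowerCentralSeries_zero,
          Subgroup.commutator_eq_bot_iff_le_centralizer]
        exact fun a _ => Subgroup.mem_centralizer_iff.mpr fun b _ => mul_comm' b a⟩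
    exact Group.nilpotent_of_mulEquiv (Subgroup.equivMapOfInjective _ _ (Subgroup.subtype_injective _))
  rw [fitting_eq_pCore_of_core_bot (Core.pPrimeCore_quotient_pPrimeCore 2 Γ)] at hfit
  obtain ⟨j, hj⟩ := IsPGroup.iff_orderOf.mp (pCore_isPGroup 2) ⟨x, hfit⟩
  rw [Subgroup.orderOf_mk] at hj
  exact orderOf_eq_one_iff.mp
    (Nat.eq_one_of_dvd_coprimes ((h.proj_odd hq).pow_right j) dvd_rfl (hj ▸ dvd_rfl))

end CoreDatum

end CfsgLib.FTDep
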