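import Cfsg.Agent.Lib.FTDep.FixedGeneration

/-!
# `C_Y(B)` for `Y = [Y, A]` solvable: the induction
-/

set_option autoImplicit false
set_option linter.style.haveILetI false
set_option linter.unusedSectionVars false

universe u

namespace CfsgLib.FTDep

open Subgroup
open scoped commutatorElement

variable {G : Type u} [Group G] [Finite G] {p : ℕ} [hp : Fact p.Prime] {A B Y : Subgroup G}

/-- The derived series of `Y` inside `G`. -/
def derivedIn (Y : Subgroup G) : ℕ → Subgroup G
  | 0 => Y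
  | n + 1 => ⁅derivedIn Y n, derivedIn Y n⁆

theorem derivedIn_le (Y : Subgroup G) : ∀ n, derivedIn Y n ≤ Y
  | 0 => le_rfl
  | n + 1 => (Subgroup.commutator_le_self _).trans (derivedIn_le Y n)

theorem derivedIn_norm {X Y : Subgroup G} (h : X ≤ normalizer (Y : Set G)) :
    ∀ n, X ≤ normalizer (derivedIn Y n : Set G)
  | 0 => h
  | n + 1 => fun a ha => by
    rw [Core.mem_normalizer_iff_conj_smul_eq, Core.conj_smul_eq_map,
      show derivedIn Y (n + 1) = ⁅derivedIn Y n, derivedIn Y n⁆ from rfl, Subgroup.map_commutator,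
      ← Core.conj_smul_eq_map, Core.mem_normalizer_iff_conj_smul_eq.mp (derivedIn_norm h n ha)]

theorem derivedIn_eq (Y : Subgroup G) :
    ∀ n, derivedIn Y n = (derivedSeries Y n).map Y.subtype
  | 0 => by rw [derivedSeries_zero, ← MonoidHom.range_eq_map, Subgroup.range_subtype]; rfl
  | n + 1 => by
    rw [derivedSeries_succ, Subgroup.map_commutator, ← derivedIn_eq Y n]; rfl

namespace Setup

/-- Either `Y` is abelian, or some `T` reduces the claim to the quotient by `T`. -/
theorem exists_reduction (S : Setup p A B Y) [Group.IsSolvable Y] (hYA : ⁅Y, A⁆ = Y) :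
    ⁅Y, Y⁆ = ⊥ ∨ ∃ T : Subgroup G, T ≤ Y ∧ T ≠ ⊥ ∧ A ≤ normalizer (T : Set G) ∧
      Y ≤ normalizer (T : Set G) ∧
      (Y ⊓ centralizer (B : Set G) ≤ rightSide A B Y ⊔ (T ⊓ centralizer (B : Set G)) →
        T ⊓ centralizer (B : Set G) ≤ rightSide A B Y) := by
  classical
  by_cases hab : ⁅Y, Y⁆ = ⊥
  · exact Or.inl hab
  right
  have hex : ∃ k, derivedIn Y k ≤ centralizer (Y : Set G) := by
    obtain ⟨N, hN⟩ := (inferInstance : Group.IsSolvable Y).solvable
    exact ⟨N, by rw [derivedIn_eq, hN, Subgroup.map_bot]; exact bot_le⟩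
  obtain ⟨m, hm⟩ : ∃ m, Nat.find hex = m + 1 := by
    refine ⟨Nat.find hex - 1, ?_⟩
    have : Nat.find hex ≠ 0 := fun h0 => by
      have := Nat.find_spec hex
      rw [h0] at this
      exact hab (Subgroup.commutator_eq_bot_iff_le_centralizer.mpr this)
    omega
  have hnot : ¬ derivedIn Y m ≤ centralizer (Y : Set G) := Nat.find_min hex (by omega)
  have hcen : derivedIn Y (m + 1) ≤ centralizer (Y : Set G) := hm ▸ Nat.find_spec hex
  set U := derivedIn Y m with hU
  have hUY := derivedIn_le Y m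
  have hUA := derivedIn_norm S.norm m
  have hUn := derivedIn_norm (Subgroup.le_normalizer (H := Y)) m
  by_cases hU' : ⁅U, U⁆ = ⊥
  · haveI : IsMulCommutative U := ⟨⟨fun a b => Subtype.ext
      (Subgroup.mem_centralizer_iff.mp (Subgroup.commutator_eq_bot_iff_le_centralizer.mp hU' b.2) a a.2)⟩⟩
    refine ⟨⁅U, Y⁆, (Core.commutator_le_of_normalizes hUn).trans hUY,
      fun h0 => hnot (Subgroup.commutator_eq_bot_iff_le_centralizer.mp h0), ?_,
      Subgroup.normalizer_commutator_ge_right U Y, fun _ => S.fixed_commutator_le hYA hUY hUn hUA⟩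
    intro a ha
    rw [Core.mem_normalizer_iff_conj_smul_eq, Core.conj_smul_eq_map, Subgroup.map_commutator,
      ← Core.conj_smul_eq_map, ← Core.conj_smul_eq_map,
      Core.mem_normalizer_iff_conj_smul_eq.mp (hUA ha),
      Core.mem_normalizer_iff_conj_smul_eq.mp (S.norm ha)]
  · exact ⟨⁅U, U⁆, derivedIn_le Y (m + 1), hU', derivedIn_norm S.norm (m + 1),
      derivedIn_norm Subgroup.le_normalizer (m + 1), fun h => S.fixed_derived_le hUY hUA hcen h⟩

theorem fixed_of_abelian (S : Setup p A B Y) (hab : ⁅Y, Y⁆ = ⊥) (hYA : ⁅Y, A⁆ = Y) :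
    Y ⊓ centralizer (B : Set G) ≤ rightSide A B Y := by
  haveI : IsMulCommutative Y := ⟨⟨fun a b => Subtype.ext
    (Subgroup.mem_centralizer_iff.mp (Subgroup.commutator_eq_bot_iff_le_centralizer.mp hab b.2) a a.2)⟩⟩
  intro d hd
  obtain ⟨u, hu, c, hc, rfl⟩ := Core.exists_mul_centralizing (S.normInfC S.le S.norm)
    (S.cop le_rfl inf_le_left) (Or.inl (S.solv le_rfl)) hd
  have hc1 : c = 1 := Subgroup.mem_bot.mp ((Core.abelian_inf_eq_bot S.norm (S.cop le_rfl le_rfl)).le
    ⟨⟨hc.1.1, hc.2⟩, hYA.ge hc.1.1⟩)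
  rw [hc1, mul_one]
  exact S.le_rightSide le_rfl S.cyclicMod_self
    ⟨Core.commutator_le_of_normalizes (S.normInfC S.le S.norm) hu, hu⟩

end Setup

private theorem map_subgroupOf_commutator {H K L : Subgroup G} (hK : K ≤ H) (hL : L ≤ H) :
    ⁅K.subgroupOf H, L.subgroupOf H⁆ = (⁅K, L⁆).subgroupOf H := by
  apply Subgroup.map_injective H.subtype_injective
  rw [Subgroup.map_commutator, Subgroup.map_subgroupOf_eq_of_le hK,
    Subgroup.map_subgroupOf_eq_of_le hL, Subgroup.map_subgroupOf_eq_of_le]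
  exact (Subgroup.commutator_mono hK hL).trans (Subgroup.commutator_le_self H)

/-- The generation of `C_Y(B)`. -/
theorem fixed_generation : ∀ (n : ℕ) {G : Type u} [Group G] [Finite G] {A B Y : Subgroup G},
    Setup p A B Y → Group.IsSolvable Y → ⁅Y, A⁆ = Y → Nat.card Y = n →
    Y ⊓ centralizer (B : Set G) ≤ rightSide A B Y := by
  intro n
  induction n using Nat.strong_induction_on with
  | _ n ih =>
  intro G _ _ A B Y S hsol hYA hn
  haveI := hsol
  obtain hab | ⟨T, hTY, hT1, hTA, hTn, hlast⟩ := S.exists_reduction hYA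
  · exact S.fixed_of_abelian hab hYA
  set H := normalizer (T : Set G) with hH
  haveI : (T.subgroupOf H).Normal := Subgroup.normal_in_normalizer
  set π := QuotientGroup.mk' (T.subgroupOf H) with hπ
  have eqker : ∀ u v : H, π u = π v → (u : G)⁻¹ * v ∈ T := fun u v huv => by
    have h1 : π (u⁻¹ * v) = 1 := by rw [map_mul, map_inv, huv, inv_mul_cancel]
    exact (QuotientGroup.eq_one_iff (u⁻¹ * v)).mp h1
  have hAH : A ≤ H := hTA
  have hBH : B ≤ H := S.le.trans hAH
  set A' := (A.subgroupOf H).map π with hA'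
  set B' := (B.subgroupOf H).map π with hB'
  set Y' := (Y.subgroupOf H).map π with hY'
  have hcard : Nat.card Y' ∣ Nat.card Y := (Subgroup.card_map_dvd _ π).trans
    (dvd_of_eq (Nat.card_congr (Subgroup.subgroupOfEquivOfLe hTn).toEquiv))
  have hlt : Nat.card Y' < n := by
    refine hn ▸ lt_of_le_of_ne (Nat.le_of_dvd Nat.card_pos hcard) fun he => ?_
    refine hT1 ((Subgroup.eq_bot_iff_forall _).mpr fun t ht => ?_)
    have hinj : Function.Injective (π.subgroupMap (Y.subgroupOf H)) := by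
      refine (Nat.bijective_iff_surjective_and_card _).mpr ⟨π.subgroupMap_surjective _, ?_⟩ |>.1
      rw [← hY', he, Nat.card_congr (Subgroup.subgroupOfEquivOfLe hTn).toEquiv]
    have h1 : (⟨⟨t, Subgroup.le_normalizer ht⟩, hTY ht⟩ : Y.subgroupOf H) = 1 := hinj (Subtype.ext (by
      rw [map_one]
      exact (QuotientGroup.eq_one_iff _).mpr ht))
    exact congrArg (fun z : Y.subgroupOf H => ((z : H) : G)) h1
  have S' : Setup p A' B' Y' :=
    { pgroup := (S.pgroup.comap_of_injective _ H.subtype_injective).map π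
      comm := ⟨⟨fun a b => by
        obtain ⟨_, u, hu, rfl⟩ := a
        obtain ⟨_, v, hv, rfl⟩ := b
        refine Subtype.ext ?_
        show π u * π v = π v * π u
        rw [← map_mul, ← map_mul]
        exact congrArg π (Subtype.ext (S.commA hu hv))⟩⟩
      le := Subgroup.map_mono (Subgroup.comap_mono S.le)
      notDvd := fun hd => S.notDvd (hd.trans hcard)
      norm := by
        rintro _ ⟨a, ha, rfl⟩
        exact Subgroup.le_normalizer_map π ⟨a, Subgroup.le_normalizer_comap H.subtype (S.norm ha), rfl⟩ }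
  have hsol' : Group.IsSolvable Y' := by
    haveI : Group.IsSolvable (Y.subgroupOf H) :=
      Group.isSolvable_of_isSolvable_injective (f := (Subgroup.subgroupOfEquivOfLe hTn).toMonoidHom)
        (Subgroup.subgroupOfEquivOfLe hTn).injective
    exact Group.isSolvable_of_surjective (π.subgroupMap_surjective _)
  have hYA' : ⁅Y', A'⁆ = Y' := by
    rw [hY', hA', ← Subgroup.map_commutator, map_subgroupOf_commutator hTn hAH, hYA]
  have hRY : rightSide A B Y ≤ H := S.rightSide_le.trans (inf_le_left.trans hTn)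
  have hkey : rightSide A' B' Y' ≤ ((rightSide A B Y).subgroupOf H).map π := by
    refine iSup_le fun ⟨B₀', hle', hc'⟩ => ?_
    set B₀ := B ⊓ (B₀'.comap π).map H.subtype with hB₀
    have hB₀' : ∀ b ∈ B₀, ∃ hb : b ∈ H, π ⟨b, hb⟩ ∈ B₀' := by
      rintro b ⟨-, z, hz, rfl⟩
      exact ⟨z.2, hz⟩
    have hc : CyclicMod B B₀ := by
      obtain ⟨_, ⟨b, hb, rfl⟩, hgen⟩ := hc'
      refine ⟨b, hb, fun x hx => ?_⟩
      have hn' : zpowers (π b) ≤ normalizer (B₀' : Set (H ⧸ T.subgroupOf H)) := by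
        rw [Subgroup.zpowers_le]
        refine Subgroup.centralizer_le_normalizer _ (Subgroup.mem_centralizer_iff.mpr fun y hy => ?_)
        obtain ⟨v, hv, rfl⟩ := hle' hy
        rw [← map_mul, ← map_mul]
        exact congrArg π (Subtype.ext (S.commA (S.le hv) (S.le hb)))
      obtain ⟨β, hβ, _, ⟨k, rfl⟩, he⟩ := (Core.mem_sup_iff_mul' hn').mp
        (by rw [sup_comm]; exact hgen ⟨⟨x, hBH hx⟩, hx, rfl⟩ :
          π ⟨x, hBH hx⟩ ∈ zpowers (π b) ⊔ B₀')
      rw [show x = (x * ((b : G) ^ k)⁻¹) * (b : G) ^ k by group]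
      refine mul_mem (Subgroup.mem_sup_left (Subgroup.mem_inf.mpr ⟨mul_mem hx (inv_mem (zpow_mem hb k)),
        ⟨⟨x, hBH hx⟩ * (b ^ k)⁻¹, ?_, by simp⟩⟩))
        (Subgroup.mem_sup_right (Subgroup.zpow_mem_zpowers _ k))
      show π (⟨x, hBH hx⟩ * (b ^ k)⁻¹) ∈ B₀'
      rw [map_mul, map_inv, map_zpow, he, mul_inv_cancel_right]
      exact hβ
    have hC : Y' ⊓ centralizer (B₀' : Set (H ⧸ T.subgroupOf H)) ≤
        ((Y ⊓ centralizer (B₀ : Set G)).subgroupOf H).map π := by
      rintro _ ⟨⟨y, hy, rfl⟩, hyc⟩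
      obtain ⟨t, ht, htc⟩ := Core.exists_centralizing_in_coset (A := B₀) (N := T) (k := (y : G))
        ((inf_le_left.trans hBH)) (S.cop (inf_le_left.trans S.le) hTY)
        (Or.inl (S.solv (inf_le_left.trans S.le))) fun a ha => by
          obtain ⟨haH, haB⟩ := hB₀' a ha
          have h1 : π y = π (⟨a, haH⟩ * y * ⟨a, haH⟩⁻¹) := by
            rw [map_mul, map_mul, map_inv, Subgroup.mem_centralizer_iff.mp hyc _ haB,
              mul_inv_cancel_right]
          exact eqker _ _ h1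
      refine ⟨y * ⟨t, Subgroup.le_normalizer ht⟩, ⟨mul_mem hy (hTY ht), htc⟩, ?_⟩
      rw [map_mul, show π ⟨t, _⟩ = 1 from (QuotientGroup.eq_one_iff _).mpr ht, mul_one]
    have hpH : piece A Y B₀ ≤ H := (S.piece_le inf_le_left).trans (inf_le_left.trans hTn)
    have hP : piece A' Y' B₀' ≤ ((piece A Y B₀).subgroupOf H).map π := by
      refine (Subgroup.commutator_mono hC le_rfl).trans (le_of_eq ?_)
      rw [hA', ← Subgroup.map_commutator, map_subgroupOf_commutator (inf_le_left.trans hTn) hAH]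
    rintro z ⟨⟨-, hzB⟩, hzP⟩
    obtain ⟨x, hx, rfl⟩ := hP hzP
    obtain ⟨t, ht, htc⟩ := Core.exists_centralizing_in_coset (A := B) (N := T ⊓ piece A Y B₀)
      (k := (x : G))
      ((le_inf (S.le.trans hTA) (S.le.trans (S.piece_norm B₀))).trans
        Subgroup.inf_normalizer_le_normalizer_inf)
      (S.cop S.le (inf_le_left.trans hTY)) (Or.inl (S.solv S.le)) fun a ha => by
        refine Subgroup.mem_inf.mpr ⟨?_, mul_mem (inv_mem hx)
          (Core.conj_mem_of_le_normalizer (S.piece_norm B₀) (S.le ha) hx)⟩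
        have h1 : π x = π (⟨a, hBH ha⟩ * x * ⟨a, hBH ha⟩⁻¹) := by
          rw [map_mul, map_mul, map_inv,
            Subgroup.mem_centralizer_iff.mp hzB _ ⟨⟨a, hBH ha⟩, ha, rfl⟩, mul_inv_cancel_right]
        exact eqker _ _ h1
    refine ⟨x * ⟨t, Subgroup.le_normalizer ht.1⟩, ?_, ?_⟩
    · have hm : (x : G) * t ∈ piece A Y B₀ := mul_mem hx ht.2
      exact S.le_rightSide inf_le_left hc ⟨⟨(S.piece_le inf_le_left hm).1, htc⟩, hm⟩
    · rw [map_mul, show π ⟨t, _⟩ = 1 from (QuotientGroup.eq_one_iff _).mpr ht.1, mul_one]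
  have hD : Y ⊓ centralizer (B : Set G) ≤ rightSide A B Y ⊔ (T ⊓ centralizer (B : Set G)) := by
    intro d hd
    have hdH : d ∈ H := hTn hd.1
    have h1 : π ⟨d, hdH⟩ ∈ Y' ⊓ centralizer (B' : Set (H ⧸ T.subgroupOf H)) := by
      refine ⟨⟨⟨d, hdH⟩, hd.1, rfl⟩, Subgroup.mem_centralizer_iff.mpr ?_⟩
      rintro _ ⟨b, hb, rfl⟩
      rw [← map_mul, ← map_mul]
      exact congrArg π (Subtype.ext (Subgroup.mem_centralizer_iff.mp hd.2 b hb))
    obtain ⟨r, hr, hre⟩ := hkey (ih _ hlt S' hsol' hYA' rfl h1)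
    have h2 : (r : G)⁻¹ * d ∈ T := eqker _ _ hre
    rw [show d = (r : G) * ((r : G)⁻¹ * d) by group]
    exact mul_mem (Subgroup.mem_sup_left hr) (Subgroup.mem_sup_right
      (Subgroup.mem_inf.mpr ⟨h2, mul_mem (inv_mem (S.rightSide_le hr).2) hd.2⟩))
  exact hD.trans (sup_le le_rfl (hlast hD))

end CfsgLib.FTDep
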