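import Cfsg.Agent.Lib.FTDep.CoreImage
import Cfsg.Agent.Lib.FTDep.FixedGenerationMain
import Cfsg.Prelude.Def_Balance

/-!
# The signalizer functor of a core-separated pair of four-groups

`fixed_mem_core`: `[O(C(a)), A₁] ∩ C(A₁) ≤ O(C(A₁))`; `core_separated_signalizer`.
-/

set_option autoImplicit false
set_option linter.style.haveILetI false
set_option linter.unusedSectionVars false

universe u

namespace CfsgLib.FTDep

open Subgroup
open CfsgLib.Components CfsgLib.Signalizer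
open scoped commutatorElement Pointwise

variable {G : Type u} [Group G] [Finite G]

/-- `O(C(S))` inside `G`. -/
abbrev coreCent (S : Set G) : Subgroup G :=
  (Cfsg.oddCore ↥(centralizer S)).map (centralizer S).subtype

theorem coreCent_odd (S : Set G) : Odd (Nat.card (coreCent S)) := by
  rw [coreCent, Subgroup.card_map_of_injective (centralizer S).subtype_injective,
    ← Nat.coprime_two_right]
  exact pPrimeCore_coprime 2

theorem coreCent_le (S : Set G) : coreCent S ≤ centralizer S := Subgroup.map_subtype_le _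

theorem coreCent_norm (S : Set G) : centralizer S ≤ normalizer (coreCent S : Set G) := by
  haveI := pPrimeCore_normal (G := ↥(centralizer S)) 2
  intro x hx
  exact Subgroup.le_normalizer_map (centralizer S).subtype
    ⟨⟨x, hx⟩, (Subgroup.normalizer_eq_top _).ge (Subgroup.mem_top _), rfl⟩

theorem mem_coreCent_of {S : Set G} {x : G} (hx : x ∈ centralizer S) {Q : Subgroup G}
    (hQ : Q ≤ centralizer S) (hn : centralizer S ≤ normalizer (Q : Set G))
    (ho : Odd (Nat.card Q)) (hxQ : x ∈ Q) : x ∈ coreCent S := by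
  refine ⟨⟨x, hx⟩, le_pPrimeCore ((Subgroup.normal_subgroupOf_iff_le_normalizer hQ).mpr hn) ?_
    (show (⟨x, hx⟩ : centralizer S) ∈ Q.subgroupOf (centralizer S) from hxQ), rfl⟩
  rwa [Nat.card_congr (Subgroup.subgroupOfEquivOfLe hQ).toEquiv, Nat.coprime_two_right]

/-- The hypotheses, symmetric in the two four-groups. -/
structure Pair (A₁ A₂ : Subgroup G) : Prop where
  sq₁ : ∀ x ∈ A₁, x ^ 2 = 1
  comm₁ : ∀ x ∈ A₁, ∀ y ∈ A₁, x * y = y * x
  card₁ : Nat.card A₁ = 4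
  sq₂ : ∀ x ∈ A₂, x ^ 2 = 1
  comm₂ : ∀ x ∈ A₂, ∀ y ∈ A₂, x * y = y * x
  card₂ : Nat.card A₂ = 4
  comm : ∀ x ∈ A₁, ∀ y ∈ A₂, x * y = y * x
  sep : ∀ a ∈ A₁ ⊔ A₂, a ≠ 1 → ∀ E : Subgroup ↥(centralizer ({a} : Set G)), Cfsg.IsPComponent 2 E →
    ⁅E.map (centralizer ({a} : Set G)).subtype, A₁⁆ ≤ coreCent ({a} : Set G) ∨
    ⁅E.map (centralizer ({a} : Set G)).subtype, A₂⁆ ≤ coreCent ({a} : Set G)

namespace Pair

variable {A₁ A₂ : Subgroup G}

theorem swap (P : Pair A₁ A₂) : Pair A₂ A₁ :=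
  ⟨P.sq₂, P.comm₂, P.card₂, P.sq₁, P.comm₁, P.card₁, fun x hx y hy => (P.comm y hy x hx).symm,
    fun a ha ha1 E hE => (P.sep a (sup_comm A₂ A₁ ▸ ha) ha1 E hE).symm⟩

theorem exists_mul (P : Pair A₁ A₂) {a : G} (ha : a ∈ A₁ ⊔ A₂) :
    ∃ x ∈ A₁, ∃ y ∈ A₂, a = x * y := by
  have hn : A₁ ≤ normalizer (A₂ : Set G) := fun x hx =>
    Subgroup.centralizer_le_normalizer _ (Subgroup.mem_centralizer_iff.mpr fun y hy => (P.comm x hx y hy).symm)
  obtain ⟨x, hx, y, hy, h⟩ := (Core.mem_sup_iff_mul hn).mp ha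
  exact ⟨x, hx, y, hy, h⟩

theorem sup_comm' (P : Pair A₁ A₂) {a b : G} (ha : a ∈ A₁ ⊔ A₂) (hb : b ∈ A₁ ⊔ A₂) :
    a * b = b * a := by
  have hle : ∀ c, (c ∈ A₁ ∨ c ∈ A₂) → A₁ ⊔ A₂ ≤ centralizer ({c} : Set G) := by
    intro c hc
    refine sup_le (fun x hx => Subgroup.mem_centralizer_singleton_iff.mpr ?_)
      (fun x hx => Subgroup.mem_centralizer_singleton_iff.mpr ?_) <;> rcases hc with hc | hc
    · exact P.comm₁ x hx c hc
    · exact P.comm x hx c hc
    · exact (P.comm c hc x hx).symm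
    · exact P.comm₂ x hx c hc
  obtain ⟨x, hx, y, hy, rfl⟩ := P.exists_mul hb
  have h1 := Subgroup.mem_centralizer_singleton_iff.mp (hle x (Or.inl hx) ha)
  have h2 := Subgroup.mem_centralizer_singleton_iff.mp (hle y (Or.inr hy) ha)
  exact ((show Commute a x from h1).mul_right h2).eq

theorem le_centralizer (P : Pair A₁ A₂) {a : G} (ha : a ∈ A₁ ⊔ A₂) :
    A₁ ⊔ A₂ ≤ centralizer ({a} : Set G) := fun _ hx =>
  Subgroup.mem_centralizer_singleton_iff.mpr (P.sup_comm' hx ha)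

theorem le_centralizer₁ (P : Pair A₁ A₂) : A₁ ⊔ A₂ ≤ centralizer (A₁ : Set G) := fun _ hx =>
  Subgroup.mem_centralizer_iff.mpr fun _ hy => P.sup_comm' (Subgroup.mem_sup_left hy) hx

theorem orderOf_two (P : Pair A₁ A₂) {a : G} (ha : a ∈ A₁ ⊔ A₂) (ha1 : a ≠ 1) : orderOf a = 2 := by
  haveI : Fact (Nat.Prime 2) := ⟨Nat.prime_two⟩
  obtain ⟨x, hx, y, hy, rfl⟩ := P.exists_mul ha
  exact orderOf_eq_prime (by rw [(show Commute x y from P.comm x hx y hy).mul_pow, P.sq₁ x hx, P.sq₂ y hy, one_mul]) ha1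

theorem isPGroup₁ (P : Pair A₁ A₂) : IsPGroup 2 A₁ :=
  IsPGroup.of_card (n := 2) (by rw [P.card₁]; norm_num)

theorem datum (P : Pair A₁ A₂) {a : G} (ha : a ∈ A₁ ⊔ A₂) (ha1 : a ≠ 1) {K : Subgroup G}
    (haK : a ∈ K) :
    CoreDatum (Γ := K) ⟨a, haK⟩ ((coreCent ({a} : Set G)).subgroupOf K) := by
  refine ⟨by rw [Subgroup.orderOf_mk]; exact P.orderOf_two ha ha1, ?_, ?_, ?_⟩
  · exact (coreCent_odd ({a} : Set G)).of_dvd_nat (Subgroup.card_comap_dvd_of_injective _ _ K.subtype_injective)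
  · intro x hx
    exact Subgroup.mem_centralizer_singleton_iff.mpr (Subtype.ext
      (Subgroup.mem_centralizer_singleton_iff.mp (coreCent_le _ hx)))
  · intro x hx
    refine Subgroup.le_normalizer_comap K.subtype (coreCent_norm _ ?_)
    exact Subgroup.mem_centralizer_singleton_iff.mpr
      (congrArg Subtype.val (Subgroup.mem_centralizer_singleton_iff.mp hx))

/-- Every component of `C(c)/O(C(c))` is centralized by `A₁` or by `A₂`. -/
theorem separated (P : Pair A₁ A₂) {c : G} (hc : c ∈ A₁ ⊔ A₂) (hc1 : c ≠ 1)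
    {M : Subgroup (↥(centralizer ({c} : Set G)) ⧸ Cfsg.pPrimeCore 2 ↥(centralizer ({c} : Set G)))}
    (hM : Cfsg.IsComponent M) :
    (∀ x, ∀ hx : x ∈ A₁, modCore 2 _ (⟨x, P.le_centralizer hc (Subgroup.mem_sup_left hx)⟩ :
      centralizer ({c} : Set G)) ∈ centralizer (M : Set _)) ∨
    (∀ x, ∀ hx : x ∈ A₂, modCore 2 _ (⟨x, P.le_centralizer hc (Subgroup.mem_sup_right hx)⟩ :
      centralizer ({c} : Set G)) ∈ centralizer (M : Set _)) := by
  haveI : Fact (Nat.Prime 2) := ⟨Nat.prime_two⟩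
  obtain ⟨hE, hEM⟩ := isPComponent_pGen hM
  have key : ∀ {B : Subgroup G}, ⁅(pGen 2 (M.comap (modCore 2 (centralizer ({c} : Set G))))).map (centralizer ({c} : Set G)).subtype, B⁆ ≤
      coreCent ({c} : Set G) → ∀ (x : G), x ∈ B → ∀ hxC : x ∈ (centralizer ({c} : Set G)),
      modCore 2 (centralizer ({c} : Set G)) ⟨x, hxC⟩ ∈ centralizer (M : Set _) := by
    intro B hB x hx hxC
    refine Subgroup.mem_centralizer_iff.mpr fun m hm => ?_
    obtain ⟨e, he, rfl⟩ := hEM.ge hm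
    obtain ⟨z, hz, hze⟩ := hB (Subgroup.commutator_mem_commutator (Subgroup.mem_map_of_mem _ he) hx)
    have h1 : ⁅e, (⟨x, hxC⟩ : (centralizer ({c} : Set G)))⁆ ∈ Cfsg.pPrimeCore 2 (centralizer ({c} : Set G)) := by
      have : z = ⁅e, (⟨x, hxC⟩ : (centralizer ({c} : Set G)))⁆ := Subtype.ext hze
      exact this ▸ hz
    have h2 : modCore 2 (centralizer ({c} : Set G)) ⁅e, (⟨x, hxC⟩ : (centralizer ({c} : Set G)))⁆ = 1 := (QuotientGroup.eq_one_iff _).mpr h1
    rw [map_commutatorElement, commutatorElement_eq_one_iff_mul_comm] at h2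
    exact h2
  rcases P.sep c hc hc1 _ hE with h | h
  · exact Or.inl fun x hx => key h x hx _
  · exact Or.inr fun x hx => key h x hx _

/-- Elements normalizing `M` commute on it with everything centralizing it. -/
theorem commutator_centralizes {Q : Type*} [Group Q] {M : Subgroup Q} {u α : Q}
    (hu : u ∈ normalizer (M : Set Q)) (hα : α ∈ centralizer (M : Set Q)) :
    ⁅u, α⁆ ∈ centralizer (M : Set Q) := by
  rw [commutatorElement_def]
  exact mul_mem ((Subgroup.mem_normalizer_iff.mp (normalizer_le_normalizer_centralizer' M hu) α).mp hα)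
    (inv_mem hα)

/-- Commutators of `O(C(a)) ∩ C(c)` with `A₁` centralize the components centralized by `A₁`. -/
theorem commutator_act (P : Pair A₁ A₂) {a c : G} (ha : a ∈ A₁ ⊔ A₂) (ha1 : a ≠ 1)
    (hc : c ∈ A₁ ⊔ A₂)
    {M : Subgroup (↥(centralizer ({c} : Set G)) ⧸ Cfsg.pPrimeCore 2 ↥(centralizer ({c} : Set G)))}
    (hM : Cfsg.IsComponent M)
    (hA : ∀ x, ∀ hx : x ∈ A₁, modCore 2 _ (⟨x, P.le_centralizer hc (Subgroup.mem_sup_left hx)⟩ :
      centralizer ({c} : Set G)) ∈ centralizer (M : Set _))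
    {U : Subgroup G} (hU : U ≤ coreCent ({a} : Set G)) (hUc : U ≤ centralizer ({c} : Set G))
    {q : G} (hq : q ∈ ⁅U, A₁⁆) (hqc : q ∈ centralizer ({c} : Set G)) :
    modCore 2 _ (⟨q, hqc⟩ : centralizer ({c} : Set G)) ∈ centralizer (M : Set _) := by
  have hle : ⁅U, A₁⁆ ≤ ((centralizer (M : Set _)).comap (modCore 2 (centralizer ({c} : Set G)))).map (centralizer ({c} : Set G)).subtype := by
    rw [Subgroup.commutator_le]
    intro u hu x hx
    have hxC : x ∈ (centralizer ({c} : Set G)) := P.le_centralizer hc (Subgroup.mem_sup_left hx)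
    refine ⟨⁅(⟨u, hUc hu⟩ : (centralizer ({c} : Set G))), ⟨x, hxC⟩⁆, ?_, rfl⟩
    show modCore 2 (centralizer ({c} : Set G)) ⁅(⟨u, hUc hu⟩ : (centralizer ({c} : Set G))), ⟨x, hxC⟩⁆ ∈ centralizer (M : Set _)
    rw [map_commutatorElement]
    exact commutator_centralizes
      ((P.datum ha ha1 (P.le_centralizer hc ha : a ∈ (centralizer ({c} : Set G)))).normalizes hM
        (show (⟨u, hUc hu⟩ : (centralizer ({c} : Set G))) ∈ (coreCent ({a} : Set G)).subgroupOf (centralizer ({c} : Set G)) from hU hu)) (hA x hx)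
  obtain ⟨z, hz, hzq⟩ := hle hq
  have : z = ⟨q, hqc⟩ := Subtype.ext hzq
  exact this ▸ hz

end Pair

end CfsgLib.FTDep
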