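import Cfsg.Agent.Lib.FTDep.CoreSeparated

/-!
# `[O(C(a)), A₁] ∩ C(A₁) ≤ O(C(A₁))`
-/

set_option autoImplicit false
set_option linter.style.haveILetI false
set_option linter.unusedSectionVars false

universe u

namespace CfsgLib.FTDep

open Subgroup
open CfsgLib.Components CfsgLib.Signalizer
open scoped commutatorElement Pointwise

variable {G : Type u} [Group G] [Finite G]

theorem map_pLayer_centralizer_le {c : G} {T : Subgroup G} (hT : IsPGroup 2 T)
    (hcT : c ∈ T) (hTc : T ≤ centralizer ({c} : Set G)) :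
    (Cfsg.pLayer 2 ↥(centralizer (T : Set G))).map (centralizer (T : Set G)).subtype ≤
      (Cfsg.pLayer 2 ↥(centralizer ({c} : Set G))).map (centralizer ({c} : Set G)).subtype := by
  haveI : Fact (Nat.Prime 2) := ⟨Nat.prime_two⟩
  set Γ := centralizer ({c} : Set G) with hΓ
  have hle : centralizer (T : Set G) ≤ Γ :=
    Subgroup.centralizer_le (Set.singleton_subset_iff.mpr hcT)
  have hEq : centralizer ((T.comap Γ.subtype : Subgroup Γ) : Set Γ) =
      (centralizer (T : Set G)).subgroupOf Γ := by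
    ext x
    simp only [Subgroup.subgroupOf, Subgroup.mem_comap, Subgroup.mem_centralizer_iff]
    exact ⟨fun h y hy => congrArg Subtype.val (h ⟨y, hTc hy⟩ hy), fun h y hy => Subtype.ext (h y hy)⟩
  have h1 := pLayer_two_centralizer_le (G := Γ) (hT.comap_of_injective _ Γ.subtype_injective :
    IsPGroup 2 ↥(T.subgroupOf Γ))
  rw [hEq] at h1
  rw [← pLayer_map_equiv (Subgroup.subgroupOfEquivOfLe hle), Subgroup.map_map,
    show (centralizer (T : Set G)).subtype.comp (Subgroup.subgroupOfEquivOfLe hle).toMonoidHom =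
      Γ.subtype.comp ((centralizer (T : Set G)).subgroupOf Γ).subtype from MonoidHom.ext fun _ => rfl,
    ← Subgroup.map_map]
  exact Subgroup.map_mono h1

namespace Pair

variable {A₁ A₂ : Subgroup G}

/-- The components of `C(c)/O(C(c))` centralized by the image of a subgroup. -/
private abbrev part (B : Subgroup G) (c : G) :
    Subgroup (↥(centralizer ({c} : Set G)) ⧸ Cfsg.pPrimeCore 2 ↥(centralizer ({c} : Set G))) :=
  sSup {M | Cfsg.IsComponent M ∧ ∀ x ∈ B, ∀ hx : x ∈ centralizer ({c} : Set G),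
      modCore 2 _ (⟨x, hx⟩ : centralizer ({c} : Set G)) ∈ centralizer (M : Set _)}

private theorem part_comm {B : Subgroup G} {c x : G} (hxB : x ∈ B) (hx : x ∈ centralizer ({c} : Set G))
    {e : ↥(centralizer ({c} : Set G)) ⧸ Cfsg.pPrimeCore 2 ↥(centralizer ({c} : Set G))}
    (he : e ∈ part B c) :
    Commute e (modCore 2 _ (⟨x, hx⟩ : centralizer ({c} : Set G))) := by
  have hle : part B c ≤ centralizer
      ({modCore 2 _ (⟨x, hx⟩ : centralizer ({c} : Set G))} : Set _) :=
    sSup_le fun M hM y hy => Subgroup.mem_centralizer_singleton_iff.mpr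
      (Subgroup.mem_centralizer_iff.mp (hM.2 x hxB hx) y hy)
  exact Subgroup.mem_centralizer_singleton_iff.mp (hle he)

private theorem le_part {B : Subgroup G} {c : G}
    {M : Subgroup (↥(centralizer ({c} : Set G)) ⧸ Cfsg.pPrimeCore 2 ↥(centralizer ({c} : Set G)))}
    (hM : Cfsg.IsComponent M) (h : ∀ x ∈ B, ∀ hx : x ∈ centralizer ({c} : Set G),
      modCore 2 _ (⟨x, hx⟩ : centralizer ({c} : Set G)) ∈ centralizer (M : Set _)) : M ≤ part B c :=
  le_sSup ⟨hM, h⟩

theorem generator_mem_core (P : Pair A₁ A₂) {a : G} (ha : a ∈ A₁ ⊔ A₂) (ha1 : a ≠ 1)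
    {β : G} (hβ : β ∈ A₁) (hβ1 : β ≠ 1) {U : Subgroup G} (hU : U ≤ coreCent ({a} : Set G))
    (hUβ : U ≤ centralizer ({β} : Set G)) {q : G} (hq : q ∈ ⁅U, A₁⁆)
    (hqa : q ∈ coreCent ({a} : Set G)) (hqA : q ∈ centralizer (A₁ : Set G)) :
    q ∈ coreCent (A₁ : Set G) := by
  haveI : Fact (Nat.Prime 2) := ⟨Nat.prime_two⟩
  have hβA : β ∈ A₁ ⊔ A₂ := Subgroup.mem_sup_left hβ
  have haK : a ∈ centralizer (A₁ : Set G) := P.le_centralizer₁ ha
  have hKβ : centralizer (A₁ : Set G) ≤ centralizer ({β} : Set G) :=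
    Subgroup.centralizer_le (Set.singleton_subset_iff.mpr hβ)
  have hd := P.datum ha ha1 haK
  refine ⟨⟨q, hqA⟩, hd.mem_core (show (⟨q, hqA⟩ : centralizer (A₁ : Set G)) ∈
    (coreCent ({a} : Set G)).subgroupOf _ from hqa) fun N hN => ?_, rfl⟩
  by_cases hne : ⁅N, zpowers (modCore 2 _ (⟨a, haK⟩ : centralizer (A₁ : Set G)))⁆ = N
  swap
  · exact hd.centralizes_of_ne hN hne ⟨⟨q, hqA⟩, hqa, rfl⟩
  obtain ⟨hE, hEN⟩ := isPComponent_pGen hN
  set E := pGen 2 (N.comap (modCore 2 ↥(centralizer (A₁ : Set G)))) with hEdef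
  -- notation in `C(β)`
  let qb : ↥(centralizer ({β} : Set G)) := ⟨q, hKβ hqA⟩
  let ab : ↥(centralizer ({β} : Set G)) := ⟨a, hKβ haK⟩
  let ι : ↥(centralizer (A₁ : Set G)) →* ↥(centralizer ({β} : Set G)) := Subgroup.inclusion hKβ
  let π := modCore 2 ↥(centralizer ({β} : Set G))
  have hq1 : ∀ e ∈ part A₁ β, Commute e (π qb) := by
    intro e he
    have hle : part A₁ β ≤ centralizer ({π qb} : Set _) := sSup_le fun M hM y hy =>
      Subgroup.mem_centralizer_singleton_iff.mpr (Subgroup.mem_centralizer_iff.mp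
        (P.commutator_act ha ha1 hβA hM.1 (fun x hx => hM.2 x hx _) hU hUβ hq (hKβ hqA)) y hy)
    exact Subgroup.mem_centralizer_singleton_iff.mp (hle he)
  have hsup : Cfsg.layer _ ≤ part A₂ β ⊔ part A₁ β := by
    refine layer_le_iff.mpr fun M hM => ?_
    rcases P.separated hβA hβ1 hM with h | h
    · exact (le_part hM fun x hx _ => h x hx).trans le_sup_right
    · exact (le_part hM fun x hx _ => h x hx).trans le_sup_left
  have hn2 : part A₂ β ≤ normalizer (SetLike.coe (part A₁ β)) := by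
    rw [Subgroup.le_normalizer_iff]
    intro y hy e he
    have hle : part A₁ β ≤ (part A₁ β).comap (MulAut.conj y).toMonoidHom := by
      refine sSup_le fun M' hM' z hz => ?_
      refine Subgroup.mem_comap.mpr (le_part hM'.1 hM'.2 ?_)
      have hN : part A₂ β ≤ normalizer (M' : Set _) :=
        sSup_le fun M hM => component_le_normalizer_component hM.1 hM'.1
      exact (Subgroup.mem_normalizer_iff.mp (hN hy) z).mp hz
    exact hle he
  have hfix : ∀ e ∈ part A₁ β, π ab * e * (π ab)⁻¹ ∈ part A₁ β := by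
    intro e he
    have hle : part A₁ β ≤ (part A₁ β).comap (MulAut.conj (π ab)).toMonoidHom := by
      refine sSup_le fun M hM => ?_
      rw [← Subgroup.map_le_iff_le_comap]
      refine le_part (M := MulAut.conj (π ab) • M) (isComponent_conj hM.1 _)
        fun x hx hxC => Subgroup.mem_centralizer_iff.mpr ?_
      rintro _ ⟨m, hm, rfl⟩
      have h1 : Commute (π ab) (π (⟨x, hxC⟩ : centralizer ({β} : Set G))) :=
        (show Commute ab (⟨x, hxC⟩ : centralizer ({β} : Set G)) from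
          Subtype.ext (P.sup_comm' ha (Subgroup.mem_sup_left hx))).map π
      have h2 : Commute m (π (⟨x, hxC⟩ : centralizer ({β} : Set G))) :=
        Subgroup.mem_centralizer_iff.mp (hM.2 x hx hxC) m hm
      exact ((h1.mul_left h2).mul_left h1.inv_left).eq
    exact hle he
  -- commutators with `a` of the lifted component commute with `q`
  have hcom : ∀ k ∈ E, ⁅π (ι k), π ab⁆ ∈ part A₁ β := by
    intro k hk
    have hkL : π (ι k) ∈ Cfsg.layer _ := by
      rw [← pLayer_map]
      obtain ⟨z, hz, hzk⟩ := map_pLayer_centralizer_le P.isPGroup₁ hβ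
        ((le_sup_left : A₁ ≤ A₁ ⊔ A₂).trans (P.le_centralizer hβA))
        ⟨k, pComponent_le_pLayer hE hk, rfl⟩
      exact ⟨z, hz, congrArg π (Subtype.ext hzk)⟩
    obtain ⟨e₂, he₂, e₁, he₁, he⟩ := (Core.mem_sup_iff_mul hn2).mp (hsup hkL)
    obtain ⟨x, hx, y, hy, hxy⟩ := P.exists_mul ha
    have hxC : x ∈ centralizer ({β} : Set G) := P.le_centralizer hβA (Subgroup.mem_sup_left hx)
    have hyC : y ∈ centralizer ({β} : Set G) := P.le_centralizer hβA (Subgroup.mem_sup_right hy)
    have hab : π ab = π (⟨x, hxC⟩ : centralizer ({β} : Set G)) * π ⟨y, hyC⟩ := by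
      rw [← map_mul]; exact congrArg π (Subtype.ext hxy)
    have hkx : Commute (π (ι k)) (π (⟨x, hxC⟩ : centralizer ({β} : Set G))) :=
      (show Commute (ι k) (⟨x, hxC⟩ : centralizer ({β} : Set G)) from
        Subtype.ext (Subgroup.mem_centralizer_iff.mp k.2 x hx).symm).map π
    have he₂x : Commute e₂ (π (⟨x, hxC⟩ : centralizer ({β} : Set G))) := by
      have h1 := hkx.mul_left (part_comm hx hxC he₁).inv_left
      rwa [he, mul_inv_cancel_right] at h1
    have he₂a : Commute e₂ (π ab) := hab ▸ he₂x.mul_right (part_comm hy hyC he₂)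
    rw [he, commutatorElement_mul_left_eq_conj_mul, commutatorElement_eq_one_iff_commute.mpr he₂a, mul_one]
    refine Core.conj_mem_of_le_normalizer hn2 he₂ ?_
    rw [commutatorElement_def, mul_assoc e₁, mul_assoc]
    exact mul_mem he₁ (hfix _ (inv_mem he₁))
  -- back to `C(A₁)`
  have hEle : ⁅E, zpowers (⟨a, haK⟩ : centralizer (A₁ : Set G))⁆ ≤
      (centralizer ({modCore 2 _ (⟨q, hqA⟩ : centralizer (A₁ : Set G))} : Set _)).comap
        (modCore 2 ↥(centralizer (A₁ : Set G))) := by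
    rw [Subgroup.commutator_le]
    intro k hk s hs
    have hsq : Commute (π (ι ⁅k, s⁆)) (π qb) := by
      obtain ⟨j, rfl⟩ := Subgroup.mem_zpowers_iff.mp hs
      have hz : ∀ j : ℤ, ⁅π (ι k), (π ab) ^ j⁆ ∈ part A₁ β := by
        intro j
        have hak : orderOf (π ab) ∣ 2 := by
          refine orderOf_dvd_of_pow_eq_one ?_
          rw [← map_pow]
          refine (congrArg π (Subtype.ext ?_ : ab ^ 2 = 1)).trans π.map_one
          show a ^ 2 = 1
          rw [← P.orderOf_two ha ha1, pow_orderOf_eq_one]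
        rw [show (π ab) ^ j = (π ab) ^ (j % 2) from
          (zpow_eq_zpow_emod' j (orderOf_dvd_iff_pow_eq_one.mp hak)).trans rfl]
        rcases Int.emod_two_eq j with h | h <;> rw [h]
        · rw [zpow_zero, commutatorElement_one_right]; exact one_mem _
        · rw [zpow_one]; exact hcom k hk
      rw [map_commutatorElement, map_commutatorElement, map_zpow, map_zpow]
      exact hq1 _ (hz j)
    have hcore : ⁅ι ⁅k, s⁆, qb⁆ ∈ Cfsg.pPrimeCore 2 _ := by
      refine (QuotientGroup.eq_one_iff _).mp ?_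
      show π _ = 1
      rw [map_commutatorElement]
      exact commutatorElement_eq_one_iff_commute.mpr hsq
    have hcore' : ⁅⁅k, s⁆, (⟨q, hqA⟩ : centralizer (A₁ : Set G))⁆ ∈
        Cfsg.pPrimeCore 2 ↥(centralizer (A₁ : Set G)) := by
      refine le_pPrimeCore (N := (Cfsg.pPrimeCore 2 ↥(centralizer ({β} : Set G))).comap ι)
        (haveI := pPrimeCore_normal (G := ↥(centralizer ({β} : Set G))) 2; inferInstance)
        ((pPrimeCore_coprime 2).coprime_dvd_left
          (Subgroup.card_comap_dvd_of_injective _ _ (Subgroup.inclusion_injective hKβ))) ?_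
      show ι _ ∈ Cfsg.pPrimeCore 2 _
      rw [map_commutatorElement]
      exact hcore
    refine Subgroup.mem_centralizer_singleton_iff.mpr ?_
    have h2 : modCore 2 _ ⁅⁅k, s⁆, (⟨q, hqA⟩ : centralizer (A₁ : Set G))⁆ = 1 :=
      (QuotientGroup.eq_one_iff _).mpr hcore'
    rw [map_commutatorElement, commutatorElement_eq_one_iff_mul_comm] at h2
    exact h2
  have hN' : N ≤ centralizer ({modCore 2 _ (⟨q, hqA⟩ : centralizer (A₁ : Set G))} : Set _) := by
    rw [← hne, ← hEN, ← MonoidHom.map_zpowers, ← Subgroup.map_commutator, Subgroup.map_le_iff_le_comap]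
    exact hEle
  exact Subgroup.mem_centralizer_iff.mpr fun y hy =>
    Subgroup.mem_centralizer_singleton_iff.mp (hN' hy)

theorem fixed_mem_core (hFT : OddSolvable.{u}) (P : Pair A₁ A₂) {a : G} (ha : a ∈ A₁ ⊔ A₂)
    (ha1 : a ≠ 1) {y : G} (hy : y ∈ ⁅coreCent ({a} : Set G), A₁⁆) (hyA : y ∈ centralizer (A₁ : Set G)) :
    y ∈ coreCent (A₁ : Set G) := by
  haveI : Fact (Nat.Prime 2) := ⟨Nat.prime_two⟩
  set O := coreCent ({a} : Set G) with hO
  have hn : A₁ ≤ normalizer (O : Set G) :=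
    ((le_sup_left : A₁ ≤ A₁ ⊔ A₂).trans (P.le_centralizer ha)).trans (coreCent_norm _)
  have hle : ⁅O, A₁⁆ ≤ O := Core.commutator_le_of_normalizes hn
  have hodd : Odd (Nat.card ↥(⁅O, A₁⁆ : Subgroup G)) :=
    (coreCent_odd ({a} : Set G)).of_dvd_nat (Subgroup.card_dvd_of_le hle)
  haveI hc : IsMulCommutative A₁ :=
    ⟨⟨fun u v => Subtype.ext (P.comm₁ u u.2 v v.2)⟩⟩
  have hcop : (Nat.card A₁).Coprime (Nat.card O) := by
    rw [P.card₁]
    exact ((Nat.coprime_two_left.mpr (coreCent_odd ({a} : Set G))).pow_left 2 :)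
  have hsolA : Group.IsSolvable A₁ := by
    haveI := P.isPGroup₁.isNilpotent
    infer_instance
  have hYA : ⁅⁅O, A₁⁆, A₁⁆ = ⁅O, A₁⁆ := Core.commutator_commutator_eq hn hcop (Or.inl hsolA)
  have S : Setup 2 A₁ A₁ ⁅O, A₁⁆ :=
    ⟨P.isPGroup₁, hc, le_rfl, fun hd => Nat.not_even_iff_odd.mpr hodd (even_iff_two_dvd.mpr hd),
      Subgroup.normalizer_commutator_ge_right O A₁⟩
  suffices hR : rightSide A₁ A₁ ⁅O, A₁⁆ ≤ coreCent (A₁ : Set G) from
    hR (fixed_generation _ S (hFT _ hodd) hYA rfl ⟨hy, hyA⟩)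
  refine iSup_le fun ⟨B₀, hle₀, hcy⟩ q hq => ?_
  obtain ⟨β, hβ, hβ1⟩ : ∃ β ∈ B₀, β ≠ 1 := by
    by_contra hcon
    push Not at hcon
    obtain ⟨b, hb, hgen⟩ := hcy
    rw [(Subgroup.eq_bot_iff_forall B₀).mpr hcon, bot_sup_eq] at hgen
    have h1 := Subgroup.card_le_of_le hgen
    rw [P.card₁, Nat.card_zpowers] at h1
    have := Nat.le_of_dvd two_pos (orderOf_dvd_of_pow_eq_one (P.sq₁ b hb))
    omega
  refine P.generator_mem_core ha ha1 (hle₀ hβ) hβ1 (inf_le_left.trans hle) ?_ hq.2 (hle hq.1.1) hq.1.2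
  exact inf_le_right.trans (Subgroup.centralizer_le (Set.singleton_subset_iff.mpr hβ))

end Pair

end CfsgLib.FTDep
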