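import Cfsg.Agent.Lib.FTDep.CoreSeparatedFixed

/-!
# The signalizer functor of a core-separated pair
-/

set_option autoImplicit false
set_option linter.style.haveILetI false
set_option linter.unusedSectionVars false

universe u

namespace CfsgLib.FTDep

open Subgroup
open CfsgLib.Components CfsgLib.Signalizer
open scoped commutatorElement Pointwise

variable {G : Type u} [Group G] [Finite G]

namespace Pair

variable {A₁ A₂ : Subgroup G}

/-- One factor of the functor. -/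
abbrev factor (A : Subgroup G) (a : G) : Subgroup G :=
  ⁅coreCent ({a} : Set G), A⁆ ⊔ (coreCent ({a} : Set G) ⊓ coreCent (A : Set G))

theorem norm_core (P : Pair A₁ A₂) {a : G} (ha : a ∈ A₁ ⊔ A₂) :
    A₁ ⊔ A₂ ≤ normalizer (coreCent ({a} : Set G) : Set G) :=
  (P.le_centralizer ha).trans (coreCent_norm _)

theorem factor_le (P : Pair A₁ A₂) {a : G} (ha : a ∈ A₁ ⊔ A₂) :
    factor A₁ a ≤ coreCent ({a} : Set G) :=
  sup_le (Core.commutator_le_of_normalizes (le_sup_left.trans (P.norm_core ha))) inf_le_left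

theorem factor_norm (P : Pair A₁ A₂) {a : G} (ha : a ∈ A₁ ⊔ A₂) :
    A₁ ⊔ A₂ ≤ normalizer (factor A₁ a : Set G) := by
  intro x hx
  refine mem_normalizer_of_smul_eq_self ?_
  have h1 : MulAut.conj x • (⁅coreCent ({a} : Set G), A₁⁆ : Subgroup G) =
      ⁅coreCent ({a} : Set G), A₁⁆ := by
    rw [Core.conj_smul_eq_map, Subgroup.map_commutator, ← Core.conj_smul_eq_map, ← Core.conj_smul_eq_map,
      smul_eq_self_of_mem_normalizer (P.norm_core ha hx),
      smul_eq_self_of_mem_normalizer (Subgroup.centralizer_le_normalizer _ (P.le_centralizer₁ hx))]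
  rw [factor, Subgroup.smul_sup, Subgroup.smul_inf, h1,
    smul_eq_self_of_mem_normalizer (P.norm_core ha hx),
    smul_eq_self_of_mem_normalizer (coreCent_norm _ (P.le_centralizer₁ hx))]

theorem factor_fixed (hFT : OddSolvable.{u}) (P : Pair A₁ A₂) {a : G} (ha : a ∈ A₁ ⊔ A₂) (ha1 : a ≠ 1)
    {y : G} (hy : y ∈ factor A₁ a) (hyA : y ∈ centralizer (A₁ : Set G)) :
    y ∈ coreCent (A₁ : Set G) := by
  rw [factor, sup_comm] at hy
  obtain ⟨c, hc, u, hu, rfl⟩ := (Core.mem_sup_iff_mul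
    (inf_le_left.trans (Subgroup.normalizer_commutator_ge_left _ _))).mp hy
  refine mul_mem hc.2 (P.fixed_mem_core hFT ha ha1 hu ?_)
  have := mul_mem (inv_mem (coreCent_le _ hc.2)) hyA
  rwa [inv_mul_cancel_left] at this

/-- `O(C(A₁)) ∩ C(b)` centralizes the components of `C(b)/O(C(b))` centralized by `A₁`. -/
theorem core_centralizes (hFT : OddSolvable.{u}) (P : Pair A₁ A₂) {b : G} (hb : b ∈ A₁ ⊔ A₂)
    {M : Subgroup (↥(centralizer ({b} : Set G)) ⧸ Cfsg.pPrimeCore 2 ↥(centralizer ({b} : Set G)))}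
    (hM : Cfsg.IsComponent M)
    (hA : ∀ x, ∀ hx : x ∈ A₁, modCore 2 _ (⟨x, P.le_centralizer hb (Subgroup.mem_sup_left hx)⟩ :
      centralizer ({b} : Set G)) ∈ centralizer (M : Set _))
    {c : G} (hc : c ∈ coreCent (A₁ : Set G)) (hcb : c ∈ centralizer ({b} : Set G)) :
    modCore 2 _ (⟨c, hcb⟩ : centralizer ({b} : Set G)) ∈ centralizer (M : Set _) := by
  haveI : Fact (Nat.Prime 2) := ⟨Nat.prime_two⟩
  set J := ((coreCent (A₁ : Set G)).subgroupOf (centralizer ({b} : Set G))).map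
    (modCore 2 ↥(centralizer ({b} : Set G))) with hJ
  have hJodd : Odd (Nat.card J) := (coreCent_odd (A₁ : Set G)).of_dvd_nat
    ((Subgroup.card_map_dvd _ _).trans (Subgroup.card_comap_dvd_of_injective _ _ (Subgroup.subtype_injective _)))
  have hMJ : M ≤ normalizer (J : Set _) := by
    intro m hm
    obtain ⟨k, rfl⟩ := modCore_surjective m
    have hn : A₁ ≤ normalizer (coreCent ({b} : Set G) : Set G) := le_sup_left.trans (P.norm_core hb)
    obtain ⟨n, hn', hnc⟩ := Core.exists_centralizing_in_coset (A := A₁) hn (k := (k : G))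
      (by rw [P.card₁]; exact ((Nat.coprime_two_left.mpr (coreCent_odd ({b} : Set G))).pow_left 2 :))
      (Or.inl (by haveI := P.isPGroup₁.isNilpotent; infer_instance)) fun x hx => by
        have hxC : x ∈ centralizer ({b} : Set G) := P.le_centralizer hb (Subgroup.mem_sup_left hx)
        refine ⟨k⁻¹ * (⟨x, hxC⟩ * k * ⟨x, hxC⟩⁻¹), (QuotientGroup.eq_one_iff _).mp ?_, rfl⟩
        show modCore 2 ↥(centralizer ({b} : Set G)) _ = 1
        rw [map_mul, map_mul, map_mul, map_inv, map_inv,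
          ← Subgroup.mem_centralizer_iff.mp (hA x hx) _ hm, mul_inv_cancel_right, inv_mul_cancel]
    obtain ⟨z, hz, rfl⟩ := hn'
    have h1 : modCore 2 ↥(centralizer ({b} : Set G)) z = 1 := (QuotientGroup.eq_one_iff _).mpr hz
    rw [show modCore 2 _ k = modCore 2 ↥(centralizer ({b} : Set G)) (k * z) by rw [map_mul, h1, mul_one]]
    exact Subgroup.le_normalizer_map _ ⟨k * z, Subgroup.le_normalizer_comap _
      (coreCent_norm _ (show ((k * z : ↥(centralizer ({b} : Set G))) : G) ∈ centralizer (A₁ : Set G) from hnc)),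
      rfl⟩
  have h := component_commutes_of_solvable_invariant hM (hFT J hJodd) hMJ
  rw [Subgroup.commutator_comm, Subgroup.commutator_eq_bot_iff_le_centralizer] at h
  exact h ⟨⟨c, hcb⟩, hc, rfl⟩

theorem act_component (hFT : OddSolvable.{u}) (P : Pair A₁ A₂) {a b : G} (ha : a ∈ A₁ ⊔ A₂) (ha1 : a ≠ 1)
    (hb : b ∈ A₁ ⊔ A₂) {X : Subgroup G} (hXa : X ≤ factor A₁ a) (hXb : X ≤ centralizer ({b} : Set G))
    (hXn : A₁ ≤ normalizer (X : Set G))
    {M : Subgroup (↥(centralizer ({b} : Set G)) ⧸ Cfsg.pPrimeCore 2 ↥(centralizer ({b} : Set G)))}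
    (hM : Cfsg.IsComponent M)
    (hA : ∀ x, ∀ hx : x ∈ A₁, modCore 2 _ (⟨x, P.le_centralizer hb (Subgroup.mem_sup_left hx)⟩ :
      centralizer ({b} : Set G)) ∈ centralizer (M : Set _))
    {x : G} (hx : x ∈ X) :
    modCore 2 _ (⟨x, hXb hx⟩ : centralizer ({b} : Set G)) ∈ centralizer (M : Set _) := by
  haveI : Fact (Nat.Prime 2) := ⟨Nat.prime_two⟩
  have hXO : X ≤ coreCent ({a} : Set G) := hXa.trans (P.factor_le ha)
  have hcop : (Nat.card A₁).Coprime (Nat.card X) := by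
    rw [P.card₁]
    exact ((Nat.coprime_two_left.mpr ((coreCent_odd ({a} : Set G)).of_dvd_nat
      (Subgroup.card_dvd_of_le hXO))).pow_left 2 :)
  obtain ⟨u, hu, c, hc, rfl⟩ := Core.exists_mul_centralizing hXn hcop
    (Or.inl (by haveI := P.isPGroup₁.isNilpotent; infer_instance)) hx
  have huC : u ∈ centralizer ({b} : Set G) := hXb (Core.commutator_le_of_normalizes hXn hu)
  have hcC : c ∈ centralizer ({b} : Set G) := hXb hc.1
  rw [show (⟨u * c, hXb hx⟩ : centralizer ({b} : Set G)) = ⟨u, huC⟩ * ⟨c, hcC⟩ from rfl, map_mul]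
  exact mul_mem (P.commutator_act ha ha1 hb hM hA hXO hXb hu huC)
    (P.core_centralizes hFT hb hM hA (P.factor_fixed hFT ha ha1 (hXa hc.1) hc.2) hcC)

theorem balance_half (hFT : OddSolvable.{u}) (P : Pair A₁ A₂) {a b : G} (ha : a ∈ A₁ ⊔ A₂) (ha1 : a ≠ 1)
    (hb : b ∈ A₁ ⊔ A₂) (hb1 : b ≠ 1) :
    factor A₁ a ⊓ factor A₂ a ⊓ centralizer ({b} : Set G) ≤ factor A₁ b := by
  haveI : Fact (Nat.Prime 2) := ⟨Nat.prime_two⟩
  set X := factor A₁ a ⊓ factor A₂ a ⊓ centralizer ({b} : Set G) with hX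
  have hswap : A₁ ⊔ A₂ = A₂ ⊔ A₁ := sup_comm _ _
  have hXn : A₁ ⊔ A₂ ≤ normalizer (X : Set G) := fun x hx => by
    refine mem_normalizer_of_smul_eq_self ?_
    rw [hX, Subgroup.smul_inf, Subgroup.smul_inf, smul_eq_self_of_mem_normalizer (P.factor_norm ha hx),
      smul_eq_self_of_mem_normalizer (P.swap.factor_norm (hswap ▸ ha) (hswap ▸ hx)),
      smul_eq_self_of_mem_normalizer (Subgroup.le_normalizer (P.le_centralizer hb hx))]
  have hXb : X ≤ centralizer ({b} : Set G) := inf_le_right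
  have hXO : X ≤ coreCent ({a} : Set G) := inf_le_left.trans (inf_le_left.trans (P.factor_le ha))
  have hcore : X ≤ coreCent ({b} : Set G) := by
    intro x hx
    have haK : a ∈ centralizer ({b} : Set G) := P.le_centralizer hb ha
    have hd := P.datum ha ha1 haK
    refine ⟨⟨x, hXb hx⟩, hd.mem_core (show (⟨x, hXb hx⟩ : centralizer ({b} : Set G)) ∈
      (coreCent ({a} : Set G)).subgroupOf _ from hXO hx) fun M hM => ?_, rfl⟩
    rcases P.separated hb hb1 hM with h | h
    · exact P.act_component hFT ha ha1 hb (inf_le_left.trans inf_le_left) hXb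
        (le_sup_left.trans hXn) hM h hx
    · exact P.swap.act_component hFT (hswap ▸ ha) ha1 (hswap ▸ hb) (inf_le_left.trans inf_le_right) hXb
        (le_sup_right.trans hXn) hM h hx
  intro x hx
  have hXn₁ : A₁ ≤ normalizer (X : Set G) := le_sup_left.trans hXn
  have hcop : (Nat.card A₁).Coprime (Nat.card X) := by
    rw [P.card₁]
    exact ((Nat.coprime_two_left.mpr ((coreCent_odd ({a} : Set G)).of_dvd_nat
      (Subgroup.card_dvd_of_le hXO))).pow_left 2 :)
  obtain ⟨u, hu, c, hc, rfl⟩ := Core.exists_mul_centralizing hXn₁ hcop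
    (Or.inl (by haveI := P.isPGroup₁.isNilpotent; infer_instance)) hx
  exact mul_mem (Subgroup.mem_sup_left (Subgroup.commutator_mono hcore le_rfl hu))
    (Subgroup.mem_sup_right ⟨hcore hc.1, P.factor_fixed hFT ha ha1 hc.1.1.1 hc.2⟩)

end Pair

theorem core_separated_signalizer (hFT : OddSolvable.{u}) (A₁ A₂ : Subgroup G)
    (hcs : Cfsg.IsCoreSeparated A₁ A₂) :
    Cfsg.IsSignalizerFunctor 2 (A₁ ⊔ A₂) (fun a =>
      (⁅Cfsg.centralizerPPrimeCore 2 a, A₁⁆ ⊔ (Cfsg.centralizerPPrimeCore 2 a ⊓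
        ((Cfsg.oddCore ↥(centralizer ((A₁ : Subgroup G) : Set G))).map
          (centralizer ((A₁ : Subgroup G) : Set G)).subtype))) ⊓
      (⁅Cfsg.centralizerPPrimeCore 2 a, A₂⁆ ⊔ (Cfsg.centralizerPPrimeCore 2 a ⊓
        ((Cfsg.oddCore ↥(centralizer ((A₂ : Subgroup G) : Set G))).map
          (centralizer ((A₂ : Subgroup G) : Set G)).subtype)))) := by
  obtain ⟨h1, h2, h1c, h2c, -, -, hcomm, hsep⟩ := hcs
  have P : Pair A₁ A₂ := ⟨fun x hx => h1.2 x hx, fun x hx y hy => congrArg Subtype.val (h1.1.is_comm.comm ⟨x, hx⟩ ⟨y, hy⟩), h1c,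
    fun x hx => h2.2 x hx, fun x hx y hy => congrArg Subtype.val (h2.1.is_comm.comm ⟨x, hx⟩ ⟨y, hy⟩), h2c, hcomm, hsep⟩
  have hswap : A₁ ⊔ A₂ = A₂ ⊔ A₁ := sup_comm _ _
  show Cfsg.IsSignalizerFunctor 2 (A₁ ⊔ A₂) (fun a => Pair.factor A₁ a ⊓ Pair.factor A₂ a)
  refine ⟨fun a ha ha1 => inf_le_left.trans ((P.factor_le ha).trans (coreCent_le _)), ?_, ?_, ?_⟩
  · intro a ha ha1 hd
    refine Nat.not_even_iff_odd.mpr (coreCent_odd ({a} : Set G)) (even_iff_two_dvd.mpr (hd.trans ?_))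
    exact Subgroup.card_dvd_of_le (inf_le_left.trans (P.factor_le ha))
  · intro a ha ha1 b hb x hx
    exact ⟨Core.conj_mem_of_le_normalizer (P.factor_norm ha) hb hx.1,
      Core.conj_mem_of_le_normalizer (P.swap.factor_norm (hswap ▸ ha)) (hswap ▸ hb) hx.2⟩
  · intro a ha ha1 b hb hb1
    refine le_inf (P.balance_half hFT ha ha1 hb hb1) ?_
    refine le_trans ?_ (P.swap.balance_half hFT (hswap ▸ ha) ha1 (hswap ▸ hb) hb1)
    exact le_of_eq (by rw [inf_comm (Pair.factor A₂ a)])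

end CfsgLib.FTDep
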