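import Cfsg.Agent.Lib.FTDep.AbelianGeneration

/-!
# `C_Y(B)` for `Y = [Y, A]` solvable

`fixed_generation`: for an abelian `p`-group `A`, `B ≤ A`, a solvable `p'`-group `Y = [Y, A]`,
`C_Y(B)` is generated by the `C_Y(B) ∩ [C_Y(B₀), A]`, `B / B₀` cyclic.
-/

set_option autoImplicit false
set_option linter.style.haveILetI false
set_option linter.unusedSectionVars false

universe u

namespace CfsgLib.FTDep

open Subgroup
open scoped commutatorElement

variable {G : Type u} [Group G] [Finite G]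

/-- `[C_Y(B₀), A]`. -/
abbrev piece (A Y B₀ : Subgroup G) : Subgroup G := ⁅Y ⊓ centralizer (B₀ : Set G), A⁆

/-- The subgroup generated by the `C_Y(B) ∩ [C_Y(B₀), A]`. -/
def rightSide (A B Y : Subgroup G) : Subgroup G :=
  ⨆ B₀ : {B₀ : Subgroup G // B₀ ≤ B ∧ CyclicMod B B₀},
    Y ⊓ centralizer (B : Set G) ⊓ piece A Y B₀

/-- The hypotheses. -/
structure Setup (p : ℕ) (A B Y : Subgroup G) : Prop where
  pgroup : IsPGroup p A
  comm : IsMulCommutative A
  le : B ≤ A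
  notDvd : ¬ p ∣ Nat.card Y
  norm : A ≤ normalizer (Y : Set G)

namespace Setup

variable {p : ℕ} [hp : Fact p.Prime] {A B Y : Subgroup G}

theorem commA (S : Setup p A B Y) {a b : G} (ha : a ∈ A) (hb : b ∈ A) : a * b = b * a := by
  haveI := S.comm
  exact congrArg (fun z : A => (z : G)) (mul_comm' (⟨a, ha⟩ : A) ⟨b, hb⟩)

theorem cyclicMod_self (_S : Setup p A B Y) : CyclicMod B B :=
  ⟨1, one_mem B, le_sup_left⟩

theorem cop (S : Setup p A B Y) {C K : Subgroup G} (hC : C ≤ A) (hK : K ≤ Y) :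
    (Nat.card C).Coprime (Nat.card K) := by
  obtain ⟨j, hj⟩ := (S.pgroup.to_le hC).exists_card_eq
  rw [hj]
  exact (Nat.Coprime.pow_left _ (hp.out.coprime_iff_not_dvd.mpr S.notDvd)).coprime_dvd_right
    (Subgroup.card_dvd_of_le hK)

theorem solv (S : Setup p A B Y) {C : Subgroup G} (hC : C ≤ A) : Group.IsSolvable C := by
  haveI := (S.pgroup.to_le hC).isNilpotent
  infer_instance

theorem normC (S : Setup p A B Y) {C : Subgroup G} (hC : C ≤ A) :
    A ≤ normalizer (centralizer (C : Set G) : Set G) := fun a ha =>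
  Subgroup.le_normalizer (Subgroup.mem_centralizer_iff.mpr fun c hc => S.commA (hC hc) ha)

theorem normInfC (S : Setup p A B Y) {C K : Subgroup G} (hC : C ≤ A)
    (hK : A ≤ normalizer (K : Set G)) :
    A ≤ normalizer ((K ⊓ centralizer (C : Set G) : Subgroup G) : Set G) :=
  (le_inf hK (S.normC hC)).trans Subgroup.inf_normalizer_le_normalizer_inf

theorem piece_le (S : Setup p A B Y) {B₀ : Subgroup G} (h : B₀ ≤ B) :
    piece A Y B₀ ≤ Y ⊓ centralizer (B₀ : Set G) :=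
  Core.commutator_le_of_normalizes (S.normInfC (h.trans S.le) S.norm)

theorem piece_norm (_S : Setup p A B Y) (B₀ : Subgroup G) :
    A ≤ normalizer (piece A Y B₀ : Set G) :=
  Subgroup.normalizer_commutator_ge_right _ _

theorem rightSide_le (_S : Setup p A B Y) : rightSide A B Y ≤ Y ⊓ centralizer (B : Set G) :=
  iSup_le fun _ => inf_le_left

theorem le_rightSide (_S : Setup p A B Y) {B₀ : Subgroup G} (h : B₀ ≤ B) (hc : CyclicMod B B₀) :
    Y ⊓ centralizer (B : Set G) ⊓ piece A Y B₀ ≤ rightSide A B Y :=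
  le_iSup (fun B₀ : {B₀ : Subgroup G // B₀ ≤ B ∧ CyclicMod B B₀} =>
    Y ⊓ centralizer (B : Set G) ⊓ piece A Y B₀) ⟨B₀, h, hc⟩

/-- The target inside an abelian normal `T`. -/
abbrev target (A B Y T : Subgroup G) : Subgroup G := (T ⊓ rightSide A B Y) ⊔ ⁅T, B⁆

theorem piece_inf_le_target (S : Setup p A B Y) {B₀ T : Subgroup G} (h : B₀ ≤ B) (hc : CyclicMod B B₀)
    (hTY : T ≤ Y) (hT : A ≤ normalizer (T : Set G)) : piece A Y B₀ ⊓ T ≤ target A B Y T := by
  intro k hk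
  have hn : B ≤ normalizer ((piece A Y B₀ ⊓ T : Subgroup G) : Set G) :=
    S.le.trans ((le_inf (S.piece_norm B₀) hT).trans Subgroup.inf_normalizer_le_normalizer_inf)
  obtain ⟨u, hu, c, hc', rfl⟩ := Core.exists_mul_centralizing hn
    (S.cop S.le (inf_le_right.trans hTY)) (Or.inl (S.solv S.le)) hk
  refine mul_mem (Subgroup.mem_sup_right (Subgroup.commutator_mono inf_le_right le_rfl hu))
    (Subgroup.mem_sup_left ⟨hc'.1.2, ?_⟩)
  exact S.le_rightSide h hc ⟨⟨hTY hc'.1.2, hc'.2⟩, hc'.1.1⟩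

/-- `[u, x] ∈ [T, B]` for `u ∈ [P, B₀]`. -/
theorem commutator_moved (_S : Setup p A B Y) {P T B₀ : Subgroup G} (hB₀ : B₀ ≤ B)
    (hP : B₀ ≤ normalizer (P : Set G)) (hPT : P ≤ centralizer (T : Set G)) {x : G}
    (hx : x ∈ centralizer (B₀ : Set G)) (hPx : ∀ v ∈ P, ⁅v, x⁆ ∈ T) {u : G} (hu : u ∈ ⁅P, B₀⁆) :
    ⁅u, x⁆ ∈ ⁅T, B⁆ := by
  have hmul : ∀ v ∈ P, ∀ w ∈ P, ⁅v * w, x⁆ = ⁅w, x⁆ * ⁅v, x⁆ := fun v hv w hw => by
    rw [commutatorElement_mul_left_eq_conj_mul,
      ← Subgroup.mem_centralizer_iff.mp (hPT hv) _ (hPx w hw), mul_inv_cancel_right]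
  let K : Subgroup G :=
    { carrier := {v | v ∈ P ∧ ⁅v, x⁆ ∈ ⁅T, B⁆}
      one_mem' := ⟨one_mem _, by rw [commutatorElement_one_left]; exact one_mem _⟩
      mul_mem' := fun {v w} hv hw => ⟨mul_mem hv.1 hw.1, by
        rw [hmul v hv.1 w hw.1]; exact mul_mem hw.2 hv.2⟩
      inv_mem' := fun {v} hv => ⟨inv_mem hv.1, by
        have h := hmul v hv.1 v⁻¹ (inv_mem hv.1)
        rw [mul_inv_cancel, commutatorElement_one_left] at h
        rw [eq_inv_of_mul_eq_one_left h.symm]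
        exact inv_mem hv.2⟩ }
  suffices hle : ⁅P, B₀⁆ ≤ K from (hle hu).2
  rw [Subgroup.commutator_le]
  intro v hv b hb
  refine ⟨Core.commutator_le_of_normalizes hP (Subgroup.commutator_mem_commutator hv hb), ?_⟩
  have hvb : b * v⁻¹ * b⁻¹ ∈ P := Core.conj_mem_of_le_normalizer hP hb (inv_mem hv)
  rw [show ⁅v, b⁆ = v * (b * v⁻¹ * b⁻¹) by simp only [commutatorElement_def]; group,
    hmul v hv _ hvb]
  have hxb : b * x = x * b := Subgroup.mem_centralizer_iff.mp hx b hb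
  have h1 : ⁅b * v⁻¹ * b⁻¹, x⁆ = b * ⁅v⁻¹, x⁆ * b⁻¹ := by
    simp only [commutatorElement_def]
    calc b * v⁻¹ * b⁻¹ * x * (b * v⁻¹ * b⁻¹)⁻¹ * x⁻¹
        = b * v⁻¹ * (b⁻¹ * (x * b)) * v * (b⁻¹ * x⁻¹) := by group
      _ = b * v⁻¹ * (b⁻¹ * (b * x)) * v * (b⁻¹ * x⁻¹) := by rw [← hxb]
      _ = b * v⁻¹ * x * v * (b⁻¹ * x⁻¹) := by group
      _ = b * v⁻¹ * x * v * (x⁻¹ * b⁻¹) := by rw [← mul_inv_rev, ← mul_inv_rev, hxb]
      _ = _ := by group
  have h2 : ⁅v⁻¹, x⁆ = ⁅v, x⁆⁻¹ := by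
    have h := hmul v hv v⁻¹ (inv_mem hv)
    rw [mul_inv_cancel, commutatorElement_one_left] at h
    exact eq_inv_of_mul_eq_one_left h.symm
  rw [h1, h2]
  have := inv_mem (Subgroup.commutator_mem_commutator (hPx v hv) (hB₀ hb))
  rw [show (⁅⁅v, x⁆, b⁆)⁻¹ = b * ⁅v, x⁆ * b⁻¹ * ⁅v, x⁆⁻¹ by simp only [commutatorElement_def]; group] at this
  have h3 := inv_mem this
  rw [show (b * ⁅v, x⁆ * b⁻¹ * ⁅v, x⁆⁻¹)⁻¹ = ⁅v, x⁆ * (b * ⁅v, x⁆⁻¹ * b⁻¹) by group] at h3
  rw [show b * ⁅v, x⁆⁻¹ * b⁻¹ * ⁅v, x⁆ =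
    ⁅v, x⁆⁻¹ * (⁅v, x⁆ * (b * ⁅v, x⁆⁻¹ * b⁻¹)) * ⁅v, x⁆ by group]
  refine (Subgroup.mem_normalizer_iff''.mp ((Subgroup.normalizer_commutator_ge_left T B) (hPx v hv)) _).mp h3

theorem commutator_piece (S : Setup p A B Y) {P T B₀ : Subgroup G} (hB₀ : B₀ ≤ B)
    (hc : CyclicMod B B₀) (hPY : P ≤ Y) (hP : A ≤ normalizer (P : Set G))
    (hTY : T ≤ Y) (hT : A ≤ normalizer (T : Set G)) (hPT : P ≤ centralizer (T : Set G)) {x : G}
    (hx : x ∈ piece A Y B₀) (hPx : ∀ v ∈ P, ⁅v, x⁆ ∈ T) {w : G} (hw : w ∈ P) :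
    ⁅w, x⁆ ∈ target A B Y T := by
  have hxC := (S.piece_le hB₀ hx).2
  obtain ⟨u, hu, c, hc', rfl⟩ := Core.exists_mul_centralizing ((hB₀.trans S.le).trans hP)
    (S.cop (hB₀.trans S.le) hPY) (Or.inl (S.solv (hB₀.trans S.le))) hw
  have huP : u ∈ P := Core.commutator_le_of_normalizes ((hB₀.trans S.le).trans hP) hu
  rw [commutatorElement_mul_left_eq_conj_mul,
    ← Subgroup.mem_centralizer_iff.mp (hPT huP) _ (hPx c hc'.1), mul_inv_cancel_right]
  refine mul_mem (S.piece_inf_le_target hB₀ hc hTY hT (Subgroup.mem_inf.mpr ⟨?_, hPx c hc'.1⟩))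
    (Subgroup.mem_sup_right (S.commutator_moved hB₀ ((hB₀.trans S.le).trans hP) hPT hxC hPx hu))
  rw [commutatorElement_def]
  exact mul_mem (Core.conj_mem_of_le_normalizer (Subgroup.normalizer_commutator_ge_left _ _)
    (show c ∈ Y ⊓ centralizer (B₀ : Set G) from ⟨hPY hc'.1, hc'.2⟩) hx) (inv_mem hx)

theorem fixed_le_of_le_target (S : Setup p A B Y) {T : Subgroup G} [IsMulCommutative T] (hTY : T ≤ Y)
    (hT : A ≤ normalizer (T : Set G)) (h : T ≤ target A B Y T) :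
    T ⊓ centralizer (B : Set G) ≤ rightSide A B Y := by
  intro t ht
  have hcT : ⁅T, B⁆ ≤ T := Core.commutator_le_of_normalizes (S.le.trans hT)
  have hn : T ⊓ rightSide A B Y ≤ normalizer ((⁅T, B⁆ : Subgroup G) : Set G) :=
    inf_le_left.trans (Subgroup.normalizer_commutator_ge_left T B)
  obtain ⟨r, hr, q, hq, rfl⟩ := (Core.mem_sup_iff_mul hn).mp (h ht.1)
  have hqC : q ∈ centralizer (B : Set G) := by
    have := (centralizer (B : Set G)).mul_mem ((centralizer (B : Set G)).inv_mem (S.rightSide_le hr.2).2) ht.2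
    rwa [inv_mul_cancel_left] at this
  have hq1 : q = 1 := by
    have h0 := Core.abelian_inf_eq_bot (S.le.trans hT) (S.cop S.le hTY)
    exact Subgroup.mem_bot.mp (h0.le ⟨⟨hcT hq, hqC⟩, hq⟩)
  rw [hq1, mul_one]
  exact hr.2

theorem le_iSup_piece (S : Setup p A B Y) (hYA : ⁅Y, A⁆ = Y) :
    Y ≤ ⨆ B₀ : {B₀ : Subgroup G // B₀ ≤ B ∧ CyclicMod B B₀}, piece A Y B₀ := by
  haveI : IsMulCommutative B :=
    ⟨⟨fun a b => Subtype.ext (S.commA (S.le a.2) (S.le b.2))⟩⟩
  set N := ⨆ B₀ : {B₀ : Subgroup G // B₀ ≤ B ∧ CyclicMod B B₀}, piece A Y B₀ with hN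
  set C := Y ⊓ centralizer (A : Set G) with hC
  have hgen : Y ≤ C ⊔ N := by
    refine le_of_cyclic_quot (S.pgroup.to_le S.le) (S.le.trans S.norm) S.notDvd fun B₀ h hc => ?_
    have hK : A ≤ normalizer ((Y ⊓ centralizer (B₀ : Set G) : Subgroup G) : Set G) :=
      S.normInfC (h.trans S.le) S.norm
    rw [← Core.commutator_sup_centralizer hK (S.cop le_rfl inf_le_left) (Or.inl (S.solv le_rfl))]
    exact sup_le (le_trans (le_iSup (fun B₀ : {B₀ : Subgroup G // B₀ ≤ B ∧ CyclicMod B B₀} =>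
      piece A Y B₀) ⟨B₀, h, hc⟩) le_sup_right) (le_trans (inf_le_inf_right _ inf_le_left) le_sup_left)
  have hNA : A ≤ normalizer (N : Set G) := by
    rw [Subgroup.le_normalizer_iff]
    intro a ha x hx
    refine Subgroup.iSup_induction _ (C := fun x => a * x * a⁻¹ ∈ N) hx (fun B₀ y hy => ?_)
      (by simp) fun y z hy hz => ?_
    · exact Subgroup.mem_iSup_of_mem B₀ (Core.conj_mem_of_le_normalizer (S.piece_norm _) ha hy)
    · have := mul_mem hy hz
      simpa [mul_assoc] using this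
  have hNC : C ≤ normalizer (N : Set G) := by
    rw [Subgroup.le_normalizer_iff]
    intro a ha x hx
    refine Subgroup.iSup_induction _ (C := fun x => a * x * a⁻¹ ∈ N) hx (fun B₀ y hy => ?_)
      (by simp) fun y z hy hz => ?_
    · refine Subgroup.mem_iSup_of_mem B₀ (Core.conj_mem_of_le_normalizer
        (Subgroup.normalizer_commutator_ge_left _ _) ?_ hy)
      exact ⟨ha.1, Subgroup.centralizer_le (B₀.2.1.trans S.le) ha.2⟩
    · have := mul_mem hy hz
      simpa [mul_assoc] using this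
  refine hYA.ge.trans ?_
  rw [Subgroup.commutator_le]
  intro y hy a ha
  obtain ⟨c, hc, n, hn, rfl⟩ := (Core.mem_sup_iff_mul hNC).mp (hgen hy)
  have h1 : ⁅n, a⁆ ∈ N := Core.commutator_le_of_normalizes hNA (Subgroup.commutator_mem_commutator hn ha)
  rw [commutatorElement_mul_left_eq_conj_mul, show ⁅c, a⁆ = 1 from
    commutatorElement_eq_one_iff_mul_comm.mpr (Subgroup.mem_centralizer_iff.mp hc.2 a ha).symm, mul_one]
  exact Core.conj_mem_of_le_normalizer hNC hc h1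

/-- An abelian normal subgroup not in the centre. -/
theorem fixed_commutator_le (S : Setup p A B Y) (hYA : ⁅Y, A⁆ = Y) {W : Subgroup G}
    [IsMulCommutative W] (hWY : W ≤ Y) (hWn : Y ≤ normalizer (W : Set G))
    (hWA : A ≤ normalizer (W : Set G)) :
    ⁅W, Y⁆ ⊓ centralizer (B : Set G) ≤ rightSide A B Y := by
  set T := ⁅W, Y⁆ with hT
  have hTW : T ≤ W := Core.commutator_le_of_normalizes hWn
  haveI : IsMulCommutative T :=
    ⟨⟨fun a b => Subtype.ext (congrArg (fun z : W => (z : G)) (mul_comm' (⟨a, hTW a.2⟩ : W) ⟨b, hTW b.2⟩))⟩⟩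
  have hWT : W ≤ centralizer (T : Set G) := fun w hw => Subgroup.mem_centralizer_iff.mpr fun t ht =>
    congrArg (fun z : W => (z : G)) (mul_comm' (⟨t, hTW ht⟩ : W) ⟨w, hw⟩)
  have hTA : A ≤ normalizer (T : Set G) := by
    intro a ha
    rw [Core.mem_normalizer_iff_conj_smul_eq, Core.conj_smul_eq_map, hT, Subgroup.map_commutator,
      ← Core.conj_smul_eq_map, ← Core.conj_smul_eq_map,
      Core.mem_normalizer_iff_conj_smul_eq.mp (hWA ha),
      Core.mem_normalizer_iff_conj_smul_eq.mp (S.norm ha)]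
  have hTY := hTW.trans hWY
  have hTS : target A B Y T ≤ T := sup_le inf_le_left (Core.commutator_le_of_normalizes (S.le.trans hTA))
  refine S.fixed_le_of_le_target hTY hTA ?_
  conv_lhs => rw [hT]
  rw [Subgroup.commutator_le]
  intro w hw y hy
  revert w hw
  refine Subgroup.iSup_induction (fun B₀ : {B₀ : Subgroup G // B₀ ≤ B ∧ CyclicMod B B₀} => piece A Y B₀)
    (C := fun y => ∀ w ∈ W, ⁅w, y⁆ ∈ target A B Y T) (S.le_iSup_piece hYA hy)
    (fun B₀ x hx w hw => ?_) (fun w _ => by rw [commutatorElement_one_right]; exact one_mem _)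
    fun x z hx hz w hw => ?_
  · exact S.commutator_piece B₀.2.1 B₀.2.2 hWY hWA hTY hTA hWT hx
      (fun v hv => Subgroup.commutator_mem_commutator hv (S.piece_le B₀.2.1 hx).1) hw
  · have h1 := hx w hw
    have h2 := hz w hw
    have h3 := hx _ (hTW (hTS h2))
    rw [commutatorElement_mul_right_eq_mul_conj]
    rw [show ⁅w, x⁆ * x * ⁅w, z⁆ * x⁻¹ = ⁅w, x⁆ * (⁅⁅w, z⁆, x⁆⁻¹ * ⁅w, z⁆) by
      simp only [commutatorElement_def]; group]
    exact mul_mem h1 (mul_mem (inv_mem h3) h2)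

/-- A class two normal subgroup with central derived group. -/
theorem fixed_derived_le (S : Setup p A B Y) {U : Subgroup G} (hUY : U ≤ Y)
    (hUA : A ≤ normalizer (U : Set G)) (hUZ : ⁅U, U⁆ ≤ centralizer (Y : Set G))
    (hD : Y ⊓ centralizer (B : Set G) ≤ rightSide A B Y ⊔ (⁅U, U⁆ ⊓ centralizer (B : Set G))) :
    ⁅U, U⁆ ⊓ centralizer (B : Set G) ≤ rightSide A B Y := by
  set T := ⁅U, U⁆ with hT
  set R := rightSide A B Y with hR
  have hTU : T ≤ U := Subgroup.commutator_le_self U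
  have hTY := hTU.trans hUY
  haveI : IsMulCommutative T := ⟨⟨fun a b => Subtype.ext
    (Subgroup.mem_centralizer_iff.mp (hUZ b.2) a (hTY a.2))⟩⟩
  have hTA : A ≤ normalizer (T : Set G) := by
    intro a ha
    rw [Core.mem_normalizer_iff_conj_smul_eq, Core.conj_smul_eq_map, hT, Subgroup.map_commutator,
      ← Core.conj_smul_eq_map, Core.mem_normalizer_iff_conj_smul_eq.mp (hUA ha)]
  have hUT : U ≤ centralizer (T : Set G) := fun u hu => Subgroup.mem_centralizer_iff.mpr fun t ht =>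
    (Subgroup.mem_centralizer_iff.mp (hUZ ht) u (hUY hu)).symm
  haveI : IsMulCommutative B := ⟨⟨fun a b => Subtype.ext (S.commA (S.le a.2) (S.le b.2))⟩⟩
  refine S.fixed_le_of_le_target hTY hTA ?_
  set V := (⨆ B₀ : {B₀ : Subgroup G // B₀ ≤ B ∧ CyclicMod B B₀},
    ⁅U ⊓ centralizer ((B₀ : Subgroup G) : Set G), A⁆) ⊔ (U ⊓ centralizer (A : Set G)) with hV
  have hgen : U ≤ V := by
    refine le_of_cyclic_quot (S.pgroup.to_le S.le) (S.le.trans hUA)
      (fun hd => S.notDvd (hd.trans (Subgroup.card_dvd_of_le hUY))) fun B₀ h hc => ?_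
    rw [← Core.commutator_sup_centralizer (S.normInfC (h.trans S.le) hUA)
      (S.cop le_rfl (inf_le_left.trans hUY)) (Or.inl (S.solv le_rfl))]
    exact sup_le (le_trans (le_iSup (fun B₀ : {B₀ : Subgroup G // B₀ ≤ B ∧ CyclicMod B B₀} =>
      ⁅U ⊓ centralizer ((B₀ : Subgroup G) : Set G), A⁆) ⟨B₀, h, hc⟩) le_sup_left)
      (le_trans (inf_le_inf_right _ inf_le_left) le_sup_right)
  -- fixed points have commutators in the right side
  have hDD : ∀ c ∈ Y ⊓ centralizer (B : Set G), ∀ g ∈ Y ⊓ centralizer (B : Set G), ⁅c, g⁆ ∈ R := by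
    have hn : R ≤ normalizer ((T ⊓ centralizer (B : Set G) : Subgroup G) : Set G) := by
      intro r hr
      refine Subgroup.centralizer_le_normalizer _ (Subgroup.mem_centralizer_iff.mpr fun t ht => ?_)
      exact (Subgroup.mem_centralizer_iff.mp (hUZ ht.1) r (S.rightSide_le hr).1).symm
    intro c hc g hg
    obtain ⟨r, hr, t, ht, rfl⟩ := (Core.mem_sup_iff_mul hn).mp (hD hc)
    obtain ⟨r', hr', t', ht', rfl⟩ := (Core.mem_sup_iff_mul hn).mp (hD hg)
    have e1 : ∀ y ∈ Y, y * t = t * y := fun y hy => Subgroup.mem_centralizer_iff.mp (hUZ ht.1) y hy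
    have e2 : ∀ y ∈ Y, y * t' = t' * y := fun y hy => Subgroup.mem_centralizer_iff.mp (hUZ ht'.1) y hy
    have hrY := (S.rightSide_le hr).1
    have hr'Y := (S.rightSide_le hr').1
    have h1 : ⁅r * t, r' * t'⁆ = ⁅r, r'⁆ := by
      rw [commutatorElement_mul_left_eq_conj_mul,
        show ⁅t, r' * t'⁆ = 1 from commutatorElement_eq_one_iff_mul_comm.mpr (e1 _ hg.1).symm,
        mul_one, mul_inv_cancel, one_mul, commutatorElement_mul_right_eq_mul_conj,
        show ⁅r, t'⁆ = 1 from commutatorElement_eq_one_iff_mul_comm.mpr (e2 _ hrY), mul_one,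
        mul_inv_cancel_right]
    rw [h1]
    exact Subgroup.commutator_le_self R (Subgroup.commutator_mem_commutator hr hr')
  conv_lhs => rw [hT]
  rw [Subgroup.commutator_le]
  intro u hu g hg
  let K : Subgroup G :=
    { carrier := {g | g ∈ U ∧ ∀ u ∈ U, ⁅u, g⁆ ∈ target A B Y T}
      one_mem' := ⟨one_mem _, fun u _ => by rw [commutatorElement_one_right]; exact one_mem _⟩
      mul_mem' := fun {g h} hg hh => ⟨mul_mem hg.1 hh.1, fun u hu => by
        rw [commutatorElement_mul_right_eq_mul_conj, mul_assoc _ g, mul_assoc,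
          ← Subgroup.mem_centralizer_iff.mp (hUT hg.1) _ (Subgroup.commutator_mem_commutator hu hh.1),
          mul_inv_cancel_right]
        exact mul_mem (hg.2 u hu) (hh.2 u hu)⟩
      inv_mem' := fun {g} hg => ⟨inv_mem hg.1, fun u hu => by
        have h : ⁅u, g * g⁻¹⁆ = ⁅u, g⁆ * ⁅u, g⁻¹⁆ := by
          rw [commutatorElement_mul_right_eq_mul_conj, mul_assoc _ g, mul_assoc,
            ← Subgroup.mem_centralizer_iff.mp (hUT hg.1) _
              (Subgroup.commutator_mem_commutator hu (inv_mem hg.1)),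
            mul_inv_cancel_right]
        rw [mul_inv_cancel, commutatorElement_one_right] at h
        rw [eq_inv_of_mul_eq_one_right h.symm]
        exact inv_mem (hg.2 u hu)⟩ }
  suffices hle : V ≤ K from (hle (hgen hg)).2 u hu
  refine sup_le (iSup_le fun B₀ x hx => ?_) fun x hx => ⟨hx.1, fun w hw => ?_⟩
  · have hxU : x ∈ U :=
      (Core.commutator_le_of_normalizes (S.normInfC (B₀.2.1.trans S.le) hUA) hx).1
    exact ⟨hxU, fun w hw => S.commutator_piece B₀.2.1 B₀.2.2 hUY hUA hTY hTA hUT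
      (Subgroup.commutator_mono (inf_le_inf_right _ hUY) le_rfl hx)
      (fun v hv => Subgroup.commutator_mem_commutator hv hxU) hw⟩
  · have hxB : x ∈ centralizer (B : Set G) := Subgroup.centralizer_le S.le hx.2
    obtain ⟨q, hq, c, hc, rfl⟩ := Core.exists_mul_centralizing (S.le.trans hUA)
      (S.cop S.le hUY) (Or.inl (S.solv S.le)) hw
    have hqU : q ∈ U := Core.commutator_le_of_normalizes (S.le.trans hUA) hq
    have hcT : ⁅c, x⁆ ∈ T := Subgroup.commutator_mem_commutator hc.1 hx.1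
    rw [commutatorElement_mul_left_eq_conj_mul,
      ← Subgroup.mem_centralizer_iff.mp (hUT hqU) _ hcT, mul_inv_cancel_right]
    exact mul_mem (Subgroup.mem_sup_left ⟨hcT, hDD c ⟨hUY hc.1, hc.2⟩ x ⟨hUY hx.1, hxB⟩⟩)
      (Subgroup.mem_sup_right (S.commutator_moved le_rfl (S.le.trans hUA) hUT hxB
        (fun v hv => Subgroup.commutator_mem_commutator hv hx.1) hq))

end Setup

end CfsgLib.FTDep
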