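import Cfsg.Agent.Lib.FTDep.FixedGenerationMain
import Cfsg.Agent.Lib.FTDep.Basic

/-!
# `fixed_generation` for groups of odd order
-/

set_option autoImplicit false

universe u

namespace CfsgLib.FTDep

open Subgroup
open scoped commutatorElement

variable {G : Type u} [Group G] [Finite G]

theorem cyclicMod_iff {B B₀ : Subgroup G} [IsMulCommutative B] (hle : B₀ ≤ B) :
    CyclicMod B B₀ ↔ ∀ [(B₀.subgroupOf B).Normal], IsCyclic (↥B ⧸ B₀.subgroupOf B) := by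
  constructor
  · rintro ⟨b, hb, hgen⟩ _
    refine ⟨⟨QuotientGroup.mk (⟨b, hb⟩ : B), fun q => ?_⟩⟩
    induction q using QuotientGroup.induction_on with
    | H x =>
      have hn : zpowers b ≤ normalizer (B₀ : Set G) := by
        rw [Subgroup.zpowers_le]
        exact Subgroup.centralizer_le_normalizer _ (Subgroup.mem_centralizer_iff.mpr fun y hy =>
          congrArg (fun z : B => (z : G)) (mul_comm' (⟨y, hle hy⟩ : B) ⟨b, hb⟩))
      obtain ⟨β, hβ, c, ⟨k, rfl⟩, he⟩ := (Core.mem_sup_iff_mul' hn).mp (by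
        rw [sup_comm]; exact hgen x.2 : (x : G) ∈ zpowers b ⊔ B₀)
      refine Subgroup.mem_zpowers_iff.mpr ⟨k, ?_⟩
      rw [← QuotientGroup.mk_zpow, QuotientGroup.eq]
      show ((((⟨b, hb⟩ : B) ^ k : B) : G))⁻¹ * (x : G) ∈ B₀
      rw [SubgroupClass.coe_zpow, he]
      have h1 : β * b ^ k = b ^ k * β := congrArg (fun z : B => (z : G))
        (mul_comm' (⟨β, hle hβ⟩ : B) ⟨b ^ k, zpow_mem hb k⟩)
      rw [show ((⟨b, hb⟩ : B) : G) = b from rfl, h1, inv_mul_cancel_left]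
      exact hβ
  · intro h
    haveI hn : (B₀.subgroupOf B).Normal := ⟨fun x hx g => by
      have h1 : g * x = x * g := mul_comm' g x
      rwa [h1, mul_inv_cancel_right]⟩
    obtain ⟨q, hq⟩ := h.exists_generator
    induction q using QuotientGroup.induction_on with
    | H b =>
      refine ⟨b, b.2, fun x hx => ?_⟩
      obtain ⟨k, hk⟩ := Subgroup.mem_zpowers_iff.mp (hq (QuotientGroup.mk (⟨x, hx⟩ : B)))
      rw [← QuotientGroup.mk_zpow, QuotientGroup.eq] at hk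
      have h2 : ((b : G) ^ k)⁻¹ * x ∈ B₀ := by
        have h3 : (((b ^ k : B) : G))⁻¹ * x ∈ B₀ := hk
        rwa [SubgroupClass.coe_zpow] at h3
      rw [show x = (b : G) ^ k * (((b : G) ^ k)⁻¹ * x) by group]
      exact mul_mem (Subgroup.mem_sup_right (Subgroup.zpow_mem_zpowers _ k)) (Subgroup.mem_sup_left h2)

theorem odd_fixed_generation (hFT : OddSolvable.{u}) (A B Y : Subgroup G) (hA2 : IsPGroup 2 ↥A)
    (hAc : IsMulCommutative ↥A) (hB : B ≤ A) (hYodd : Odd (Nat.card ↥Y))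
    (hAY : A ≤ normalizer (Y : Set G)) (hYA : ⁅Y, A⁆ = Y) :
    Y ⊓ centralizer (B : Set G) = ⨆ B₀ : {B₀ : Subgroup G // B₀ ≤ B ∧
      ∀ [(B₀.subgroupOf B).Normal], IsCyclic (↥B ⧸ B₀.subgroupOf B)},
      Y ⊓ centralizer (B : Set G) ⊓ ⁅Y ⊓ centralizer ((B₀ : Subgroup G) : Set G), A⁆ := by
  haveI : Fact (Nat.Prime 2) := ⟨Nat.prime_two⟩
  haveI : IsMulCommutative B := ⟨⟨fun a b => Subtype.ext
    (congrArg (fun z : A => (z : G)) (mul_comm' (⟨a, hB a.2⟩ : A) ⟨b, hB b.2⟩))⟩⟩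
  have S : Setup 2 A B Y :=
    ⟨hA2, hAc, hB, fun hd => Nat.not_even_iff_odd.mpr hYodd (even_iff_two_dvd.mpr hd), hAY⟩
  refine le_antisymm ?_ (iSup_le fun _ => inf_le_left)
  refine (fixed_generation (Nat.card Y) S (hFT Y hYodd) hYA rfl).trans
    (iSup_le fun ⟨B₀, h1, h2⟩ => ?_)
  exact le_iSup (fun B₀ : {B₀ : Subgroup G // B₀ ≤ B ∧
      ∀ [(B₀.subgroupOf B).Normal], IsCyclic (↥B ⧸ B₀.subgroupOf B)} =>
    Y ⊓ centralizer (B : Set G) ⊓ ⁅Y ⊓ centralizer ((B₀ : Subgroup G) : Set G), A⁆)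
    ⟨B₀, h1, (cyclicMod_iff h1).mp h2⟩

end CfsgLib.FTDep
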