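import Cfsg.Agent.Lib.FTDep.Basic
import Cfsg.Agent.Lib.LocalEven.Zsigmondy
import Cfsg.Agent.Lib.Char.Burnside
import Mathlib.GroupTheory.Sylow

/-!
# Automorphisms normalising a transitive group on an elementary abelian 2-group

If `L ≤ Aut E` is transitive on `E ∖ 1`, a Sylow subgroup `R` of `L` for a primitive prime divisor
of `2 ^ n - 1` (for `3` when `n = 6`) has a solvable normaliser in `Aut E`, given the odd order
theorem; so by the Frattini argument a group normalising both `L` and a Sylow 2-subgroup of `L` is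
solvable.
-/

set_option autoImplicit false
set_option linter.style.haveILetI false
set_option linter.unusedSectionVars false

universe u

namespace CfsgLib.FTDep.TransAut

open Subgroup MulAction
open scoped commutatorElement

/-- A group with kernel and range of a homomorphism solvable is solvable. -/
theorem solvable_of_hom {X Y : Type*} [Group X] [Group Y] (f : X →* Y)
    [Group.IsSolvable f.ker] [Group.IsSolvable f.range] : Group.IsSolvable X := by
  haveI : Group.IsSolvable (X ⧸ f.ker) :=
    Group.isSolvable_of_surjective (f := (QuotientGroup.quotientKerEquivRange f).symm.toMonoidHom)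
      (QuotientGroup.quotientKerEquivRange f).symm.surjective
  exact (Group.isSolvable_iff_subgroup_quotient f.ker).mpr ⟨inferInstance, inferInstance⟩

/-- The automorphism group of a group of order nine is solvable. -/
theorem solvable_mulAut_nine {X : Type*} [Group X] [Finite X] (hX : Nat.card X ∣ 9) :
    Group.IsSolvable (MulAut X) := by
  by_cases hA : Nat.card (MulAut X) = 1
  · haveI : Subsingleton (MulAut X) := (Nat.card_eq_one_iff_unique.mp hA).1
    exact Group.isSolvable_of_comm fun a b => Subsingleton.elim _ _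
  have hprimes : ∀ s, s.Prime → s ∣ Nat.card (MulAut X) → s = 2 ∨ s = 3 := by
    intro s hs hd
    haveI := Fact.mk hs
    obtain ⟨φ, hφ⟩ := exists_prime_orderOf_dvd_card' s hd
    have hp : IsPGroup s (Subgroup.zpowers φ) :=
      IsPGroup.of_card (n := 1) (by rw [Nat.card_zpowers, hφ, pow_one])
    have hmod := hp.card_modEq_card_fixedPoints X
    set F : Subgroup X := (φ : X →* X).eqLocus (MonoidHom.id X) with hF
    have hFmem : ∀ x, x ∈ F ↔ φ x = x := fun x => Iff.rfl
    have hfix : MulAction.fixedPoints (Subgroup.zpowers φ) X = (F : Set X) := by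
      ext x
      refine ⟨fun h => h ⟨φ, Subgroup.mem_zpowers φ⟩, fun h => ?_⟩
      rintro ⟨ψ, hψ⟩
      have : Subgroup.zpowers φ ≤ MulAction.stabilizer (MulAut X) x :=
        Subgroup.zpowers_le.mpr h
      exact this hψ
    rw [hfix] at hmod
    have hFd : Nat.card F ∣ Nat.card X := Subgroup.card_subgroup_dvd_card F
    have hFne : Nat.card F ≠ Nat.card X := fun h => by
      have hFt : F = ⊤ := Subgroup.eq_top_of_card_eq F h
      have : φ = 1 := MulEquiv.ext fun x => (hFmem x).mp (hFt ▸ Subgroup.mem_top x)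
      rw [this, orderOf_one] at hφ
      exact hs.one_lt.ne hφ
    have hF1 : 0 < Nat.card F := Nat.card_pos
    have hXle : Nat.card X ≤ 9 := Nat.le_of_dvd (by norm_num) hX
    have hdiff : s ∣ Nat.card X - Nat.card F :=
      (Nat.modEq_iff_dvd' (Nat.le_of_dvd Nat.card_pos hFd)).mp hmod.symm
    have hlt : Nat.card F < Nat.card X :=
      lt_of_le_of_ne (Nat.le_of_dvd Nat.card_pos hFd) hFne
    have hs8 : s ≤ 8 := (Nat.le_of_dvd (by omega) hdiff).trans (by omega)
    interval_cases hc : Nat.card X <;> norm_num at hX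
    all_goals (interval_cases hf : Nat.card F <;> norm_num at hFd)
    all_goals (interval_cases s)
    all_goals first
      | omega
      | (norm_num at hdiff hs)
  refine CfsgLib.Burnside.isSolvable_of_card_eq (p := 2) (q := 3)
    (a := (Nat.card (MulAut X)).factorization 2) (b := (Nat.card (MulAut X)).factorization 3)
    Nat.prime_two Nat.prime_three ?_
  refine Nat.eq_of_factorization_eq Nat.card_pos.ne' (by positivity) fun s => ?_
  rw [Nat.factorization_mul (by positivity) (by positivity), Finsupp.add_apply,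
    Nat.Prime.factorization_pow Nat.prime_two, Nat.Prime.factorization_pow Nat.prime_three]
  by_cases h2 : s = 2
  · subst h2; simp
  by_cases h3 : s = 3
  · subst h3; simp
  rw [Finsupp.single_eq_of_ne h2, Finsupp.single_eq_of_ne h3]
  refine Nat.factorization_eq_zero_iff _ _ |>.mpr ?_
  by_contra hcon
  push Not at hcon
  rcases hprimes s hcon.1 hcon.2.1 with h | h <;> contradiction

/-- Solvability of `Aut R` from an abelian characteristic subgroup. -/
theorem solvable_mulAut_of_char {R : Type*} [Group R] (N : Subgroup R) [N.Characteristic]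
    (hN : ∀ a ∈ N, ∀ b ∈ N, a * b = b * a)
    (h1 : Group.IsSolvable (MulAut N)) (h2 : Group.IsSolvable (MulAut (R ⧸ N))) :
    Group.IsSolvable (MulAut R) := by
  haveI := h1
  haveI := h2
  have hmap : ∀ φ : MulAut R, N.map φ.toMonoidHom = N := fun φ =>
    Subgroup.characteristic_iff_map_eq.mp inferInstance φ
  let f : MulAut R →* MulAut N × MulAut (R ⧸ N) :=
    { toFun := fun φ => ((φ.subgroupMap N).trans (MulEquiv.subgroupCongr (hmap φ)),
        QuotientGroup.congr N N φ (hmap φ))
      map_one' := Prod.ext (MulEquiv.ext fun x => Subtype.ext rfl)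
        (MulEquiv.ext fun x => Quotient.inductionOn x fun _ => rfl)
      map_mul' := fun a b => Prod.ext (MulEquiv.ext fun x => Subtype.ext rfl)
        (MulEquiv.ext fun x => Quotient.inductionOn x fun _ => rfl) }
  haveI : Group.IsSolvable f.ker := Group.isSolvable_of_comm fun a b => Subtype.ext <| MulEquiv.ext fun x => by
    have hfixN : ∀ (k : f.ker) (y : R), y ∈ N → (k : MulAut R) y = y := fun k y hy => by
      have h1 : (f (k : MulAut R)).1 ⟨y, hy⟩ = ⟨y, hy⟩ := by
        rw [MonoidHom.mem_ker.mp k.2]; rfl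
      exact congrArg Subtype.val h1
    have hmove : ∀ (k : f.ker), x⁻¹ * (k : MulAut R) x ∈ N := fun k => by
      have h := DFunLike.congr_fun (congrArg Prod.snd k.2) (x : R ⧸ N)
      exact QuotientGroup.eq.mp (Eq.symm h)
    show (a : MulAut R) ((b : MulAut R) x) = (b : MulAut R) ((a : MulAut R) x)
    obtain ⟨c, hc, hca⟩ : ∃ c ∈ N, (a : MulAut R) x = x * c :=
      ⟨_, hmove a, (mul_inv_cancel_left x _).symm⟩
    obtain ⟨d, hd, hdb⟩ : ∃ d ∈ N, (b : MulAut R) x = x * d :=
      ⟨_, hmove b, (mul_inv_cancel_left x _).symm⟩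
    rw [hdb, hca, map_mul, map_mul, hfixN a d hd, hfixN b c hc, hca, hdb, mul_assoc, mul_assoc,
      hN c hc d hd]
  exact solvable_of_hom f

/-- The automorphism group of a group of order `27` or `81` with small centre is solvable. -/
theorem solvable_mulAut_three {R : Type*} [Group R] [Finite R] (hR : Nat.card R ∣ 81)
    (hZ : Nat.card (center R) ∣ 9) (hab : (∀ a b : R, a * b = b * a) → Nat.card R ∣ 9) :
    Group.IsSolvable (MulAut R) := by
  haveI : Fact (Nat.Prime 3) := ⟨Nat.prime_three⟩
  obtain ⟨k, hk, hkR⟩ := (Nat.dvd_prime_pow Nat.prime_three).mp (show Nat.card R ∣ 3 ^ 4 from hR)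
  have hRp : IsPGroup 3 R := IsPGroup.of_card hkR
  by_cases h9 : Nat.card R ∣ 9
  · exact solvable_mulAut_nine h9
  have hnc : ¬ ∀ a b : R, a * b = b * a := fun h => h9 (hab h)
  haveI : Nontrivial R := by
    by_contra h
    rw [not_nontrivial_iff_subsingleton] at h
    exact hnc fun a b => Subsingleton.elim _ _
  haveI := hRp.center_nontrivial
  have hZ1 : 1 < Nat.card (center R) := Finite.one_lt_card
  have hmul : Nat.card (center R) * (center R).index = Nat.card R := (center R).card_mul_index
  have hcomm : ∀ a ∈ center R, ∀ b ∈ center R, a * b = b * a :=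
    fun a ha b _ => (mem_center_iff.mp ha b).symm
  by_cases hq : Nat.card (R ⧸ center R) ∣ 9
  · exact solvable_mulAut_of_char (center R) hcomm (solvable_mulAut_nine hZ) (solvable_mulAut_nine hq)
  -- the centre has order three and the central quotient order 27
  have hcards : Nat.card (center R) = 3 ∧ Nat.card (R ⧸ center R) = 27 := by
    change ¬ (center R).index ∣ 9 at hq
    change _ ∧ (center R).index = 27
    obtain ⟨i, hi, hiR⟩ := (Nat.dvd_prime_pow Nat.prime_three).mp
      (show Nat.card (center R) ∣ 3 ^ 2 from hZ)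
    obtain ⟨j, hj, hjR⟩ := (Nat.dvd_prime_pow Nat.prime_three).mp
      (show (center R).index ∣ 3 ^ k from hkR ▸ hmul ▸ dvd_mul_left _ _)
    rw [hiR] at hmul hZ1 ⊢
    rw [hjR] at hmul hq ⊢
    rw [hkR, ← pow_add] at hmul
    have hij := Nat.pow_right_injective (by norm_num : 2 ≤ 3) hmul
    have : ¬ j ≤ 2 := fun h => hq (show 3 ^ j ∣ 3 ^ 2 from pow_dvd_pow 3 h)
    have : i ≠ 0 := by rintro rfl; simp at hZ1
    have e1 : i = 1 := by omega
    have e2 : j = 3 := by omega
    subst e1 e2; norm_num
  obtain ⟨hZ3, hQ27⟩ := hcards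
  have hR81 : Nat.card R = 81 := by
    rw [← hmul, hZ3, show (center R).index = 27 from hQ27]
  -- the central quotient is not abelian
  have hQnc : ¬ ∀ a b : R ⧸ center R, a * b = b * a := by
    intro hc
    have hcm : ∀ a b : R, ⁅a, b⁆ ∈ center R := fun a b => by
      rw [← QuotientGroup.eq_one_iff, ← QuotientGroup.mk'_apply, map_commutatorElement,
        commutatorElement_eq_one_iff_mul_comm]
      exact hc _ _
    let f : R → R →* center R := fun x =>
      { toFun := fun y => ⟨⁅x, y⁆, hcm x y⟩
        map_one' := Subtype.ext (commutatorElement_one_right x)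
        map_mul' := fun y z => Subtype.ext <| by
          show ⁅x, y * z⁆ = ⁅x, y⁆ * ⁅x, z⁆
          rw [show ⁅x, y * z⁆ = ⁅x, y⁆ * (y * ⁅x, z⁆ * y⁻¹) by
            simp only [commutatorElement_def]; group]
          rw [mem_center_iff.mp (hcm x z) y, mul_inv_cancel_right] }
    have hfker : ∀ x y, y ∈ (f x).ker ↔ x * y = y * x := fun x y => by
      rw [MonoidHom.mem_ker, Subtype.ext_iff]; exact commutatorElement_eq_one_iff_mul_comm
    obtain ⟨x, hx⟩ : ∃ x, x ∉ center R := by
      by_contra h
      push Not at h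
      exact hnc fun a b => mem_center_iff.mp (h b) a
    set A := (f x).ker
    have hAi : A.index ∣ 3 := by
      rw [Subgroup.index_ker]; exact (Subgroup.card_subgroup_dvd_card _).trans hZ3.dvd
    have hAtop : A ≠ ⊤ := fun h => hx (mem_center_iff.mpr fun y =>
      ((hfker x y).mp (h ▸ Subgroup.mem_top y : y ∈ A)).symm)
    have hA3 : A.index = 3 := (Nat.dvd_prime Nat.prime_three).mp hAi |>.resolve_left
      fun h => hAtop (Subgroup.index_eq_one.mp h)
    have hAcard : Nat.card A = 27 := by
      have := A.card_mul_index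
      rw [hA3, hR81] at this; omega
    have hxA : x ∈ A := (hfker x x).mpr rfl
    have hZA : center R ≤ A := fun z hz => (hfker x z).mpr (mem_center_iff.mp hz x)
    -- `A` is abelian
    have hAab : ∀ a ∈ A, ∀ b ∈ A, a * b = b * a := by
      let D : Subgroup A := center A
      have hDle : ((center R) ⊔ Subgroup.zpowers x).subgroupOf A ≤ D := by
        intro a ha
        refine mem_center_iff.mpr fun b => Subtype.ext ?_
        have : (center R) ⊔ Subgroup.zpowers x ≤ centralizer ({(b : R)} : Set R) :=
          sup_le (fun z hz => mem_centralizer_singleton_iff.mpr (mem_center_iff.mp hz b).symm)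
            (Subgroup.zpowers_le.mpr (mem_centralizer_singleton_iff.mpr ((hfker x b).mp b.2)))
        exact (mem_centralizer_singleton_iff.mp (this ha)).symm
      have hlt : center R < (center R) ⊔ Subgroup.zpowers x :=
        lt_of_le_of_ne le_sup_left fun h => hx (h ▸ mem_sup_right (Subgroup.mem_zpowers x))
      have hcl : 3 < Nat.card D := by
        have h1 : Nat.card (center R) < Nat.card ((center R) ⊔ Subgroup.zpowers x : Subgroup R) := by
          refine lt_of_le_of_ne (Subgroup.card_le_of_le hlt.le) fun h => hlt.ne ?_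
          exact Subgroup.eq_of_le_of_card_ge hlt.le h.ge
        rw [hZ3] at h1
        refine lt_of_lt_of_le h1 (le_of_eq_of_le ?_ (Subgroup.card_le_of_le hDle))
        exact (Nat.card_congr (Subgroup.subgroupOfEquivOfLe
          (sup_le hZA (Subgroup.zpowers_le.mpr hxA))).toEquiv).symm
      have hcyc : IsCyclic (A ⧸ D) := by
        have h2 := D.card_mul_index
        rw [hAcard] at h2
        obtain ⟨i, hi, hiD⟩ := (Nat.dvd_prime_pow Nat.prime_three).mp
          (show Nat.card D ∣ 3 ^ 3 from ⟨D.index, h2.symm⟩)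
        have h4 : D.index = 3 ∨ D.index = 1 := by
          rw [hiD] at h2 hcl
          interval_cases i <;> omega
        rcases h4 with h4 | h4
        · exact isCyclic_of_prime_card (p := 3) h4
        · haveI : Subsingleton (A ⧸ D) := (Nat.card_eq_one_iff_unique.mp h4).1
          infer_instance
      intro a ha b hb
      exact congrArg Subtype.val
        (commutative_of_cyclic_center_quotient (QuotientGroup.mk' D)
          (by rw [QuotientGroup.ker_mk']) ⟨a, ha⟩ ⟨b, hb⟩)
    obtain ⟨w, hw⟩ : ∃ w, w ∉ A := by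
      by_contra h
      push Not at h
      exact hAtop (top_unique fun y _ => h y)
    have hker : 3 < Nat.card ((f w).ker ⊓ A : Subgroup R) := by
      have h1 : ((f w).ker ⊓ A).index ≤ 9 := by
        refine Subgroup.index_inf_le.trans ?_
        rw [hA3, Subgroup.index_ker]
        calc Nat.card (f w).range * 3 ≤ 3 * 3 := by
              exact Nat.mul_le_mul_right 3 (hZ3 ▸ Nat.le_of_dvd Nat.card_pos (Subgroup.card_subgroup_dvd_card _))
          _ = 9 := rfl
      have h2 := ((f w).ker ⊓ A).card_mul_index
      rw [hR81] at h2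
      by_contra h3
      push Not at h3
      have := Nat.mul_le_mul h3 h1
      omega
    obtain ⟨a, ha, haZ⟩ : ∃ a ∈ (f w).ker ⊓ A, a ∉ center R := by
      by_contra h
      push Not at h
      exact absurd (Subgroup.card_le_of_le h) (by omega)
    refine haZ ?_
    have hle : A ⊔ Subgroup.zpowers w ≤ centralizer ({a} : Set R) :=
      sup_le (fun b hb => mem_centralizer_singleton_iff.mpr (hAab b hb a ha.2))
        (Subgroup.zpowers_le.mpr (mem_centralizer_singleton_iff.mpr ((hfker w a).mp ha.1)))
    have htop : A ⊔ Subgroup.zpowers w = ⊤ := by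
      have hlt : A < A ⊔ Subgroup.zpowers w :=
        lt_of_le_of_ne le_sup_left fun h => hw (h ▸ mem_sup_right (Subgroup.mem_zpowers w))
      have h1 := Subgroup.index_dvd_of_le hlt.le
      rw [hA3] at h1
      rcases (Nat.dvd_prime Nat.prime_three).mp h1 with h | h
      · exact Subgroup.index_eq_one.mp h
      · exact absurd (Subgroup.eq_of_le_of_card_ge hlt.le (by
          have e1 := A.card_mul_index
          have e2 := (A ⊔ Subgroup.zpowers w).card_mul_index
          rw [hA3] at e1; rw [h] at e2; omega)) hlt.ne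
    exact mem_center_iff.mpr fun y =>
      mem_centralizer_singleton_iff.mp (hle (htop ▸ Subgroup.mem_top y))
  -- the centre of the quotient has order three
  have hQp : IsPGroup 3 (R ⧸ center R) := hRp.to_quotient (center R)
  haveI : Nontrivial (R ⧸ center R) := by
    by_contra h
    rw [not_nontrivial_iff_subsingleton] at h
    exact hQnc fun a b => Subsingleton.elim _ _
  haveI := hQp.center_nontrivial
  have hQZ : Nat.card (center (R ⧸ center R)) = 3 := by
    set D := center (R ⧸ center R)
    have h1 : 1 < Nat.card D := Finite.one_lt_card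
    have h2 := D.card_mul_index
    rw [hQ27] at h2
    have hnot : ¬ IsCyclic ((R ⧸ center R) ⧸ D) := fun hcy => hQnc
      (commutative_of_cyclic_center_quotient (QuotientGroup.mk' D) (by rw [QuotientGroup.ker_mk']))
    obtain ⟨i, hi, hiD⟩ := (Nat.dvd_prime_pow Nat.prime_three).mp
      (show Nat.card D ∣ 3 ^ 3 from ⟨D.index, h2.symm⟩)
    rw [hiD] at h1 h2 ⊢
    interval_cases i
    · simp at h1
    · rfl
    · exact absurd (isCyclic_of_prime_card (p := 3) (show D.index = 3 by omega)) hnot
    · haveI : Subsingleton ((R ⧸ center R) ⧸ D) :=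
        (Nat.card_eq_one_iff_unique.mp (show D.index = 1 by omega)).1
      exact (hnot inferInstance).elim
  refine solvable_mulAut_of_char (center R) hcomm (solvable_mulAut_nine (by rw [hZ3]; norm_num)) ?_
  refine solvable_mulAut_of_char (center (R ⧸ center R))
    (fun a ha b _ => (mem_center_iff.mp ha b).symm) (solvable_mulAut_nine (by rw [hQZ]; norm_num))
    (solvable_mulAut_nine ?_)
  have h2 := (center (R ⧸ center R)).card_mul_index
  rw [hQ27, hQZ] at h2
  show (center (R ⧸ center R)).index ∣ 9
  exact ⟨1, by omega⟩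

section Space

variable {E : Type u} [CommGroup E] [Finite E]

theorem exists_card_eq_pow (hE : ∀ x : E, x * x = 1) (W : Subgroup E) :
    ∃ j, Nat.card W = 2 ^ j := by
  haveI : Fact (Nat.Prime 2) := ⟨Nat.prime_two⟩
  exact IsPGroup.iff_card.mp fun x => ⟨1, by rw [pow_one, sq]; exact Subtype.ext (hE x)⟩

/-- `K` leaves no proper nontrivial subgroup invariant. -/
def Irred (K : Subgroup (MulAut E)) : Prop :=
  ∀ W : Subgroup E, (∀ k ∈ K, ∀ w ∈ W, k w ∈ W) → W = ⊥ ∨ W = ⊤

theorem irred_of_orbits (hE : ∀ x : E, x * x = 1) {K : Subgroup (MulAut E)} {n m : ℕ}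
    (hn : Nat.card E = 2 ^ n) (hm : ∀ j, 0 < j → j < n → ¬ m ∣ 2 ^ j - 1)
    (horb : ∀ v : E, v ≠ 1 → m ∣ Nat.card (MulAction.orbit K v)) : Irred K := by
  intro W hW
  by_contra hne
  push Not at hne
  obtain ⟨j, hj⟩ := exists_card_eq_pow hE W
  have hj0 : 0 < j := Nat.pos_of_ne_zero fun h =>
    hne.1 (Subgroup.eq_bot_of_card_eq _ (by rw [hj, h, pow_zero]))
  have hjn : j < n := by
    refine (Nat.pow_lt_pow_iff_right (a := 2) one_lt_two).mp ?_
    rw [← hj, ← hn]
    refine lt_of_le_of_ne (Nat.le_of_dvd Nat.card_pos (Subgroup.card_subgroup_dvd_card W)) fun h =>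
      hne.2 (Subgroup.eq_top_of_card_eq W h)
  let X : SubMulAction K E :=
    { carrier := {w | w ∈ W ∧ w ≠ 1}
      smul_mem' := fun k w hw => ⟨hW k k.2 w hw.1, fun h =>
        hw.2 ((k : MulAut E).map_eq_one_iff.mp h)⟩ }
  refine hm j hj0 hjn ?_
  have hX : Nat.card X = 2 ^ j - 1 := by
    have e : X ≃ {w : W // w ≠ 1} :=
      { toFun := fun w => ⟨⟨w.1, w.2.1⟩, fun h => w.2.2 (congrArg Subtype.val h)⟩
        invFun := fun w => ⟨w.1.1, w.1.2, fun h => w.2 (Subtype.ext h)⟩
        left_inv := fun _ => rfl
        right_inv := fun _ => rfl }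
    classical
    haveI := Fintype.ofFinite W
    rw [Nat.card_congr e, Nat.card_eq_fintype_card, Fintype.card_subtype_compl,
      Fintype.card_subtype_eq, ← Nat.card_eq_fintype_card, hj]
  classical
  haveI : Fintype (MulAction.orbitRel.Quotient K X) := Fintype.ofFinite _
  rw [← hX, Nat.card_congr (MulAction.selfEquivSigmaOrbits K X), Nat.card_sigma]
  refine Finset.dvd_sum fun o _ => ?_
  induction o using Quotient.inductionOn' with
  | h w =>
    set w' : X := (Quotient.out _)
    have := horb (w' : E) w'.2.2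
    rwa [Nat.card_congr ((Equiv.Set.image Subtype.val (MulAction.orbit K w') Subtype.val_injective)),
      SubMulAction.val_image_orbit]

theorem Irred.fpf {K : Subgroup (MulAut E)} (hK : Irred K) {c : MulAut E}
    (hc : ∀ k ∈ K, c * k = k * c) (hc1 : c ≠ 1) {v : E} (hv : c v = v) : v = 1 := by
  rcases hK ((c : E →* E).eqLocus (MonoidHom.id E)) (fun k hk w hw => by
      show c (k w) = k w
      have hw' : c w = w := hw
      rw [← MulAut.mul_apply, hc k hk, MulAut.mul_apply, hw']) with h | h
  · exact Subgroup.mem_bot.mp (h ▸ (hv : v ∈ (c : E →* E).eqLocus (MonoidHom.id E)))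
  · refine absurd (MulEquiv.ext fun w => ?_) hc1
    exact (h ▸ Subgroup.mem_top w : w ∈ (c : E →* E).eqLocus (MonoidHom.id E))

theorem Irred.centralizer_comm {K : Subgroup (MulAut E)} (hK : Irred K)
    (hab : ∀ a ∈ K, ∀ b ∈ K, a * b = b * a) :
    ∀ c ∈ centralizer (K : Set (MulAut E)), ∀ d ∈ centralizer (K : Set (MulAut E)),
      c * d = d * c := by
  intro c hc d hd
  by_cases hne : ∀ v : E, v = 1
  · exact MulEquiv.ext fun v => (hne _).trans (hne _).symm
  push Not at hne
  obtain ⟨v, hv⟩ := hne
  set C := centralizer (K : Set (MulAut E)) with hC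
  let M : Subgroup E :=
    { carrier := {x | ∃ f : E →* E, (∀ e ∈ C, ∀ y, f (e y) = e (f y)) ∧ f v = x}
      one_mem' := ⟨1, fun e _ y => (map_one e).symm, rfl⟩
      mul_mem' := fun {a b} ⟨f, hf, hfa⟩ ⟨g, hg, hgb⟩ =>
        ⟨f * g, fun e he y => by simp [hf e he y, hg e he y], by simp [hfa, hgb]⟩
      inv_mem' := fun {a} ⟨f, hf, hfa⟩ =>
        ⟨f⁻¹, fun e he y => by simp [hf e he y], by simp [hfa]⟩ }
  have hKC : ∀ k ∈ K, ∀ e ∈ C, ∀ y, k (e y) = e (k y) := fun k hk e he y => by
    have h1 : k * e = e * k := mem_centralizer_iff.mp he k hk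
    exact DFunLike.congr_fun h1 y
  have hM : M = ⊤ := by
    refine (hK M fun k hk x ⟨f, hf, hfx⟩ => ?_).resolve_left fun h => ?_
    · exact ⟨(k : E →* E).comp f, fun e he y => by
        show k (f (e y)) = e (k (f y))
        rw [hf e he y, hKC k hk e he], by show k (f v) = k x; rw [hfx]⟩
    · exact hv (Subgroup.mem_bot.mp (h ▸ (show v ∈ M from ⟨MonoidHom.id E, fun _ _ _ => rfl, rfl⟩)))
  obtain ⟨f, hf, hfv⟩ : c v ∈ M := hM ▸ Subgroup.mem_top _
  have hcf : ∀ y, c y = f y := by
    have h1 : (c : E →* E).eqLocus f = ⊤ := by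
      refine (hK _ fun k hk w (hw : c w = f w) => ?_).resolve_left fun h => ?_
      · show c (k w) = f (k w)
        rw [← hKC k hk c hc, hw]
        have hkC : k ∈ C := mem_centralizer_iff.mpr fun a ha => hab a ha k hk
        exact (hf k hkC w).symm
      · exact hv (Subgroup.mem_bot.mp (h ▸ (hfv.symm : v ∈ (c : E →* E).eqLocus f)))
    exact fun y => (h1 ▸ Subgroup.mem_top y : y ∈ (c : E →* E).eqLocus f)
  exact MulEquiv.ext fun y => by
    simp only [MulAut.mul_apply, hcf, hf d hd y]

theorem Irred.card_centralizer_dvd {K : Subgroup (MulAut E)} (hK : Irred K) :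
    Nat.card (centralizer (K : Set (MulAut E))) ∣ Nat.card E - 1 := by
  set C := centralizer (K : Set (MulAut E))
  let X : SubMulAction C E :=
    { carrier := {w | w ≠ 1}
      smul_mem' := fun k w hw h => hw ((k : MulAut E).map_eq_one_iff.mp h) }
  have hX : Nat.card X = Nat.card E - 1 := by
    classical
    haveI := Fintype.ofFinite E
    show Nat.card {w : E // w ≠ 1} = _
    rw [Nat.card_eq_fintype_card, Fintype.card_subtype_compl, Fintype.card_subtype_eq,
      Nat.card_eq_fintype_card]
  classical
  haveI : Fintype (MulAction.orbitRel.Quotient C X) := Fintype.ofFinite _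
  rw [← hX, Nat.card_congr (MulAction.selfEquivSigmaOrbits C X), Nat.card_sigma]
  refine Finset.dvd_sum fun o _ => ?_
  induction o using Quotient.inductionOn' with
  | h w =>
    set w' : X := (Quotient.out _)
    have hst : MulAction.stabilizer C w' = ⊥ := bot_unique fun c hc => by
      by_contra hc1
      refine w'.2 (hK.fpf (c := (c : MulAut E)) (fun k hk => (mem_centralizer_iff.mp c.2 k hk).symm)
        (fun h => hc1 (Subgroup.mem_bot.mpr (Subtype.ext h))) ?_)
      exact congrArg Subtype.val (MulAction.mem_stabilizer_iff.mp hc)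
    rw [Nat.card_congr (MulAction.orbitEquivQuotientStabilizer C w'), hst]
    exact (Nat.card_congr QuotientGroup.quotientBot.toEquiv).symm.dvd

theorem Irred.centralizer_solvable (hFT : OddSolvable.{u}) (hE : ∀ x : E, x * x = 1)
    {K : Subgroup (MulAut E)} (hK : Irred K) :
    Group.IsSolvable (centralizer (K : Set (MulAut E))) := by
  refine hFT _ ?_
  obtain ⟨j, hj⟩ := exists_card_eq_pow hE (⊤ : Subgroup E)
  rw [Subgroup.card_top] at hj
  have h := hK.card_centralizer_dvd
  rw [hj] at h
  rcases Nat.eq_zero_or_pos j with rfl | hj0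
  · haveI : Subsingleton E := (Nat.card_eq_one_iff_unique.mp (by simpa using hj)).1
    haveI : Subsingleton (MulAut E) := ⟨fun a b => MulEquiv.ext fun _ => Subsingleton.elim _ _⟩
    rw [Nat.card_unique]; exact odd_one
  · have hodd : Odd (2 ^ j - 1) :=
      Nat.Even.sub_odd (Nat.one_le_two_pow) (Nat.even_pow.mpr ⟨even_two, hj0.ne'⟩) odd_one
    exact hodd.of_dvd_nat h

/-- Commuting fixed-point-free automorphisms of order dividing an odd `r` generate a cyclic group. -/
theorem mem_zpowers_of_fpf (hE : ∀ x : E, x * x = 1) {r : ℕ} [hr : Fact r.Prime] (hodd : Odd r)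
    {x y : MulAut E} (hx : orderOf x = r) (hy : orderOf y ∣ r) (hxy : x * y = y * x)
    (hfpf : ∀ g ∈ Subgroup.closure ({x, y} : Set (MulAut E)), g ≠ 1 → ∀ v : E, g v = v → v = 1) :
    y ∈ Subgroup.zpowers x := by
  by_contra hy'
  have hxr : x ^ r = 1 := hx ▸ pow_orderOf_eq_one x
  have hyr : y ^ r = 1 := orderOf_dvd_iff_pow_eq_one.mp hy
  have hmx : x ∈ Subgroup.closure ({x, y} : Set (MulAut E)) := Subgroup.subset_closure (Or.inl rfl)
  have hmy : y ∈ Subgroup.closure ({x, y} : Set (MulAut E)) := Subgroup.subset_closure (Or.inr rfl)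
  have hnorm : ∀ g : MulAut E, g ^ r = 1 → (∀ v : E, g v = v → v = 1) →
      ∀ v : E, ∏ t ∈ Finset.range r, (g ^ t) v = 1 := fun g hg hf v => by
    refine hf _ ?_
    rw [map_prod]
    have h1 := Finset.prod_range_succ' (fun t => (g ^ t) v) r
    rw [Finset.prod_range_succ, hg, pow_zero] at h1
    refine Eq.trans ?_ (mul_right_cancel h1).symm
    exact Finset.prod_congr rfl fun t _ => by rw [pow_succ', MulAut.mul_apply]
  have hsub : Subsingleton E := by
    have hall : ∀ v : E, v = 1 := fun v => by
      have h1 : ∏ i ∈ Finset.range r, ∏ t ∈ Finset.range r, ((x ^ i * y) ^ t) v = 1 :=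
        Finset.prod_eq_one fun i _ => by
          refine hnorm _ ?_ (hfpf _ (mul_mem (pow_mem hmx i) hmy) fun h => hy' ?_) v
          · rw [(Commute.pow_left hxy i).mul_pow, hyr, mul_one, ← pow_mul, mul_comm, pow_mul, hxr,
              one_pow]
          · rw [eq_inv_of_mul_eq_one_right h]
            exact inv_mem (Subgroup.pow_mem _ (Subgroup.mem_zpowers x) i)
      rw [Finset.prod_comm, Finset.prod_eq_single 0] at h1
      · have hv2 : v ^ 2 = 1 := by rw [sq]; exact hE v
        simp only [pow_zero, MulAut.one_apply, Finset.prod_const, Finset.card_range] at h1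
        rwa [pow_eq_pow_mod r hv2, Nat.odd_iff.mp hodd, pow_one] at h1
      · intro t ht ht0
        have hne : x ^ t ≠ 1 := fun h => by
          have := orderOf_dvd_of_pow_eq_one h
          rw [hx] at this
          exact absurd (Nat.le_of_dvd (Nat.pos_of_ne_zero ht0) this)
            (not_le.mpr (Finset.mem_range.mp ht))
        refine Eq.trans ?_ (hnorm (x ^ t) (by rw [← pow_mul, mul_comm, pow_mul, hxr, one_pow])
          (hfpf _ (pow_mem hmx t) hne) ((y ^ t) v))
        exact Finset.prod_congr rfl fun i _ => by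
          rw [(Commute.pow_left hxy i).mul_pow, MulAut.mul_apply, ← pow_mul, ← pow_mul, mul_comm i t]
      · intro h; exact absurd (Finset.mem_range.mpr hr.out.pos) h
    exact ⟨fun a b => (hall a).trans (hall b).symm⟩
  have : x = 1 := MulEquiv.ext fun v => Subsingleton.elim _ _
  rw [this, orderOf_one] at hx
  exact hr.out.one_lt.ne hx

/-- The order bound for a `3`-group of automorphisms of a space of order `64`. -/
theorem card_three_group_dvd (hE : ∀ x : E, x * x = 1) (hn : Nat.card E = 64) :
    ∀ (i : ℕ) (T : Subgroup (MulAut E)) (W : Subgroup E), IsPGroup 3 T →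
      (∀ t ∈ T, ∀ w ∈ W, t w = w) → Nat.card W * 2 ^ i = 64 →
      Nat.card T ∣ ([1, 1, 3, 3, 9, 9, 81].getD i 0) := by
  haveI : Fact (Nat.Prime 3) := ⟨Nat.prime_three⟩
  intro i
  induction i with
  | zero =>
    intro T W _ hfix hW
    have hWt : W = ⊤ := Subgroup.eq_top_of_card_eq W (by simpa [hn] using hW)
    have hT : T = ⊥ := bot_unique fun t ht =>
      Subgroup.mem_bot.mpr (MulEquiv.ext fun w => hfix t ht w (hWt ▸ Subgroup.mem_top w))
    simp [hT]
  | succ i ih =>
    intro T W hT hfix hW
    classical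
    haveI := Fintype.ofFinite E
    let X : SubMulAction T E :=
      { carrier := {w | w ∉ W}
        smul_mem' := fun t w hw h => hw (by
          have hw' : (t : MulAut E) w ∈ W := h
          have h2 := hfix (t⁻¹ : T) (t⁻¹ : T).2 _ hw'
          rw [Subgroup.coe_inv, MulAut.inv_apply_self] at h2
          rwa [← h2] at hw') }
    have hX : Nat.card X = 64 - Nat.card W := by
      show Nat.card {w : E // w ∉ W} = _
      rw [Nat.card_eq_fintype_card, Fintype.card_subtype_compl, ← Nat.card_eq_fintype_card,
        ← Nat.card_eq_fintype_card, hn]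
    have hi : i + 1 ≤ 6 := by
      refine (Nat.pow_le_pow_iff_right (a := 2) one_lt_two).mp ?_
      have : 0 < Nat.card W := Nat.card_pos
      nlinarith
    have hWlt : Nat.card W < 64 := by
      have : 1 < 2 ^ (i + 1) := Nat.one_lt_two_pow (Nat.succ_ne_zero i)
      have : 0 < Nat.card W := Nat.card_pos
      nlinarith
    haveI : Nonempty X := (Nat.card_pos_iff.mp (by omega : 0 < Nat.card X)).1
    obtain ⟨v, hv⟩ := Finite.exists_min fun x : X => Nat.card (MulAction.orbit T x)
    have hdiv : Nat.card (MulAction.orbit T v) ∣ 64 - Nat.card W := by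
      rw [← hX, Nat.card_congr (MulAction.selfEquivSigmaOrbits T X), Nat.card_sigma]
      refine Finset.dvd_sum fun o _ => ?_
      induction o using Quotient.inductionOn' with
      | h w =>
        obtain ⟨a, ha⟩ := hT.card_orbit v
        obtain ⟨b, hb⟩ := hT.card_orbit (Quotient.out (Quotient.mk'' w : MulAction.orbitRel.Quotient T X))
        have := hv (Quotient.out (Quotient.mk'' w : MulAction.orbitRel.Quotient T X))
        rw [ha, hb] at this ⊢
        exact pow_dvd_pow 3 ((Nat.pow_le_pow_iff_right (by norm_num)).mp this)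
    set T' : Subgroup (MulAut E) := (MulAction.stabilizer T v).map T.subtype with hT'
    set W' : Subgroup E := W ⊔ Subgroup.zpowers (v : E)
    have hfix' : ∀ t ∈ T', ∀ w ∈ W', t w = w := by
      rintro _ ⟨t, ht, rfl⟩
      have : W' ≤ ((t : MulAut E) : E →* E).eqLocus (MonoidHom.id E) :=
        sup_le (fun w hw => hfix t t.2 w hw)
          (Subgroup.zpowers_le.mpr (congrArg Subtype.val (MulAction.mem_stabilizer_iff.mp ht)))
      exact fun w hw => this hw
    have hW' : Nat.card W' * 2 ^ i = 64 := by
      have h1 : Nat.card W < Nat.card W' := by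
        refine lt_of_le_of_ne (Subgroup.card_le_of_le le_sup_left) fun h => v.2 ?_
        have := Subgroup.eq_of_le_of_card_ge (le_sup_left : W ≤ W') h.ge
        exact this ▸ mem_sup_right (Subgroup.mem_zpowers _)
      have hz : Nat.card (Subgroup.zpowers (v : E)) ≤ 2 := by
        rw [Nat.card_zpowers]
        exact Nat.le_of_dvd two_pos (orderOf_dvd_of_pow_eq_one (by rw [sq]; exact hE _))
      have h2 : Nat.card W' ≤ Nat.card W * 2 := by
        refine le_trans ?_ (Nat.mul_le_mul_left _ hz)
        rw [← Nat.card_prod]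
        refine Nat.card_le_card_of_surjective (fun q : W × Subgroup.zpowers (v : E) =>
          (⟨(q.1 : E) * q.2, mul_mem (mem_sup_left q.1.2) (mem_sup_right q.2.2)⟩ : W')) fun x => ?_
        obtain ⟨a, ha, b, hb, hab⟩ := Subgroup.mem_sup.mp x.2
        exact ⟨(⟨a, ha⟩, ⟨b, hb⟩), Subtype.ext hab⟩
      have h3 : Nat.card W ∣ Nat.card W' := Subgroup.card_dvd_of_le le_sup_left
      obtain ⟨c, hc⟩ := h3
      have hc2 : c = 2 := by
        rw [hc] at h1 h2
        have := Nat.lt_of_mul_lt_mul_left (a := Nat.card W) (b := 1) (c := c) (by simpa using h1)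
        have := Nat.le_of_mul_le_mul_left h2 Nat.card_pos
        omega
      rw [hc, hc2, mul_assoc, ← pow_succ']
      exact hW
    have hrec := ih T' W' ((hT.to_subgroup _).map _) hfix' hW'
    rw [hT', Subgroup.card_map_of_injective T.subtype_injective] at hrec
    have hmul : Nat.card (MulAction.orbit T v) * Nat.card (MulAction.stabilizer T v) = Nat.card T := by
      rw [Nat.card_congr (MulAction.orbitEquivQuotientStabilizer T v)]
      exact (Subgroup.card_eq_card_quotient_mul_card_subgroup _).symm
    obtain ⟨a, ha⟩ := hT.card_orbit v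
    rw [ha] at hdiv hmul
    rw [← hmul]
    have hWc : Nat.card W = 2 ^ (6 - (i + 1)) := by
      have : Nat.card W * 2 ^ (i + 1) = 2 ^ (6 - (i + 1)) * 2 ^ (i + 1) := by
        rw [← pow_add, Nat.sub_add_cancel hi, hW]; norm_num
      exact Nat.eq_of_mul_eq_mul_right (by positivity) this
    rw [hWc] at hdiv
    have ha2 : a ≤ 2 := by
      by_contra h
      have h27 : 27 ∣ 64 - 2 ^ (6 - (i + 1)) := (pow_dvd_pow 3 (by omega : 3 ≤ a)).trans hdiv
      have : i ≤ 5 := by omega
      interval_cases i <;> norm_num at h27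
    have : i ≤ 5 := by omega
    interval_cases i <;> interval_cases a
    all_goals first
      | (norm_num at hdiv; done)
      | exact (Nat.mul_dvd_mul_left _ hrec).trans (by norm_num)

/-- An automorphism of an exponent two group of order at most two is trivial. -/
theorem subsingleton_mulAut_of_card_le_two (hn : Nat.card E ≤ 2) : Subsingleton (MulAut E) := by
  refine ⟨fun a b => MulEquiv.ext fun x => ?_⟩
  by_cases hx : x = 1
  · simp [hx]
  by_contra hne
  classical
  haveI := Fintype.ofFinite E
  have h3 : ({1, a x, b x} : Finset E).card = 3 := Finset.card_eq_three.mpr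
    ⟨_, _, _, fun h => hx (a.map_eq_one_iff.mp h.symm), fun h => hx (b.map_eq_one_iff.mp h.symm),
      hne, rfl⟩
  have := Finset.card_le_univ ({1, a x, b x} : Finset E)
  rw [h3, ← Nat.card_eq_fintype_card] at this
  omega

/-- A transitive group of automorphisms has a Sylow subgroup with solvable normaliser. -/
theorem exists_sylow_normalizer_solvable (hFT : OddSolvable.{u}) (hE : ∀ x : E, x * x = 1)
    (h4 : 2 < Nat.card E) (L : Subgroup (MulAut E))
    (htr : ∀ x y : E, x ≠ 1 → y ≠ 1 → ∃ l ∈ L, l x = y) :
    ∃ (r : ℕ) (_ : Fact r.Prime) (R : Sylow r L),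
      Group.IsSolvable (normalizer (((R : Subgroup L).map L.subtype : Subgroup (MulAut E)) : Set (MulAut E))) := by
  classical
  obtain ⟨n, hn⟩ := exists_card_eq_pow hE (⊤ : Subgroup E)
  rw [Subgroup.card_top] at hn
  have hn2 : 2 ≤ n := by
    by_contra h
    have : 2 ^ n ≤ 2 ^ 1 := Nat.pow_le_pow_right two_pos (by omega)
    omega
  obtain ⟨r, a, hr, hra, hrk⟩ : ∃ r a : ℕ, r.Prime ∧ r ^ a ∣ 2 ^ n - 1 ∧
      ((a = 1 ∧ ∀ j, 0 < j → j < n → ¬ r ∣ 2 ^ j - 1) ∨ (n = 6 ∧ r = 3 ∧ a = 2)) := by
    by_cases h6 : n = 6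
    · subst h6; exact ⟨3, 2, Nat.prime_three, by norm_num, Or.inr ⟨rfl, rfl, rfl⟩⟩
    obtain ⟨r, hr, hrd, hrk⟩ := CfsgLib.Zsigmondy.exists_primitive_prime_divisor one_lt_two
      (by omega : 1 < n) (fun h => h6 h.2) (by
        rintro ⟨-, m, hm⟩
        have : Odd (2 ^ m) := ⟨1, by omega⟩
        rcases Nat.eq_zero_or_pos m with rfl | hm0
        · simp at hm
        · exact (Nat.not_even_iff_odd.mpr this) (Nat.even_pow.mpr ⟨even_two, hm0.ne'⟩))
    exact ⟨r, 1, hr, by simpa using hrd, Or.inl ⟨rfl, hrk⟩⟩
  haveI := Fact.mk hr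
  have hm : ∀ j, 0 < j → j < n → ¬ r ^ a ∣ 2 ^ j - 1 := by
    rcases hrk with ⟨rfl, h⟩ | ⟨rfl, rfl, rfl⟩
    · simpa using h
    · intro j hj hj'; interval_cases j <;> norm_num
  obtain ⟨R⟩ : Nonempty (Sylow r L) := inferInstance
  refine ⟨r, ⟨hr⟩, R, ?_⟩
  set K := (R : Subgroup L).map L.subtype with hK
  have hKp : IsPGroup r K := R.isPGroup'.map _
  -- every orbit of `K` has order divisible by `r ^ a`
  have horb : ∀ v : E, v ≠ 1 → r ^ a ∣ Nat.card (MulAction.orbit K v) := by
    intro v hv
    have hL : MulAction.orbit L v = {w | w ≠ 1} := by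
      ext w
      refine ⟨?_, fun hw => ?_⟩
      · rintro ⟨l, rfl⟩ h
        exact hv ((l : MulAut E).map_eq_one_iff.mp h)
      · obtain ⟨l, hl, hlv⟩ := htr v w hv hw
        exact ⟨⟨l, hl⟩, hlv⟩
    have h1 : Nat.card (MulAction.orbit L v) = 2 ^ n - 1 := by
      haveI := Fintype.ofFinite E
      rw [hL, ← hn]
      show Nat.card {w : E // w ≠ 1} = _
      rw [Nat.card_eq_fintype_card, Fintype.card_subtype_compl, Fintype.card_subtype_eq,
        Nat.card_eq_fintype_card]
    have horb' : MulAction.orbit K v = MulAction.orbit (R : Subgroup L) v := by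
      ext w
      constructor
      · rintro ⟨⟨_, l, hl, rfl⟩, rfl⟩; exact ⟨⟨l, hl⟩, rfl⟩
      · rintro ⟨⟨l, hl⟩, rfl⟩; exact ⟨⟨_, l, hl, rfl⟩, rfl⟩
    rw [horb']
    obtain ⟨b, hb⟩ := R.isPGroup'.card_orbit v
    set s := MulAction.stabilizer (R : Subgroup L) v
    have hs : Nat.card s ∣ Nat.card (MulAction.stabilizer L v) := by
      let f : s →* MulAction.stabilizer L v :=
        ((R : Subgroup L).subtype.comp s.subtype).codRestrict _ fun x => x.2
      exact Subgroup.card_dvd_of_injective f fun x y h =>
        Subtype.ext (Subtype.ext (congrArg (fun z : MulAction.stabilizer L v => (z : L)) h))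
    have hmulL : (2 ^ n - 1) * Nat.card (MulAction.stabilizer L v) = Nat.card L := by
      rw [← h1, Nat.card_congr (MulAction.orbitEquivQuotientStabilizer L v)]
      exact (Subgroup.card_eq_card_quotient_mul_card_subgroup _).symm
    have hmulR : r ^ b * Nat.card s = r ^ (Nat.card L).factorization r := by
      rw [← hb, Nat.card_congr (MulAction.orbitEquivQuotientStabilizer (R : Subgroup L) v),
        ← R.card_eq_multiplicity]
      exact (Subgroup.card_eq_card_quotient_mul_card_subgroup _).symm
    rw [hb]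
    refine pow_dvd_pow r ?_
    by_contra hlt
    push Not at hlt
    have h3 : r ^ ((Nat.card L).factorization r + 1) ∣ Nat.card L := by
      obtain ⟨c, hc⟩ := hra
      obtain ⟨d, hd⟩ := hs
      obtain ⟨e, he⟩ := Nat.exists_eq_add_of_lt hlt
      refine ⟨r ^ e * c * d, ?_⟩
      calc Nat.card L = (r ^ a * c) * (Nat.card s * d) := by rw [← hc, ← hd, hmulL]
        _ = r ^ (e + 1) * c * d * (r ^ b * Nat.card s) := by rw [he]; ring
        _ = r ^ ((Nat.card L).factorization r + 1) * (r ^ e * c * d) := by rw [hmulR]; ring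
    exact Nat.pow_succ_factorization_not_dvd Nat.card_pos.ne' hr h3
  have hirr : Irred K := irred_of_orbits hE hn hm horb
  set N := normalizer (K : Set (MulAut E))
  rcases hrk with ⟨rfl, hppd⟩ | ⟨rfl, rfl, rfl⟩
  · -- a primitive prime divisor: the centraliser of any element of order `r` of `K` is abelian
    have hirrx : ∀ x : MulAut E, orderOf x = r → (∀ v, x v = v → v = 1) →
        Irred (Subgroup.zpowers x) := fun x hx hfree => by
      refine irred_of_orbits hE hn (m := r) hppd fun v hv => ?_
      have hp : IsPGroup r (Subgroup.zpowers x) :=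
        IsPGroup.of_card (n := 1) (by rw [Nat.card_zpowers, hx, pow_one])
      obtain ⟨b, hb⟩ := hp.card_orbit v
      rcases Nat.eq_zero_or_pos b with rfl | hb0
      · exfalso
        rw [pow_zero] at hb
        haveI := (Nat.card_eq_one_iff_unique.mp hb).1
        refine hv (hfree v ?_)
        exact congrArg Subtype.val (Subsingleton.elim
          (⟨x v, ⟨⟨x, Subgroup.mem_zpowers x⟩, rfl⟩⟩ : MulAction.orbit (Subgroup.zpowers x) v)
          ⟨v, MulAction.mem_orbit_self v⟩)
      · rw [hb]; exact dvd_pow_self r hb0.ne'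
    have hK1 : K ≠ ⊥ := fun h => by
      obtain ⟨v, hv⟩ : ∃ v : E, v ≠ 1 := by
        by_contra h'
        push Not at h'
        haveI : Subsingleton E := ⟨fun x y => (h' x).trans (h' y).symm⟩
        have := Finite.card_le_one_iff_subsingleton.mpr (inferInstance : Subsingleton E)
        omega
      have h2 := horb v hv
      have h3 : MulAction.orbit K v = {v} := by
        ext w
        refine ⟨?_, fun hw => by rw [Set.mem_singleton_iff.mp hw]; exact MulAction.mem_orbit_self v⟩
        rintro ⟨k, rfl⟩
        have : (k : MulAut E) = 1 := Subgroup.mem_bot.mp (h ▸ k.2)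
        show (k : MulAut E) v = v
        rw [this]; rfl
      rw [h3, Nat.card_unique] at h2
      exact hr.one_lt.ne' (Nat.dvd_one.mp (by simpa using h2))
    haveI : Nontrivial K := (Subgroup.nontrivial_iff_ne_bot K).mpr hK1
    haveI := hKp.center_nontrivial
    obtain ⟨i, hi⟩ := IsPGroup.iff_card.mp (hKp.to_subgroup (center K))
    have hi0 : i ≠ 0 := by
      rintro rfl
      exact (Finite.one_lt_card (α := center K)).ne' (by simpa using hi)
    obtain ⟨z, hz⟩ := exists_prime_orderOf_dvd_card' (G := center K) r (hi ▸ dvd_pow_self r hi0)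
    set x : MulAut E := ((z : K) : MulAut E) with hx
    have hxK : x ∈ K := (z : K).2
    have hxo : orderOf x = r := by rw [hx, Subgroup.orderOf_coe, Subgroup.orderOf_coe, hz]
    have hxc : ∀ k ∈ K, x * k = k * x := fun k hk =>
      congrArg Subtype.val (mem_center_iff.mp z.2 ⟨k, hk⟩).symm
    have hx1 : x ≠ 1 := fun h => by rw [h, orderOf_one] at hxo; exact hr.one_lt.ne hxo
    have hix := hirrx x hxo fun v => hirr.fpf hxc hx1
    have hcomm := hix.centralizer_comm fun a ha b hb => by
      obtain ⟨i, rfl⟩ := Subgroup.mem_zpowers_iff.mp ha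
      obtain ⟨j, rfl⟩ := Subgroup.mem_zpowers_iff.mp hb
      exact (Commute.refl x).zpow_zpow i j
    have hKle : K ≤ centralizer (Subgroup.zpowers x : Set (MulAut E)) := fun k hk =>
      mem_centralizer_iff.mpr fun a ha => by
        obtain ⟨i, rfl⟩ := Subgroup.mem_zpowers_iff.mp ha
        exact (Commute.zpow_left (hxc k hk) i).eq
    have hKab : ∀ a ∈ K, ∀ b ∈ K, a * b = b * a := fun a ha b hb => hcomm a (hKle ha) b (hKle hb)
    have hodd : Odd r := hr.odd_of_ne_two fun h => by
      subst h
      have h1 : 2 ∣ 2 ^ n - 1 := by simpa using hra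
      have h2 : 2 ∣ 2 ^ n := dvd_pow_self 2 (by omega)
      have h3 : 1 ≤ 2 ^ n := Nat.one_le_two_pow
      omega
    have hle : N ≤ normalizer ((Subgroup.zpowers x : Subgroup (MulAut E)) : Set (MulAut E)) := by
      intro m hm
      have hmx : ∀ m ∈ N, m * x * m⁻¹ ∈ Subgroup.zpowers x := fun m hm => by
        have hy : m * x * m⁻¹ ∈ K := (mem_normalizer_iff.mp hm x).mp hxK
        refine mem_zpowers_of_fpf hE hodd hxo ?_ (hxc _ hy) fun g hg hg1 v hv => ?_
        · rw [← hxo]
          exact (MulEquiv.orderOf_eq (MulAut.conj m) x).dvd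
        · have hgK : g ∈ K := by
            refine (Subgroup.closure_le _).mpr ?_ hg
            rintro _ (rfl | rfl)
            exacts [hxK, hy]
          exact hirr.fpf (fun k hk => hKab g hgK k hk) hg1 hv
      refine mem_normalizer_iff.mpr fun y => ⟨fun hy => ?_, fun hy => ?_⟩
      · obtain ⟨i, rfl⟩ := Subgroup.mem_zpowers_iff.mp hy
        rw [← conj_zpow]
        exact Subgroup.zpow_mem _ (hmx m hm) i
      · have h1 : m⁻¹ * (m * y * m⁻¹) * m⁻¹⁻¹ ∈ Subgroup.zpowers x := by
          obtain ⟨i, hi⟩ := Subgroup.mem_zpowers_iff.mp hy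
          rw [← hi, ← conj_zpow]
          exact Subgroup.zpow_mem _ (hmx m⁻¹ (N.inv_mem hm)) i
        simpa [mul_assoc] using h1
    set Z := Subgroup.zpowers x
    haveI : Group.IsSolvable (normalizerMonoidHom Z).ker := by
      rw [normalizerMonoidHom_ker]
      exact Group.isSolvable_of_comm fun a b =>
        Subtype.ext (Subtype.ext (hcomm _ a.2 _ b.2))
    haveI : Group.IsSolvable (normalizerMonoidHom Z).range := by
      haveI : IsCyclic Z := inferInstance
      refine Group.isSolvable_of_comm fun a b => Subtype.ext (MulEquiv.ext fun y => ?_)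
      obtain ⟨g, hg⟩ := IsCyclic.exists_generator (α := Z)
      obtain ⟨j, rfl⟩ := Subgroup.mem_zpowers_iff.mp (hg y)
      simp only [Subgroup.coe_mul, MulAut.mul_apply, map_zpow]
      obtain ⟨c, hc⟩ := Subgroup.mem_zpowers_iff.mp (hg ((a : MulAut Z) g))
      obtain ⟨d, hd⟩ := Subgroup.mem_zpowers_iff.mp (hg ((b : MulAut Z) g))
      rw [← hd, ← hc, map_zpow, map_zpow, ← hd, ← hc, ← zpow_mul, ← zpow_mul, ← zpow_mul, ← zpow_mul]
      congr 1; ring
    haveI := solvable_of_hom (normalizerMonoidHom Z)
    exact Group.isSolvable_of_isSolvable_injective (f := Subgroup.inclusion hle)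
      (Subgroup.inclusion_injective hle)
  · -- `n = 6`
    haveI := hirr.centralizer_solvable hFT hE
    haveI : Group.IsSolvable (normalizerMonoidHom K).ker := by
      rw [normalizerMonoidHom_ker]
      exact Group.isSolvable_of_isSolvable_injective
        (f := (Subgroup.subgroupOfEquivOfLe
          (centralizer_le_normalizer _)).toMonoidHom) (MulEquiv.injective _)
    have h81 : Nat.card K ∣ 81 := by
      have := card_three_group_dvd hE (by rw [hn]; norm_num) 6 K ⊥ hKp
        (fun t _ w hw => by rw [Subgroup.mem_bot.mp hw, map_one]) (by simp)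
      simpa using this
    have h63 : Nat.card (centralizer (K : Set (MulAut E))) ∣ 63 := by
      have := hirr.card_centralizer_dvd
      rwa [hn] at this
    have h9 : ∀ m, m ∣ 81 → m ∣ 63 → m ∣ 9 := fun m h h' => by
      have := Nat.dvd_gcd h h'
      norm_num at this
      exact this
    haveI : Group.IsSolvable (MulAut K) := by
      refine solvable_mulAut_three h81 (h9 _ ((Subgroup.card_subgroup_dvd_card _).trans h81) ?_)
        fun hab => h9 _ h81 ?_
      · refine dvd_trans ?_ h63
        rw [← Subgroup.card_map_of_injective (K := center K) K.subtype_injective]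
        refine Subgroup.card_dvd_of_le ?_
        rintro _ ⟨c, hc, rfl⟩
        exact mem_centralizer_iff.mpr fun k hk =>
          congrArg Subtype.val (mem_center_iff.mp hc ⟨k, hk⟩)
      · refine dvd_trans (Subgroup.card_dvd_of_le fun c hc => ?_) h63
        exact mem_centralizer_iff.mpr fun k hk => congrArg Subtype.val (hab ⟨k, hk⟩ ⟨c, hc⟩)
    exact solvable_of_hom (normalizerMonoidHom K)

/-- A group of automorphisms normalising a transitive group and one of its Sylow 2-subgroups is
solvable. -/
theorem solvable_of_normalizes (hFT : OddSolvable.{u}) (hE : ∀ x : E, x * x = 1)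
    (L Y : Subgroup (MulAut E)) (htr : ∀ x y : E, x ≠ 1 → y ≠ 1 → ∃ l ∈ L, l x = y)
    (hYL : Y ≤ normalizer (L : Set (MulAut E))) (T : Sylow 2 L)
    (hYT : Y ≤ normalizer (((T : Subgroup L).map L.subtype : Subgroup (MulAut E)) : Set (MulAut E))) :
    Group.IsSolvable Y := by
  rcases le_or_gt (Nat.card E) 2 with h2 | h2
  · haveI := subsingleton_mulAut_of_card_le_two h2
    exact Group.isSolvable_of_comm fun a b => Subtype.ext (Subsingleton.elim _ _)
  obtain ⟨r, hr, R, hR⟩ := exists_sylow_normalizer_solvable hFT hE h2 L htr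
  set K := (R : Subgroup L).map L.subtype
  set NL := normalizer (L : Set (MulAut E))
  haveI : Fact (Nat.Prime 2) := ⟨Nat.prime_two⟩
  let q : NL →* NL ⧸ L.subgroupOf NL := QuotientGroup.mk' _
  let g : Y →* NL ⧸ L.subgroupOf NL := q.comp (Subgroup.inclusion hYL)
  set M := normalizer (K : Set (MulAut E)) ⊓ NL
  haveI := hR
  haveI : Group.IsSolvable M :=
    Group.isSolvable_of_isSolvable_injective (f := Subgroup.inclusion inf_le_left)
      (Subgroup.inclusion_injective _)
  have hrange : g.range ≤ (q.comp (Subgroup.inclusion (inf_le_right : M ≤ NL))).range := by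
    rintro _ ⟨⟨y, hy⟩, rfl⟩
    have hyL : ∀ l ∈ L, y * l * y⁻¹ ∈ L := fun l hl => (mem_normalizer_iff.mp (hYL hy) l).mp hl
    let cy : MulAut L :=
      { toFun := fun l => ⟨y * l * y⁻¹, hyL l l.2⟩
        invFun := fun l => ⟨y⁻¹ * l * y, by
          simpa using (mem_normalizer_iff.mp (NL.inv_mem (hYL hy)) l).mp l.2⟩
        left_inv := fun l => Subtype.ext (show y⁻¹ * (y * (l : MulAut E) * y⁻¹) * y = l by group)
        right_inv := fun l => Subtype.ext (show y * (y⁻¹ * (l : MulAut E) * y) * y⁻¹ = l by group)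
        map_mul' := fun a b => Subtype.ext
          (show y * ((a : MulAut E) * b) * y⁻¹ = y * a * y⁻¹ * (y * b * y⁻¹) by group) }
    haveI := hr
    obtain ⟨l, hl⟩ := MulAction.exists_smul_eq L R
      (Sylow.ofCard ((R : Subgroup L).map cy.toMonoidHom) (by
        rw [Subgroup.card_map_of_injective cy.injective, R.card_eq_multiplicity]))
    have hmapl : K.map (MulAut.conj (l : MulAut E)).toMonoidHom = K.map (MulAut.conj y).toMonoidHom := by
      have h1 : ((l • R : Sylow r L) : Subgroup L) = (R : Subgroup L).map cy.toMonoidHom := by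
        rw [hl]; rfl
      have h3 : (R : Subgroup L).map (MulAut.conj l).toMonoidHom =
          (R : Subgroup L).map cy.toMonoidHom := h1
      have h2 := congrArg (fun S : Subgroup L => S.map L.subtype) h3
      simp only [Subgroup.map_map] at h2
      simp only [K, Subgroup.map_map]
      exact h2
    have hm : (l : MulAut E)⁻¹ * y ∈ M := by
      refine ⟨mem_normalizer_iff_map_conj_eq.mpr ?_, NL.mul_mem (NL.inv_mem (le_normalizer l.2)) (hYL hy)⟩
      show K.map (MulAut.conj ((l : MulAut E)⁻¹ * y)).toMonoidHom = K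
      rw [map_mul, show (MulAut.conj ((l : MulAut E)⁻¹) * MulAut.conj y).toMonoidHom =
        (MulAut.conj ((l : MulAut E)⁻¹)).toMonoidHom.comp (MulAut.conj y).toMonoidHom from rfl,
        ← Subgroup.map_map, ← hmapl, Subgroup.map_map]
      convert Subgroup.map_id K
      ext a
      simp [mul_assoc]
    refine ⟨⟨_, hm⟩, ?_⟩
    show q (Subgroup.inclusion _ _) = q (Subgroup.inclusion hYL ⟨y, hy⟩)
    refine QuotientGroup.eq.mpr ?_
    show ((l : MulAut E)⁻¹ * y)⁻¹ * y ∈ L
    have := (mem_normalizer_iff.mp (NL.inv_mem (hYL hy)) (l : MulAut E)).mp l.2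
    simpa [mul_assoc] using this
  haveI : Group.IsSolvable (q.comp (Subgroup.inclusion (inf_le_right : M ≤ NL))).range :=
    Group.isSolvable_of_surjective
      (f := (q.comp (Subgroup.inclusion (inf_le_right : M ≤ NL))).rangeRestrict)
      (MonoidHom.rangeRestrict_surjective _)
  haveI : Group.IsSolvable g.range :=
    Group.isSolvable_of_isSolvable_injective (f := Subgroup.inclusion hrange)
      (Subgroup.inclusion_injective hrange)
  set NT := normalizer ((T : Subgroup L) : Set L)
  haveI : Group.IsSolvable NT := by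
    haveI hn2 : ((T : Subgroup L).subgroupOf NT).Normal := Subgroup.normal_in_normalizer
    haveI : Group.IsSolvable ((T : Subgroup L).subgroupOf NT) := by
      haveI : Group.IsNilpotent ((T : Subgroup L).subgroupOf NT) :=
        (T.isPGroup'.of_equiv (Subgroup.subgroupOfEquivOfLe le_normalizer).symm).isNilpotent
      infer_instance
    haveI : Group.IsSolvable (NT ⧸ (T : Subgroup L).subgroupOf NT) := hFT _ (by
      rw [Nat.odd_iff, ← Nat.two_dvd_ne_zero]
      intro h
      apply T.not_dvd_index
      rw [← Subgroup.relIndex_mul_index (le_normalizer (H := (T : Subgroup L)))]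
      exact dvd_mul_of_dvd_left h _)
    exact (Group.isSolvable_iff_subgroup_quotient ((T : Subgroup L).subgroupOf NT)).mpr
      ⟨inferInstance, inferInstance⟩
  haveI : Group.IsSolvable g.ker := by
    have hL : ∀ k : g.ker, ((k : Y) : MulAut E) ∈ L := fun k => by
      have := (QuotientGroup.eq_one_iff _).mp (MonoidHom.mem_ker.mp k.2)
      exact this
    have hN : ∀ k : g.ker, (⟨_, hL k⟩ : L) ∈ NT := fun k => by
      refine mem_normalizer_iff.mpr fun t => ?_
      have h1 := mem_normalizer_iff.mp (hYT (k : Y).2) (t : MulAut E)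
      simp only [Subgroup.mem_map, Subgroup.coe_subtype] at h1
      constructor
      · intro ht
        obtain ⟨t', ht', e⟩ := h1.mp ⟨t, ht, rfl⟩
        rwa [show t' = ⟨_, hL k⟩ * t * ⟨_, hL k⟩⁻¹ from Subtype.ext e] at ht'
      · intro ht
        obtain ⟨t', ht', e⟩ := h1.mpr ⟨_, ht, rfl⟩
        rwa [show t' = t from Subtype.ext e] at ht'
    let f : g.ker →* NT :=
      { toFun := fun k => ⟨⟨_, hL k⟩, hN k⟩
        map_one' := rfl
        map_mul' := fun _ _ => rfl }
    exact Group.isSolvable_of_isSolvable_injective (f := f) fun a b h =>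
      Subtype.ext (Subtype.ext (congrArg (fun z : NT => ((z : L) : MulAut E)) h))
  exact solvable_of_hom g

end Space

end CfsgLib.FTDep.TransAut
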