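import Cfsg.Agent.Lib.FTDep.OutSylow
import Cfsg.Agent.Lib.FTDep.AnisoQuad
import Cfsg.Agent.Lib.FTDep.TransitiveAut
import Cfsg.Agent.Lib.TwoGroups.ThreeInvolutions
import Cfsg.Agent.Lib.PGroups.FrattiniFaithful
import Cfsg.Agent.Lib.Core.CriticalSubgroup
import Cfsg.Agent.Lib.Known.GLFourTwoFacts

/-!
# Outer automorphisms of simple groups with a small Sylow 2-subgroup

`Out G` is solvable, given the odd order theorem, if a Sylow 2-subgroup is generated by two
elements, by three with a nontrivial odd automizer, or has commuting involutions forming one class.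
-/

set_option autoImplicit false
set_option linter.style.haveILetI false
set_option linter.unusedSectionVars false

universe u

namespace CfsgLib.FTDep.OutCases

open Subgroup Cfsg
open CfsgLib.ThreeInvolutions (restrictAut isSolvable_of_no_odd)
open scoped commutatorElement Pointwise

/-! ### Small groups -/

theorem solvable_of_lt_sixty {G : Type*} [Group G] [Finite G] (h : Nat.card G < 60) :
    Group.IsSolvable G := by
  let f : G →* Equiv.Perm (Fin (Nat.card G)) :=
    ((Finite.equivFin G).permCongrHom).toMonoidHom.comp (MulAction.toPermHom G G)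
  have hf : Function.Injective f :=
    ((Finite.equivFin G).permCongrHom).injective.comp MulAction.toPerm_injective
  haveI : Group.IsSolvable f.range := CfsgLib.Known.GLFourTwo.isSolvable_of_lt_sixty (by
    rwa [← Nat.card_congr (MonoidHom.ofInjective hf).toEquiv])
  exact Group.isSolvable_of_isSolvable_injective (f := f.rangeRestrict)
    (fun x y h => hf (congrArg Subtype.val h))

/-- The automorphism of `G ⧸ frattini G` induced by an automorphism. -/
def quotAut (G : Type*) [Group G] : MulAut G →* MulAut (G ⧸ frattini G) where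
  toFun a := QuotientGroup.congr (frattini G) (frattini G) a
    (Subgroup.characteristic_iff_map_eq.mp inferInstance a)
  map_one' := MulEquiv.ext fun x => by
    obtain ⟨y, rfl⟩ := QuotientGroup.mk_surjective x
    rfl
  map_mul' a b := MulEquiv.ext fun x => by
    obtain ⟨y, rfl⟩ := QuotientGroup.mk_surjective x
    rfl

theorem quotAut_mk {G : Type*} [Group G] (a : MulAut G) (x : G) :
    quotAut G a (x : G ⧸ frattini G) = ((a x : G) : G ⧸ frattini G) := rfl

variable {S : Type u} [Group S] [Finite S]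

theorem quotAut_ker (hS : IsPGroup 2 S) {a : MulAut S} (ha : quotAut S a = 1) {q : ℕ}
    (hq : q.Prime) (hq2 : q ≠ 2) (haq : a ^ q = 1) : a = 1 := by
  haveI := Fact.mk hq
  haveI := Fact.mk Nat.prime_two
  refine CfsgLib.PGroups.eq_one_of_trivial_mod_frattini hS hq2 a haq fun x => ?_
  refine QuotientGroup.eq.mp (Eq.symm ?_)
  rw [← quotAut_mk, ha]
  rfl

/-- A group of automorphisms with solvable image on the Frattini quotient is solvable. -/
theorem solvable_of_quotAut (hS : IsPGroup 2 S) (R : Subgroup (MulAut S))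
    (h : Group.IsSolvable (R.map (quotAut S))) : Group.IsSolvable R := by
  haveI := h
  haveI : Finite (MulAut S) := Finite.of_injective _ MulEquiv.toEquiv_injective
  let f : R →* (R.map (quotAut S)) :=
    ((quotAut S).comp R.subtype).codRestrict _ fun r => ⟨r, r.2, rfl⟩
  haveI : Group.IsSolvable f.ker := isSolvable_of_no_odd fun k p hp hp2 hk => by
    have h1 : (((k : R)) : MulAut S) = 1 := quotAut_ker hS
      (congrArg Subtype.val k.2) hp hp2 (congrArg (fun z : f.ker => ((z : R) : MulAut S)) hk)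
    exact Subtype.ext (Subtype.ext h1)
  exact TransAut.solvable_of_hom f

/-! ### Frattini quotients with at most three generators -/

theorem quotient_card_le_four {a b : S} (hS : IsPGroup 2 S)
    (h : Subgroup.closure ({a, b} : Set S) = ⊤) : Nat.card (S ⧸ frattini S) ≤ 4 := by
  haveI := Fact.mk Nat.prime_two
  obtain ⟨hc, hp⟩ := CfsgLib.PGroups.frattini_quotient (p := 2) hS
  let f : Fin 2 × Fin 2 → S ⧸ frattini S := fun i =>
    (a : S ⧸ frattini S) ^ (i.1 : ℕ) * (b : S ⧸ frattini S) ^ (i.2 : ℕ)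
  have hf : Function.Surjective f := by
    intro v
    obtain ⟨s, rfl⟩ := QuotientGroup.mk_surjective v
    have hs : s ∈ Subgroup.closure ({a, b} : Set S) := h ▸ Subgroup.mem_top s
    obtain ⟨w, hw⟩ : ∃ w : Fin 2 × Fin 2, f w = (s : S ⧸ frattini S) := by
      induction hs using Subgroup.closure_induction with
      | mem x hx =>
        rcases hx with rfl | hx
        · exact ⟨(1, 0), by simp [f]⟩
        · rw [Set.mem_singleton_iff] at hx
          subst hx
          exact ⟨(0, 1), by simp [f]⟩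
      | one => exact ⟨(0, 0), by simp [f]⟩
      | mul x y _ _ hx hy =>
        obtain ⟨i, hi⟩ := hx
        obtain ⟨j, hj⟩ := hy
        refine ⟨(i.1 + j.1, i.2 + j.2), ?_⟩
        have hmod : ∀ (z : S ⧸ frattini S) (m n : Fin 2),
            z ^ ((m + n : Fin 2) : ℕ) = z ^ (m : ℕ) * z ^ (n : ℕ) := fun z m n => by
          rw [← pow_add, Fin.val_add]
          exact (pow_eq_pow_mod _ (hp z)).symm
        rw [QuotientGroup.mk_mul, ← hi, ← hj]
        simp only [f, hmod]
        rw [mul_assoc, mul_assoc, ← mul_assoc ((a : S ⧸ frattini S) ^ (j.1 : ℕ)),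
          hc.is_comm.comm ((a : S ⧸ frattini S) ^ (j.1 : ℕ)), mul_assoc]
      | inv x _ hx =>
        obtain ⟨i, hi⟩ := hx
        refine ⟨i, ?_⟩
        rw [QuotientGroup.mk_inv, eq_comm, inv_eq_iff_mul_eq_one, hi, ← pow_two, hp]
    exact ⟨w, hw⟩
  refine (Nat.card_le_card_of_surjective f hf).trans ?_
  simp

theorem quotient_card_le_eight {a b c : S} (hS : IsPGroup 2 S)
    (h : Subgroup.closure ({a, b, c} : Set S) = ⊤) :
    Nat.card (S ⧸ frattini S) ≤ 8 ∧
      ∀ φ ψ : MulAut (S ⧸ frattini S), φ (a : S ⧸ frattini S) = ψ a →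
        φ (b : S ⧸ frattini S) = ψ b → φ (c : S ⧸ frattini S) = ψ c → φ = ψ := by
  haveI := Fact.mk Nat.prime_two
  obtain ⟨hc, hp⟩ := CfsgLib.PGroups.frattini_quotient (p := 2) hS
  have hgen : Subgroup.closure ({(a : S ⧸ frattini S), (b : S ⧸ frattini S), (c : S ⧸ frattini S)} :
      Set (S ⧸ frattini S)) = ⊤ := by
    have := congrArg (Subgroup.map (QuotientGroup.mk' (frattini S))) h
    rw [MonoidHom.map_closure, Subgroup.map_top_of_surjective _ (QuotientGroup.mk'_surjective _)]
      at this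
    simpa [Set.image_insert_eq] using this
  refine ⟨?_, fun φ ψ h1 h2 h3 => ?_⟩
  · haveI := hc
    have hz : ∀ v : S ⧸ frattini S, Nat.card (zpowers v) ≤ 2 := fun v => by
      rw [Nat.card_zpowers]; exact Nat.le_of_dvd two_pos (orderOf_dvd_of_pow_eq_one (hp v))
    have hsup : ∀ X Y : Subgroup (S ⧸ frattini S),
        Nat.card (X ⊔ Y : Subgroup (S ⧸ frattini S)) ≤ Nat.card X * Nat.card Y := fun X Y => by
      haveI : Y.Normal := Subgroup.normal_of_isMulCommutative Y
      have := Set.natCard_mul_le (s := (X : Set (S ⧸ frattini S))) (t := (Y : Set (S ⧸ frattini S)))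
      rwa [← Subgroup.normal_mul] at this
    rw [← Subgroup.card_top, ← hgen]
    rw [Subgroup.closure_eq_of_le (K := zpowers (a : S ⧸ frattini S) ⊔ zpowers (b : S ⧸ frattini S) ⊔
      zpowers (c : S ⧸ frattini S)) ?_ ?_]
    · exact (hsup _ _).trans ((Nat.mul_le_mul ((hsup _ _).trans (Nat.mul_le_mul (hz _) (hz _))) (hz _)))
    · rintro x (rfl | rfl | rfl)
      · exact mem_sup_left (mem_sup_left (mem_zpowers _))
      · exact mem_sup_left (mem_sup_right (mem_zpowers _))
      · exact mem_sup_right (mem_zpowers _)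
    · simp only [sup_le_iff, zpowers_le]
      refine ⟨⟨subset_closure ?_, subset_closure ?_⟩, subset_closure ?_⟩ <;> simp
  · refine MulEquiv.toMonoidHom_injective (MonoidHom.eq_of_eqOn_dense hgen ?_)
    rintro x (rfl | rfl | rfl)
    · exact h1
    · exact h2
    · exact h3

theorem solvable_mulAut_of_card_le_four {V : Type*} [Group V] [Finite V] (h : Nat.card V ≤ 4) :
    Group.IsSolvable (MulAut V) := by
  classical
  haveI : Finite (MulAut V) := Finite.of_injective _ MulEquiv.toEquiv_injective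
  refine solvable_of_lt_sixty ?_
  have h1 : Nat.card (MulAut V) ≤ Nat.card (Equiv.Perm V) :=
    Nat.card_le_card_of_injective MulEquiv.toEquiv MulEquiv.toEquiv_injective
  rw [Nat.card_perm] at h1
  have h2 := Nat.factorial_le h
  simp [Nat.factorial] at h2
  omega

set_option maxHeartbeats 800000 in
theorem card_mulAut_le {a b c : S} (hS : IsPGroup 2 S)
    (h : Subgroup.closure ({a, b, c} : Set S) = ⊤) :
    Nat.card (S ⧸ frattini S) ≤ 4 ∨ Nat.card (MulAut (S ⧸ frattini S)) ≤ 168 := by
  classical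
  haveI := Fact.mk Nat.prime_two
  obtain ⟨hle, hext⟩ := quotient_card_le_eight hS h
  obtain ⟨hc, hp⟩ := CfsgLib.PGroups.frattini_quotient (p := 2) hS
  obtain ⟨k, hk⟩ := IsPGroup.iff_card.mp (hS.to_quotient (frattini S))
  set V := S ⧸ frattini S
  rcases le_or_gt k 2 with hk2 | hk2
  · left
    rw [hk]
    calc 2 ^ k ≤ 2 ^ 2 := Nat.pow_le_pow_right two_pos hk2
      _ = 4 := rfl
  have h8 : Nat.card V = 8 := by
    have : 2 ^ 3 ≤ 2 ^ k := Nat.pow_le_pow_right two_pos hk2
    omega
  right
  haveI := Fintype.ofFinite V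
  have hgen : Subgroup.closure ({(a : V), (b : V), (c : V)} : Set V) = ⊤ := by
    have := congrArg (Subgroup.map (QuotientGroup.mk' (frattini S))) h
    rw [MonoidHom.map_closure, Subgroup.map_top_of_surjective _ (QuotientGroup.mk'_surjective _)]
      at this
    simpa [Set.image_insert_eq, V] using this
  have hinv : ∀ x : V, x⁻¹ = x := fun x => by
    rw [inv_eq_iff_mul_eq_one, ← pow_two, hp]
  have hsq : ∀ x : V, x * x = 1 := fun x => by rw [← pow_two, hp]
  have hcm : ∀ x y : V, x * y = y * x := hc.is_comm.comm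
  -- no element of the basis lies in the span of the others
  have hsmall : ∀ x y : V, Subgroup.closure ({x, y} : Set V) ≠ ⊤ := by
    intro x y htop
    let K : Subgroup V :=
      { carrier := {1, x, y, x * y}
        one_mem' := by simp
        inv_mem' := fun {z} hz => by rw [hinv]; exact hz
        mul_mem' := fun {z w} hz hw => by
          have e1 : ∀ z w : V, z * (z * w) = w := fun z w => by rw [← mul_assoc, hsq, one_mul]
          simp only [Set.mem_insert_iff, Set.mem_singleton_iff] at hz hw ⊢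
          have e3 : ∀ z w : V, w * (z * w) = z := fun z w => by rw [hcm z w, e1]
          rcases hz with h1 | h1 | h1 | h1 <;> rcases hw with h2 | h2 | h2 | h2 <;>
            simp [h1, h2, hsq, e1, e3, hcm y x, mul_assoc] }
    have hK : K = ⊤ := top_unique (htop ▸ (Subgroup.closure_le K).mpr (by
      rintro z (rfl | rfl) <;> simp [K]))
    have h1 : (K : Set V).ncard ≤ 4 := by
      show ({1, x, y, x * y} : Set V).ncard ≤ 4
      calc _ ≤ ({x, y, x * y} : Set V).ncard + 1 := Set.ncard_insert_le _ _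
        _ ≤ (({y, x * y} : Set V).ncard + 1) + 1 := by
            gcongr; exact Set.ncard_insert_le _ _
        _ ≤ ((({x * y} : Set V).ncard + 1) + 1) + 1 := by
            gcongr; exact Set.ncard_insert_le _ _
        _ = 4 := by simp
    rw [hK, Subgroup.coe_top, Set.ncard_univ, h8] at h1
    omega
  let A : Finset V := Finset.univ.filter (· ≠ 1)
  let B : V → Finset V := fun x => Finset.univ \ {1, x}
  let D : V → V → Finset V := fun x y => Finset.univ \ {1, x, y, x * y}
  let T : Finset (Σ _ : V, Σ _ : V, V) := A.sigma fun x => (B x).sigma fun y => D x y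
  have hT : T.card = 168 := by
    have hu : (Finset.univ : Finset V).card = 8 := by
      rw [Finset.card_univ, ← Nat.card_eq_fintype_card, h8]
    have hA : A.card = 7 := by
      simp only [A, Finset.filter_ne', Finset.card_erase_of_mem (Finset.mem_univ _), hu]
    rw [Finset.card_sigma, Finset.sum_const_nat (m := 24) fun x hx => ?_, hA]
    have hx1 : x ≠ 1 := by simpa [A] using hx
    rw [Finset.card_sigma, Finset.sum_const_nat (m := 4) fun y hy => ?_]
    · rw [Finset.card_univ_diff, ← Nat.card_eq_fintype_card, h8, Finset.card_pair hx1.symm]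
    · simp only [B, Finset.mem_sdiff, Finset.mem_univ, true_and, Finset.mem_insert,
        Finset.mem_singleton, not_or] at hy
      obtain ⟨hy1, hyx⟩ := hy
      have hxy : x * y ≠ 1 := fun e => hyx (by rw [← hinv y, ← eq_inv_of_mul_eq_one_left e])
      have h4 : ({1, x, y, x * y} : Finset V).card = 4 := by
        rw [Finset.card_insert_of_notMem, Finset.card_insert_of_notMem, Finset.card_pair]
        · simpa using fun e : y = x * y => hx1 (mul_eq_right.mp e.symm)
        · simp only [Finset.mem_insert, Finset.mem_singleton, not_or]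
          exact ⟨fun e => hyx e.symm, fun e => hy1 (mul_eq_left.mp e.symm)⟩
        · simp only [Finset.mem_insert, Finset.mem_singleton, not_or]
          exact ⟨hx1.symm, Ne.symm hy1, hxy.symm⟩
      rw [Finset.card_univ_diff, ← Nat.card_eq_fintype_card, h8, h4]
  have hmem : ∀ φ : MulAut V, (⟨φ a, φ b, φ c⟩ : Σ _ : V, Σ _ : V, V) ∈ T := fun φ => by
    have ha1 : (a : V) ≠ 1 := fun e => hsmall b c (top_unique (hgen ▸ (closure_le _).mpr (by
      rintro z (rfl | rfl | rfl)
      · rw [e]; exact one_mem _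
      all_goals exact subset_closure (by simp))))
    have hb : (b : V) ≠ 1 ∧ (b : V) ≠ a := ⟨
      fun e => hsmall a c (top_unique (hgen ▸ (closure_le _).mpr (by
        rintro z (rfl | rfl | rfl)
        · exact subset_closure (by simp)
        · rw [e]; exact one_mem _
        · exact subset_closure (by simp)))),
      fun e => hsmall a c (top_unique (hgen ▸ (closure_le _).mpr (by
        rintro z (rfl | rfl | rfl)
        · exact subset_closure (by simp)
        · rw [e]; exact subset_closure (by simp)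
        · exact subset_closure (by simp))))⟩
    have hc' : (c : V) ∉ Subgroup.closure ({(a : V), (b : V)} : Set V) := fun e =>
      hsmall a b (top_unique (hgen ▸ (closure_le _).mpr (by
        rintro z (rfl | rfl | rfl)
        · exact subset_closure (by simp)
        · exact subset_closure (by simp)
        · exact e)))
    simp only [T, A, B, D, Finset.mem_sigma, Finset.mem_filter, Finset.mem_univ, true_and,
      Finset.mem_sdiff, Finset.mem_insert, Finset.mem_singleton, not_or]
    refine ⟨fun e => ha1 (φ.map_eq_one_iff.mp e), ⟨fun e => hb.1 (φ.map_eq_one_iff.mp e),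
      fun e => hb.2 (φ.injective e)⟩, fun e => hc' ?_, fun e => hc' ?_, fun e => hc' ?_,
      fun e => hc' ?_⟩
    · rw [φ.map_eq_one_iff.mp e]; exact one_mem _
    · rw [φ.injective e]; exact subset_closure (by simp)
    · rw [φ.injective e]; exact subset_closure (by simp)
    · rw [← map_mul] at e
      rw [φ.injective e]; exact mul_mem (subset_closure (by simp)) (subset_closure (by simp))
  calc Nat.card (MulAut V) ≤ Nat.card T :=
        Nat.card_le_card_of_injective (fun φ => (⟨_, hmem φ⟩ : T)) fun φ ψ e => by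
          have e' := congrArg Subtype.val e
          simp only [Sigma.mk.injEq, heq_eq_eq] at e'
          exact hext φ ψ e'.1 e'.2.1 e'.2.2
    _ = 168 := by rw [Nat.card_eq_finsetCard, hT]

/-! ### Automorphisms fixing the involutions -/

set_option maxHeartbeats 1000000 in
/-- If the involutions of a 2-group commute, the automorphisms fixing them all form a solvable
group. -/
theorem solvable_fixing_involutions (hFT : OddSolvable.{u}) (hS : IsPGroup 2 S)
    (hcomm : ∀ x y : S, x * x = 1 → y * y = 1 → x * y = y * x) (K : Subgroup (MulAut S))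
    (hK : ∀ k ∈ K, ∀ x : S, x * x = 1 → k x = x) : Group.IsSolvable K := by
  classical
  haveI := Fact.mk Nat.prime_two
  haveI : Finite (MulAut S) := Finite.of_injective _ MulEquiv.toEquiv_injective
  by_contra hns
  -- the perfect radical
  obtain ⟨P, hPne, hPperf⟩ : ∃ P : Subgroup K, P ≠ ⊥ ∧ Group.IsPerfect P := by
    obtain ⟨D, ⟨n, rfl⟩, hmin⟩ :=
      (Set.toFinite (Set.range (derivedSeries K))).exists_minimal (Set.range_nonempty _)
    refine ⟨derivedSeries K n, fun hb => hns ⟨⟨n, hb⟩⟩, ⟨?_⟩⟩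
    have he : derivedSeries K (n + 1) = derivedSeries K n :=
      le_antisymm (derivedSeries_antitone K (Nat.le_succ n))
        (hmin ⟨_, rfl⟩ (derivedSeries_antitone K (Nat.le_succ n)))
    apply map_injective (derivedSeries K n).subtype_injective
    rw [map_subtype_commutator, ← derivedSeries_succ, he, ← MonoidHom.range_eq_map, range_subtype]
  let ι : P →* MulAut S := K.subtype.comp P.subtype
  have hι : Function.Injective ι := fun x y h => Subtype.ext (Subtype.ext h)
  have hfixι : ∀ (g : P) (x : S), x * x = 1 → ι g x = x := fun g x hx =>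
    hK _ (g : K).2 x hx
  -- a critical subgroup, its involutions and their centraliser in it
  obtain ⟨C, hCc, -, hCz, hCC⟩ := CfsgLib.Transfer.exists_critical (p := 2) hS
  haveI := hCc
  have hcen : ∀ x ∈ C, ∀ y : S, x⁻¹ * y⁻¹ * x * y ∈ C ∧
      ∀ w ∈ C, w * (x⁻¹ * y⁻¹ * x * y) = (x⁻¹ * y⁻¹ * x * y) * w := by
    intro x hx y
    have h1 := hCz (commutator_mem_commutator (C.inv_mem hx) (mem_top y⁻¹))
    simp only [commutatorElement_def, inv_inv] at h1
    exact ⟨h1.1, fun w hw => mem_centralizer_iff.mp h1.2 w hw⟩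
  let E : Subgroup S :=
    { carrier := {x | x ∈ C ∧ x * x = 1}
      one_mem' := ⟨one_mem C, one_mul 1⟩
      mul_mem' := fun {x y} hx hy => ⟨mul_mem hx.1 hy.1, by
        have h := hcomm x y hx.2 hy.2
        calc x * y * (x * y) = x * (y * x) * y := by group
          _ = x * (x * y) * y := by rw [h]
          _ = (x * x) * (y * y) := by group
          _ = 1 := by rw [hx.2, hy.2, one_mul]⟩
      inv_mem' := fun {x} hx => ⟨inv_mem hx.1, by rw [← mul_inv_rev, hx.2, inv_one]⟩ }
  set C1 : Subgroup S := C ⊓ centralizer (E : Set S) with hC1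
  have hEC1 : E ≤ C1 := fun x hx => ⟨hx.1, mem_centralizer_iff.mpr fun y hy =>
    hcomm y x hy.2 hx.2⟩
  have hEcen : ∀ e ∈ E, ∀ x ∈ C1, e * x = x * e := fun e he x hx =>
    mem_centralizer_iff.mp hx.2 e he
  have hd : ∀ x ∈ C1, ∀ y ∈ C1, y * y ∈ E → x⁻¹ * y⁻¹ * x * y ∈ E := by
    intro x hx y hy hyy
    obtain ⟨hdC, hdc⟩ := hcen x hx.1 y
    refine ⟨hdC, ?_⟩
    set d := x⁻¹ * y⁻¹ * x * y with hd
    have e1 : x * y = y * x * d := by rw [hd]; group
    have e2 : x * (y * y) = y * y * x * (d * d) :=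
      calc x * (y * y) = (x * y) * y := by group
        _ = y * x * (d * y) := by rw [e1]; group
        _ = y * x * (y * d) := by rw [hdc y hy.1]
        _ = y * (x * y) * d := by group
        _ = y * y * x * (d * d) := by rw [e1]; group
    rw [← hEcen _ hyy x hx] at e2
    exact mul_eq_left.mp e2.symm
  have hsqmul : ∀ x ∈ C1, ∀ y ∈ C1,
      x * y * (x * y) = x * x * (y * y) * (x⁻¹ * y⁻¹ * x * y)⁻¹ := by
    intro x hx y hy
    obtain ⟨hdC, hdc⟩ := hcen x hx.1 y
    set d := x⁻¹ * y⁻¹ * x * y with hd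
    have e1 : y * x = x * y * d⁻¹ := by rw [hd]; group
    have e2 : d⁻¹ * y = y * d⁻¹ := ((show Commute y d from hdc y hy.1).inv_right).eq.symm
    calc x * y * (x * y) = x * (y * x) * y := by group
      _ = x * x * y * (d⁻¹ * y) := by rw [e1]; group
      _ = x * x * (y * y) * d⁻¹ := by rw [e2]; group
  let U : Subgroup S :=
    { carrier := {x | x ∈ C1 ∧ x * x ∈ E}
      one_mem' := ⟨one_mem _, by rw [one_mul]; exact one_mem E⟩
      mul_mem' := fun {x y} hx hy => ⟨mul_mem hx.1 hy.1, by
        rw [hsqmul x hx.1 y hy.1]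
        exact mul_mem (mul_mem hx.2 hy.2) (inv_mem (hd x hx.1 y hy.1 hy.2))⟩
      inv_mem' := fun {x} hx => ⟨inv_mem hx.1, by rw [← mul_inv_rev]; exact inv_mem hx.2⟩ }
  have hEU : E ≤ U := fun x hx => ⟨hEC1 hx, by rw [hx.2]; exact one_mem E⟩
  have hCinv : ∀ (g : P), ∀ x ∈ C, ι g x ∈ C := fun g x hx =>
    (characteristic_iff_le_comap.mp hCc (ι g)) hx
  have hC1inv : ∀ (g : P), ∀ x ∈ C1, ι g x ∈ C1 := fun g x hx =>
    ⟨hCinv g x hx.1, mem_centralizer_iff.mpr fun e he => by
      rw [← hfixι g e he.2, ← map_mul, ← map_mul, hEcen e he x hx]⟩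
  have hUinv : ∀ (g : P), ∀ x ∈ U, ι g x ∈ U := fun g x hx =>
    ⟨hC1inv g x hx.1, by rw [← map_mul, hfixι g _ hx.2.2]; exact hx.2⟩
  -- the quadratic map on `U ⧸ E`
  let N : Subgroup U := E.subgroupOf U
  haveI : N.Normal := ⟨fun n hn w => by
    rw [mem_subgroupOf] at hn ⊢
    push_cast
    rw [← hEcen _ hn _ w.2.1, mul_inv_cancel_right]
    exact hn⟩
  letI : CommGroup (U ⧸ N) :=
    { (inferInstance : Group (U ⧸ N)) with
      mul_comm := fun x y => by
        obtain ⟨x, rfl⟩ := QuotientGroup.mk_surjective x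
        obtain ⟨y, rfl⟩ := QuotientGroup.mk_surjective y
        show ((x * y : U) : U ⧸ N) = ((y * x : U) : U ⧸ N)
        rw [QuotientGroup.eq, mem_subgroupOf]
        push_cast
        rw [show ((x : S) * y)⁻¹ * (y * x) = (y : S)⁻¹ * (x : S)⁻¹ * y * x by group]
        exact hd _ y.2.1 _ x.2.1 x.2.2 }
  letI : CommGroup E :=
    { (inferInstance : Group E) with
      mul_comm := fun x y => Subtype.ext (hcomm _ _ x.2.2 y.2.2) }
  let sq : U → E := fun x => ⟨(x : S) * x, x.2.2⟩
  let dd : U → U → E := fun x y => ⟨(x : S)⁻¹ * (y : S)⁻¹ * x * y, hd _ x.2.1 _ y.2.1 y.2.2⟩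
  have hE2 : ∀ e : E, e * e = 1 := fun e => Subtype.ext e.2.2
  have hEinv : ∀ e : E, e⁻¹ = e := fun e => inv_eq_iff_mul_eq_one.mpr (hE2 e)
  have hsq : ∀ x y : U, sq (x * y) = sq x * sq y * dd x y := fun x y => by
    rw [← hEinv (dd x y)]
    exact Subtype.ext (hsqmul _ x.2.1 _ y.2.1)
  have hdd : ∀ x x' z : U, dd (x * x') z = dd x z * dd x' z := fun x x' z => by
    refine Subtype.ext ?_
    obtain ⟨-, hc1⟩ := hcen (x : S) x.2.1.1 (z : S)
    show ((x : S) * x')⁻¹ * (z : S)⁻¹ * ((x : S) * x') * z =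
      (x : S)⁻¹ * (z : S)⁻¹ * x * z * ((x' : S)⁻¹ * (z : S)⁻¹ * x' * z)
    calc ((x : S) * x')⁻¹ * (z : S)⁻¹ * ((x : S) * x') * z
        = (x' : S)⁻¹ * ((x : S)⁻¹ * (z : S)⁻¹ * x * z) * ((z : S)⁻¹ * x' * z) := by group
      _ = ((x : S)⁻¹ * (z : S)⁻¹ * x * z) * (x' : S)⁻¹ * ((z : S)⁻¹ * x' * z) := by
          rw [hc1 _ (inv_mem x'.2.1.1)]
      _ = _ := by group
  have hdd0 : ∀ (x n : U), n ∈ N → dd x n = 1 := fun x n hn => by
    refine Subtype.ext ?_
    show (x : S)⁻¹ * (n : S)⁻¹ * x * n = 1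
    rw [mul_assoc, ← hEcen _ (mem_subgroupOf.mp hn) _ x.2.1]
    group
  let q0 : U ⧸ N → E := fun v => Quotient.liftOn' v sq fun x y h => by
    rw [QuotientGroup.leftRel_apply] at h
    rw [← mul_inv_cancel_left x y, hsq, hdd0 x _ h, mul_one]
    rw [show sq (x⁻¹ * y) = 1 from Subtype.ext (mem_subgroupOf.mp h).2, mul_one]
  have hq0 : ∀ x : U, q0 (x : U ⧸ N) = sq x := fun _ => rfl
  let act : P → (U ⧸ N) → (U ⧸ N) := fun g => QuotientGroup.map N N
    { toFun := fun x => ⟨ι g x, hUinv g x x.2⟩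
      map_one' := Subtype.ext (map_one (ι g))
      map_mul' := fun x y => Subtype.ext (map_mul (ι g) (x : S) y) }
    (fun x hx => by
      rw [mem_comap, mem_subgroupOf]
      show ι g x ∈ E
      rw [hfixι g _ (mem_subgroupOf.mp hx).2]
      exact mem_subgroupOf.mp hx)
  letI : DistribMulAction P (Additive (U ⧸ N)) :=
    { smul := fun g v => Additive.ofMul (act g v.toMul)
      one_smul := fun v => by
        obtain ⟨x, hx⟩ := QuotientGroup.mk_surjective v.toMul
        show Additive.ofMul (act 1 v.toMul) = v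
        rw [← hx]
        exact (congrArg Additive.ofMul hx)
      mul_smul := fun g h v => by
        obtain ⟨x, hx⟩ := QuotientGroup.mk_surjective v.toMul
        show Additive.ofMul (act (g * h) v.toMul) = Additive.ofMul (act g (act h v.toMul))
        rw [← hx]
        rfl
      smul_zero := fun g => congrArg Additive.ofMul (map_one (QuotientGroup.map N N _ _))
      smul_add := fun g v w => congrArg Additive.ofMul (map_mul (QuotientGroup.map N N _ _) _ _) }
  have hV : ∀ v : Additive (U ⧸ N), v + v = 0 := fun v => by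
    obtain ⟨x, hx⟩ := QuotientGroup.mk_surjective v.toMul
    show Additive.ofMul (v.toMul * v.toMul) = Additive.ofMul 1
    rw [← hx, ← QuotientGroup.mk_mul]
    exact congrArg Additive.ofMul ((QuotientGroup.eq_one_iff _).mpr (mem_subgroupOf.mpr x.2.2))
  let q : Additive (U ⧸ N) → Additive E := fun v => Additive.ofMul (q0 v.toMul)
  have htriv := Aniso.fixed_of_anisotropic hFT hPperf hV
    (fun z => congrArg Additive.ofMul (hE2 z.toMul)) q
    (fun a b c => by
      obtain ⟨x, hx⟩ := QuotientGroup.mk_surjective a.toMul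
      obtain ⟨y, hy⟩ := QuotientGroup.mk_surjective b.toMul
      obtain ⟨z, hz⟩ := QuotientGroup.mk_surjective c.toMul
      show Additive.ofMul (q0 (a.toMul * b.toMul * c.toMul) / q0 (a.toMul * b.toMul) / q0 c.toMul) =
        Additive.ofMul ((q0 (a.toMul * c.toMul) / q0 a.toMul / q0 c.toMul) *
          (q0 (b.toMul * c.toMul) / q0 b.toMul / q0 c.toMul))
      simp only [← hx, ← hy, ← hz, ← QuotientGroup.mk_mul, hq0]
      have hcancel : ∀ a b c : E, a * b * c / a / b = c := fun a b c => by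
        rw [div_div, mul_div_cancel_left]
      rw [hsq (x * y) z, hsq x z, hsq y z, hdd, hcancel, hcancel, hcancel])
    (fun g v => by
      obtain ⟨x, hx⟩ := QuotientGroup.mk_surjective v.toMul
      show Additive.ofMul (q0 (act g v.toMul)) = Additive.ofMul (q0 v.toMul)
      rw [← hx]
      refine congrArg Additive.ofMul (Subtype.ext ?_)
      show ι g x * ι g x = _
      rw [← map_mul, hfixι g _ x.2.2.2]
      rfl)
    (fun v hv => by
      obtain ⟨x, hx⟩ := QuotientGroup.mk_surjective v.toMul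
      have h1 : q0 v.toMul = 1 := Additive.ofMul.injective hv
      rw [← hx, hq0] at h1
      show v = Additive.ofMul 1
      refine Additive.toMul.injective ?_
      rw [← hx]
      exact (QuotientGroup.eq_one_iff _).mpr (mem_subgroupOf.mpr
        ⟨x.2.1.1, congrArg Subtype.val h1⟩))
  -- `P` fixes `U`
  have hmove : ∀ (g : P) (x : U), (x : S)⁻¹ * ι g x ∈ E := fun g x => by
    have h1 : act g (x : U ⧸ N) = (x : U ⧸ N) :=
      congrArg Additive.toMul (htriv g (Additive.ofMul (x : U ⧸ N)))
    exact mem_subgroupOf.mp (QuotientGroup.eq.mp h1.symm)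
  let δ : P →* (U → E) :=
    MonoidHom.mk' (fun g x => ⟨(x : S)⁻¹ * ι g x, hmove g x⟩) fun g h => by
      funext x
      refine Subtype.ext ?_
      show (x : S)⁻¹ * ι (g * h) x = (x : S)⁻¹ * ι g x * ((x : S)⁻¹ * ι h x)
      rw [map_mul, MulAut.mul_apply]
      calc (x : S)⁻¹ * ι g (ι h x) = (x : S)⁻¹ * ι g ((x : S) * ((x : S)⁻¹ * ι h x)) := by
            rw [mul_inv_cancel_left]
        _ = _ := by rw [map_mul, hfixι g _ (hmove h x).2, ← mul_assoc]
  have hfixU : ∀ (g : P), ∀ x ∈ U, ι g x = x := by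
    intro g x hx
    have h1 : δ g = 1 := by
      have hle : commutator P ≤ δ.ker := by
        rw [_root_.commutator_def, commutator_le]
        intro a _ b _
        rw [MonoidHom.mem_ker, map_commutatorElement, commutatorElement_eq_one_iff_mul_comm]
        exact mul_comm _ _
      haveI := hPperf
      rw [Group.IsPerfect.commutator_eq_top] at hle
      exact MonoidHom.mem_ker.mp (hle (mem_top g))
    have h2 : x⁻¹ * ι g x = 1 := congrArg Subtype.val (congrFun h1 ⟨x, hx⟩)
    exact (inv_mul_eq_one.mp h2).symm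
  -- elements of odd prime order are trivial
  have hno : ∀ k : P, ∀ p : ℕ, p.Prime → p ≠ 2 → k ^ p = 1 → k = 1 := by
    intro k p hp hp2 hkp
    set a := ι k
    have hap : a ^ p = 1 := by rw [← map_pow, hkp, map_one]
    have hco : Nat.Coprime p 2 := (Nat.coprime_primes hp Nat.prime_two).2 hp2
    have hC1fix : ∀ x ∈ C1, a x = x := by
      by_contra hbad
      push Not at hbad
      obtain ⟨y, hy, hay⟩ := hbad
      let Z := zpowers a
      have hZC1 : ∀ g : Z, ∀ z ∈ C1, (Z.subtype g) z ∈ C1 := fun g z hz => by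
        obtain ⟨g, hg⟩ := g
        obtain ⟨i, rfl⟩ := Subgroup.mem_zpowers_iff.mp hg
        show (ι k ^ i) z ∈ C1
        rw [← map_zpow]
        exact hC1inv _ z hz
      have hcard : (Nat.card C1).Coprime (Nat.card Z) := by
        obtain ⟨m, hm⟩ := IsPGroup.iff_card.mp (hS.to_subgroup C1)
        rw [hm, Nat.card_zpowers]
        exact Nat.Coprime.coprime_dvd_right (orderOf_dvd_of_pow_eq_one hap) (hco.symm.pow_left m)
      obtain ⟨W, s, hs, hsd, hWC1, -, -, -, ⟨g, w, hw, hgw⟩, hcW, -, hpW, -⟩ :=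
        CfsgLib.Core.HH.exists_critical (Y := S) Z.subtype 1 (fun g => ⟨g, by simp⟩)
          (hS.to_subgroup C1).isNilpotent hZC1 (fun z hz => hz) hcard
          ⟨⟨a, mem_zpowers a⟩, y, hy, hay⟩
      obtain rfl : s = 2 := by
        obtain ⟨m, hm⟩ := IsPGroup.iff_card.mp (hS.to_subgroup C1)
        rw [hm] at hsd
        exact (Nat.prime_dvd_prime_iff_eq hs Nat.prime_two).mp (hs.dvd_of_dvd_pow hsd)
      have hWE : ⁅W, W⁆ ≤ E := by
        refine commutator_le.mpr fun x hx y hy => ?_
        obtain ⟨hC', hc'⟩ := hcen x⁻¹ (inv_mem (hWC1 hx).1) y⁻¹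
        rw [inv_inv, inv_inv, ← commutatorElement_def] at hC' hc'
        refine ⟨hC', ?_⟩
        have hyy : y⁻¹ * y⁻¹ ∈ ⁅W, W⁆ := by
          rw [← pow_two]
          exact hpW _ (inv_mem hy)
        have hcy := (hcW _ hyy).2 x⁻¹ (inv_mem hx)
        set d := ⁅x, y⁆ with hd'
        have e1 : x⁻¹ * y⁻¹ = y⁻¹ * x⁻¹ * d := by rw [hd', commutatorElement_def]; group
        have e2 : x⁻¹ * (y⁻¹ * y⁻¹) = y⁻¹ * y⁻¹ * x⁻¹ * (d * d) :=
          calc x⁻¹ * (y⁻¹ * y⁻¹) = (x⁻¹ * y⁻¹) * y⁻¹ := by group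
            _ = y⁻¹ * x⁻¹ * (d * y⁻¹) := by rw [e1]; group
            _ = y⁻¹ * x⁻¹ * (y⁻¹ * d) := by rw [hc' _ (inv_mem (hWC1 hy).1)]
            _ = y⁻¹ * (x⁻¹ * y⁻¹) * d := by group
            _ = y⁻¹ * y⁻¹ * x⁻¹ * (d * d) := by rw [e1]; group
        rw [← hcy] at e2
        exact mul_eq_left.mp e2.symm
      have hwU : w ∈ U := ⟨hWC1 hw, by rw [← pow_two]; exact hWE (hpW w hw)⟩
      obtain ⟨g, hg⟩ := g
      obtain ⟨i, rfl⟩ := Subgroup.mem_zpowers_iff.mp hg
      refine hgw ?_
      show (ι k ^ i) w = w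
      rw [← map_zpow]
      exact hfixU _ w hwU
    have hCfix : ∀ x ∈ C, a x = x := by
      intro x hx
      let aC : MulAut C := restrictAut C a
      haveI : (C1.subgroupOf C).Normal := ⟨fun n hn w => by
        rw [mem_subgroupOf] at hn ⊢
        push_cast
        obtain ⟨hc1, hc2⟩ := hcen (n : S) n.2 (w : S)⁻¹
        rw [inv_inv] at hc1 hc2
        rw [show (w : S) * n * (w : S)⁻¹ = n * ((n : S)⁻¹ * w * n * (w : S)⁻¹) by group]
        exact mul_mem hn ⟨hc1, mem_centralizer_iff.mpr fun e he => hc2 e he.1⟩⟩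
      have h1 : aC = 1 := CfsgLib.Transfer.eq_one_of_fixes_centralizer_le (hS.to_subgroup C) aC
        hco (by rw [← map_pow, hap, map_one]) (H := C1.subgroupOf C) (fun z hz => by
          rw [mem_subgroupOf]
          refine ⟨z.2, mem_centralizer_iff.mpr fun e he => ?_⟩
          exact congrArg Subtype.val
            (mem_centralizer_iff.mp hz ⟨e, (hEC1 he).1⟩ (mem_subgroupOf.mpr (hEC1 he))))
        fun z hz => Subtype.ext (hC1fix _ (mem_subgroupOf.mp hz))
      exact congrArg Subtype.val (DFunLike.congr_fun h1 (⟨x, hx⟩ : C))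
    exact hι ((CfsgLib.Transfer.eq_one_of_fixes_centralizer_le hS a hco hap hCC hCfix).trans
      (map_one ι).symm)
  haveI := isSolvable_of_no_odd hno
  haveI := hPperf
  haveI : Nontrivial P := (nontrivial_iff_ne_bot P).mpr hPne
  exact (Group.IsSolvable.commutator_lt_top_of_nontrivial P).ne Group.IsPerfect.commutator_eq_top

/-! ### The three cases -/

variable {G : Type u} [Group G] [Finite G] [IsSimpleGroup G]

theorem out_solvable_two_generated (hFT : OddSolvable.{u}) (S : Sylow 2 G)
    (hS1 : (S : Subgroup G) ≠ ⊥)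
    (h : ∃ a b : ↥(S : Subgroup G), Subgroup.closure ({a, b} : Set ↥(S : Subgroup G)) = ⊤) :
    Group.IsSolvable (Cfsg.Out G) := by
  obtain ⟨a, b, hab⟩ := h
  refine out_solvable_of_range hFT (eq_bot_of_odd_of_simple S hS1) S
    (solvable_of_quotAut S.isPGroup' _ ?_)
  haveI := solvable_mulAut_of_card_le_four (quotient_card_le_four S.isPGroup' hab)
  infer_instance

/-- Conjugation by an element normalising `H` as an element of the stabiliser of `H`. -/
def conjStab (H : Subgroup G) : normalizer (H : Set G) →* autStab H where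
  toFun n := ⟨MulAut.conj (n : G), fun x => (mem_normalizer_iff.mp n.2 x).symm⟩
  map_one' := Subtype.ext (map_one MulAut.conj)
  map_mul' _ _ := Subtype.ext (map_mul MulAut.conj _ _)

theorem conjStab_conj (H : Subgroup G) (φ : autStab H) (n : normalizer (H : Set G))
    (hn : (φ : MulAut G) n ∈ normalizer (H : Set G)) :
    φ * conjStab H n * φ⁻¹ = conjStab H ⟨_, hn⟩ := by
  refine Subtype.ext (MulEquiv.ext fun x => ?_)
  show (φ : MulAut G) ((n : G) * (φ : MulAut G)⁻¹ x * (n : G)⁻¹) = _
  rw [map_mul, map_mul, map_inv,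
    show (φ : MulAut G) ((φ : MulAut G)⁻¹ x) = x from MulEquiv.apply_symm_apply _ x]
  rfl

theorem autStab_normalizer (H : Subgroup G) {φ : MulAut G} (hφ : φ ∈ autStab H) {n : G}
    (hn : n ∈ normalizer (H : Set G)) : φ n ∈ normalizer (H : Set G) := by
  refine mem_normalizer_iff.mpr fun x => ?_
  obtain ⟨y, rfl⟩ := φ.surjective x
  show φ y ∈ H ↔ φ n * φ y * (φ n)⁻¹ ∈ H
  rw [← map_inv, ← map_mul, ← map_mul, hφ, hφ]
  exact mem_normalizer_iff.mp hn y

theorem out_solvable_three_generated (hFT : OddSolvable.{u}) (S : Sylow 2 G)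
    (hS1 : (S : Subgroup G) ≠ ⊥)
    (h : ∃ a b c : ↥(S : Subgroup G), Subgroup.closure ({a, b, c} : Set ↥(S : Subgroup G)) = ⊤)
    (hodd : ∃ g ∈ normalizer ((S : Subgroup G) : Set G),
      Odd (orderOf g) ∧ g ∉ centralizer ((S : Subgroup G) : Set G)) :
    Group.IsSolvable (Cfsg.Out G) := by
  obtain ⟨a, b, c, habc⟩ := h
  obtain ⟨g, hg, hgo, hgc⟩ := hodd
  haveI := Fact.mk Nat.prime_two
  refine out_solvable_of_range hFT (eq_bot_of_odd_of_simple S hS1) S
    (solvable_of_quotAut S.isPGroup' _ ?_)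
  rcases card_mulAut_le S.isPGroup' habc with h4 | h168
  · haveI := solvable_mulAut_of_card_le_four h4
    infer_instance
  set H : Subgroup G := (S : Subgroup G)
  haveI : Finite (MulAut (↥H ⧸ frattini ↥H)) := Finite.of_injective _ MulEquiv.toEquiv_injective
  let f : autStab H →* MulAut (↥H ⧸ frattini ↥H) := (quotAut ↥H).comp (autRestrict H)
  rw [show (autRestrict H).range.map (quotAut ↥H) = f.range from MonoidHom.map_range _ _]
  let χ : normalizer (H : Set G) →* f.range := f.rangeRestrict.comp (conjStab H)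
  haveI hn : χ.range.Normal := by
    refine ⟨?_⟩
    rintro _ ⟨n, rfl⟩ ⟨_, φ, rfl⟩
    refine ⟨⟨_, autStab_normalizer H φ.2 n.2⟩, Subtype.ext ?_⟩
    show f (conjStab H _) = f φ * f (conjStab H n) * (f φ)⁻¹
    rw [← conjStab_conj H φ n, map_mul, map_mul, map_inv]
  have hker : H.subgroupOf (normalizer (H : Set G)) ≤ χ.ker := by
    intro n hn
    refine MonoidHom.mem_ker.mpr (Subtype.ext (MulEquiv.ext fun v => ?_))
    obtain ⟨x, rfl⟩ := QuotientGroup.mk_surjective v
    show (((autRestrict H (conjStab H n)) x : H) : ↥H ⧸ frattini ↥H) = (x : ↥H ⧸ frattini ↥H)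
    rw [show (autRestrict H (conjStab H n)) x = (⟨n, hn⟩ : H) * x * (⟨n, hn⟩ : H)⁻¹ from rfl,
      QuotientGroup.mk_mul, QuotientGroup.mk_mul,
      (CfsgLib.PGroups.frattini_quotient (p := 2) S.isPGroup').1.is_comm.comm
        ((⟨n, hn⟩ : H) : ↥H ⧸ frattini ↥H), mul_assoc, QuotientGroup.mk_inv, mul_inv_cancel, mul_one]
  have hXodd : Odd (Nat.card χ.range) := by
    rw [← Subgroup.index_ker]
    refine Odd.of_dvd_nat ?_ (index_dvd_of_le hker)
    rw [Nat.odd_iff, ← Nat.two_dvd_ne_zero]
    intro h2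
    apply S.not_dvd_index
    rw [← Subgroup.relIndex_mul_index (le_normalizer (H := H))]
    exact dvd_mul_of_dvd_left h2 _
  have hX1 : χ ⟨g, hg⟩ ≠ 1 := by
    intro h1
    refine hgc (mem_centralizer_iff.mpr fun x hx => ?_)
    set a := autRestrict H (conjStab H ⟨g, hg⟩)
    have ha : quotAut ↥H a = 1 := congrArg Subtype.val h1
    have hao : Odd (orderOf a) := by
      refine Odd.of_dvd_nat hgo ?_
      have hh : orderOf (⟨g, hg⟩ : normalizer (H : Set G)) = orderOf g := Subgroup.orderOf_mk g hg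
      rw [← hh]
      exact orderOf_map_dvd ((autRestrict H).comp (conjStab H)) _
    have ha1 : a = 1 := by
      by_contra hne
      haveI : Finite (MulAut ↥H) := Finite.of_injective _ MulEquiv.toEquiv_injective
      obtain ⟨r, hr, hrd⟩ := Nat.exists_prime_and_dvd (fun e => hne (orderOf_eq_one_iff.mp e))
      have hr2 : r ≠ 2 := fun e => by
        subst e
        exact (Nat.not_even_iff_odd.mpr hao) (even_iff_two_dvd.mpr hrd)
      set b := a ^ (orderOf a / r)
      have hb : orderOf b = r := orderOf_pow_orderOf_div (orderOf_pos a).ne' hrd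
      have := quotAut_ker S.isPGroup' (a := b) (by rw [map_pow, ha, one_pow]) hr hr2
        (by rw [← hb]; exact pow_orderOf_eq_one b)
      rw [this, orderOf_one] at hb
      exact hr.one_lt.ne hb
    have h2 : g * x * g⁻¹ = x := congrArg Subtype.val (DFunLike.congr_fun ha1 (⟨x, hx⟩ : H))
    calc x * g = g * x * g⁻¹ * g := by rw [h2]
      _ = g * x := by group
  haveI : Group.IsSolvable χ.range := hFT _ hXodd
  haveI : Group.IsSolvable (f.range ⧸ χ.range) := by
    refine solvable_of_lt_sixty ?_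
    have h1 := Subgroup.card_eq_card_quotient_mul_card_subgroup χ.range
    have h2 : 3 ≤ Nat.card χ.range := by
      have h0 : 1 < Nat.card χ.range := by
        rw [Finite.one_lt_card_iff_nontrivial, Subgroup.nontrivial_iff_ne_bot]
        exact fun e => hX1 (Subgroup.mem_bot.mp (e ▸ ⟨_, rfl⟩))
      obtain ⟨m, hm⟩ := hXodd
      omega
    have h3 : Nat.card f.range ≤ 168 :=
      (Nat.card_le_card_of_injective _ f.range.subtype_injective).trans h168
    nlinarith
  exact (Group.isSolvable_iff_subgroup_quotient χ.range).mpr ⟨inferInstance, inferInstance⟩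

set_option maxHeartbeats 800000 in
theorem out_solvable_one_class (hFT : OddSolvable.{u}) (S : Sylow 2 G) (hS1 : (S : Subgroup G) ≠ ⊥)
    (hcomm : ∀ s ∈ S, ∀ t ∈ S, orderOf s = 2 → orderOf t = 2 → s * t = t * s)
    (hconj : ∀ s ∈ S, ∀ t ∈ S, orderOf s = 2 → orderOf t = 2 → ∃ g : G, g * s * g⁻¹ = t) :
    Group.IsSolvable (Cfsg.Out G) := by
  haveI := Fact.mk Nat.prime_two
  set H : Subgroup G := (S : Subgroup G)
  have hord : ∀ x : G, x * x = 1 → x ≠ 1 → orderOf x = 2 := fun x h1 h2 =>
    orderOf_eq_prime (by rw [pow_two, h1]) h2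
  have hc : ∀ x ∈ H, ∀ y ∈ H, x * x = 1 → y * y = 1 → x * y = y * x := by
    intro x hx y hy h1 h2
    rcases eq_or_ne x 1 with rfl | hx1
    · simp
    rcases eq_or_ne y 1 with rfl | hy1
    · simp
    exact hcomm x hx y hy (hord x h1 hx1) (hord y h2 hy1)
  let EG : Subgroup G :=
    { carrier := {x | x ∈ H ∧ x * x = 1}
      one_mem' := ⟨one_mem H, one_mul 1⟩
      mul_mem' := fun {x y} hx hy => ⟨mul_mem hx.1 hy.1, by
        have h := hc x hx.1 y hy.1 hx.2 hy.2
        calc x * y * (x * y) = x * (y * x) * y := by group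
          _ = x * (x * y) * y := by rw [h]
          _ = (x * x) * (y * y) := by group
          _ = 1 := by rw [hx.2, hy.2, one_mul]⟩
      inv_mem' := fun {x} hx => ⟨inv_mem hx.1, by rw [← mul_inv_rev, hx.2, inv_one]⟩ }
  have hEG2 : IsPGroup 2 EG := S.isPGroup'.to_le fun x hx => hx.1
  letI : CommGroup EG :=
    { (inferInstance : Group EG) with
      mul_comm := fun x y => Subtype.ext (hc _ x.2.1 _ y.2.1 x.2.2 y.2.2) }
  haveI : Finite (MulAut EG) := Finite.of_injective _ MulEquiv.toEquiv_injective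
  set N := normalizer (EG : Set G)
  -- transitivity
  have htrans : ∀ x ∈ EG, ∀ y ∈ EG, x ≠ 1 → y ≠ 1 → ∃ n ∈ N, n * x * n⁻¹ = y := by
    intro x hx y hy hx1 hy1
    obtain ⟨g, hgxy⟩ := hconj x hx.1 y hy.1 (hord x hx.2 hx1) (hord y hy.2 hy1)
    set A := centralizer ({y} : Set G)
    have h1 : EG ≤ A := fun z hz =>
      mem_centralizer_singleton_iff.mpr (hc z hz.1 y hy.1 hz.2 hy.2)
    have h2 : EG.map (MulAut.conj g).toMonoidHom ≤ A := by
      rintro _ ⟨z, hz, rfl⟩
      refine mem_centralizer_singleton_iff.mpr ?_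
      show g * z * g⁻¹ * y = y * (g * z * g⁻¹)
      rw [← hgxy, show g * z * g⁻¹ * (g * x * g⁻¹) = g * (z * x) * g⁻¹ by group,
        hc z hz.1 x hx.1 hz.2 hx.2]
      group
    obtain ⟨P1, hP1⟩ :=
      (hEG2.of_equiv (subgroupOfEquivOfLe h1).symm).exists_le_sylow
    obtain ⟨P2, hP2⟩ :=
      ((hEG2.map (MulAut.conj g).toMonoidHom).of_equiv (subgroupOfEquivOfLe h2).symm).exists_le_sylow
    obtain ⟨a, ha⟩ := MulAction.exists_smul_eq A P2 P1
    set h := (a : G) * g with hh
    obtain ⟨Q, hQ⟩ := (P1.isPGroup'.map A.subtype).exists_le_sylow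
    obtain ⟨b, hb⟩ := MulAction.exists_smul_eq G S Q
    have hQmem : ∀ z, z ∈ (Q : Subgroup G) ↔ b⁻¹ * z * b ∈ H := fun z => by
      rw [← hb, Sylow.coe_subgroup_smul, Subgroup.mem_pointwise_smul_iff_inv_smul_mem]
      simp [MulAut.smul_def, H]
    have hmemh : ∀ z ∈ EG, h * z * h⁻¹ ∈ (Q : Subgroup G) := by
      intro z hz
      refine hQ ?_
      have hz2 : g * z * g⁻¹ ∈ A := h2 ⟨z, hz, rfl⟩
      have h3 : a * ⟨g * z * g⁻¹, hz2⟩ * a⁻¹ ∈ (P1 : Subgroup A) := by
        rw [← ha, Sylow.coe_subgroup_smul, Subgroup.mem_pointwise_smul_iff_inv_smul_mem]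
        simp only [MulAut.smul_def, MulAut.conj_inv_apply]
        convert hP2 (show (⟨g * z * g⁻¹, hz2⟩ : A) ∈ _ from mem_subgroupOf.mpr ⟨z, hz, rfl⟩) using 1
        group
      refine ⟨_, h3, ?_⟩
      show (a : G) * (g * z * g⁻¹) * (a : G)⁻¹ = h * z * h⁻¹
      rw [hh]; group
    -- all three subgroups are the set of involutions of `Q`
    have hcb : ∀ z, (z ∈ (Q : Subgroup G) ∧ z * z = 1) ↔ b⁻¹ * z * b ∈ EG := fun z => by
      show _ ↔ b⁻¹ * z * b ∈ H ∧ b⁻¹ * z * b * (b⁻¹ * z * b) = 1
      rw [hQmem, show b⁻¹ * z * b * (b⁻¹ * z * b) = b⁻¹ * (z * z) * b⁻¹⁻¹ by group,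
        conj_eq_one_iff]
    have heq : EG.map (MulAut.conj h).toMonoidHom = EG.map (MulAut.conj b).toMonoidHom := by
      refine Subgroup.eq_of_le_of_card_ge ?_ ?_
      · rintro _ ⟨z, hz, rfl⟩
        show h * z * h⁻¹ ∈ _
        refine ⟨b⁻¹ * (h * z * h⁻¹) * b, (hcb _).mp ⟨hmemh z hz, ?_⟩, ?_⟩
        · rw [show h * z * h⁻¹ * (h * z * h⁻¹) = h * (z * z) * h⁻¹ by group, hz.2]; group
        · show b * (b⁻¹ * (h * z * h⁻¹) * b) * b⁻¹ = _
          group
      · rw [Subgroup.card_map_of_injective (f := (MulAut.conj h).toMonoidHom)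
            (MulAut.conj h).injective,
          Subgroup.card_map_of_injective (f := (MulAut.conj b).toMonoidHom)
            (MulAut.conj b).injective]
    have heq' : EG = EG.map (MulAut.conj b).toMonoidHom := by
      refine Subgroup.eq_of_le_of_card_ge ?_ ?_
      · intro z hz
        refine ⟨b⁻¹ * z * b, (hcb _).mp ⟨hQ ⟨⟨z, h1 hz⟩, hP1 (mem_subgroupOf.mpr hz), rfl⟩, hz.2⟩,
          ?_⟩
        show b * (b⁻¹ * z * b) * b⁻¹ = z
        group
      · rw [Subgroup.card_map_of_injective (MulAut.conj b).injective]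
    refine ⟨h, mem_normalizer_iff_map_conj_eq.mpr (heq.trans heq'.symm), ?_⟩
    have hay : (a : G) * y = y * a := mem_centralizer_singleton_iff.mp a.2
    rw [hh, show (a : G) * g * x * ((a : G) * g)⁻¹ = (a : G) * (g * x * g⁻¹) * (a : G)⁻¹ by group,
      hgxy, hay, mul_inv_cancel_right]
  -- the automizer
  have hstab : autStab H ≤ autStab EG := fun φ hφ x => by
    show φ x ∈ H ∧ φ x * φ x = 1 ↔ x ∈ H ∧ x * x = 1
    rw [hφ, ← map_mul, MulEquiv.map_eq_one_iff]
  let ψ : N →* MulAut EG := (autRestrict EG).comp (conjStab EG)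
  let ρ : autStab H →* MulAut EG := (autRestrict EG).comp (Subgroup.inclusion hstab)
  have hHN : H ≤ N := fun s hs => mem_normalizer_iff.mpr fun x => by
    show x ∈ H ∧ x * x = 1 ↔ s * x * s⁻¹ ∈ H ∧ s * x * s⁻¹ * (s * x * s⁻¹) = 1
    rw [show s * x * s⁻¹ * (s * x * s⁻¹) = s * (x * x) * s⁻¹ by group, conj_eq_one_iff,
      H.mul_mem_cancel_right (inv_mem hs), H.mul_mem_cancel_left hs]
  let T : Sylow 2 ψ.range :=
    (S.subtype hHN).mapSurjective (MonoidHom.rangeRestrict_surjective ψ)
  have hnorm : ∀ (φ : autStab H) (n : N), ∃ hn : (φ : MulAut G) n ∈ N,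
      ρ φ * ψ n * (ρ φ)⁻¹ = ψ ⟨_, hn⟩ := fun φ n => by
    refine ⟨autStab_normalizer EG (hstab φ.2) n.2, ?_⟩
    simp only [ρ, ψ, MonoidHom.comp_apply, ← map_inv, ← map_mul]
    exact congrArg _ (conjStab_conj EG (Subgroup.inclusion hstab φ) n _)
  have hle : ∀ M : Subgroup (MulAut EG), (∀ φ, ∀ l ∈ M, ρ φ * l * (ρ φ)⁻¹ ∈ M) →
      ρ.range ≤ normalizer (M : Set (MulAut EG)) := by
    rintro M hM _ ⟨φ, rfl⟩
    refine mem_normalizer_iff.mpr fun l => ⟨hM φ l, fun hl => ?_⟩
    have := hM φ⁻¹ _ hl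
    simpa [mul_assoc] using this
  haveI := TransAut.solvable_of_normalizes hFT (fun x : EG => Subtype.ext x.2.2) ψ.range ρ.range
    (fun x y hx hy => by
      obtain ⟨n, hn, he⟩ := htrans x x.2 y y.2 (fun e => hx (Subtype.ext e))
        (fun e => hy (Subtype.ext e))
      exact ⟨ψ ⟨n, hn⟩, ⟨_, rfl⟩, Subtype.ext he⟩)
    (hle _ fun φ l hl => by
      obtain ⟨n, rfl⟩ := hl
      obtain ⟨hn, he⟩ := hnorm φ n
      exact he ▸ ⟨_, rfl⟩)
    T
    (hle _ fun φ l hl => by
      obtain ⟨_, ⟨n, hn, rfl⟩, rfl⟩ := hl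
      obtain ⟨hn', he⟩ := hnorm φ n
      refine ⟨ψ.rangeRestrict ⟨_, hn'⟩, ⟨⟨_, hn'⟩, ?_, rfl⟩, he.symm⟩
      exact mem_subgroupOf.mpr ((φ.2 n).mpr (mem_subgroupOf.mp hn)))
  -- the automorphisms of `S`
  refine out_solvable_of_range hFT (eq_bot_of_odd_of_simple S hS1) S ?_
  set R := (autRestrict H).range
  haveI : Finite (MulAut H) := Finite.of_injective _ MulEquiv.toEquiv_injective
  let E : Subgroup H := EG.subgroupOf H
  haveI : E.Characteristic := characteristic_iff_le_comap.mpr fun φ z hz => by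
    refine ⟨(φ z).2, ?_⟩
    have hz' : z * z = 1 := Subtype.ext (mem_subgroupOf.mp hz).2
    show ((φ z : H) : G) * (φ z : H) = 1
    rw [← Subgroup.coe_mul, ← map_mul, hz', map_one]
    rfl
  let θ : R →* MulAut EG :=
    ((MulAut.congr (subgroupOfEquivOfLe (show EG ≤ H from fun x hx => hx.1))).toMonoidHom.comp
      (restrictAut E)).comp R.subtype
  haveI : Group.IsSolvable θ.range := by
    refine Group.isSolvable_of_isSolvable_injective (f := Subgroup.inclusion ?_)
      (Subgroup.inclusion_injective (?_ : θ.range ≤ ρ.range))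
    all_goals
      rintro _ ⟨⟨_, φ, rfl⟩, rfl⟩
      exact ⟨φ, MulEquiv.ext fun z => Subtype.ext rfl⟩
  haveI : Group.IsSolvable θ.ker := by
    let K : Subgroup (MulAut H) :=
      { carrier := {k | ∀ x : H, x * x = 1 → k x = x}
        one_mem' := fun _ _ => rfl
        mul_mem' := fun {j k} hj hk x hx => by
          show j (k x) = x
          rw [hk x hx, hj x hx]
        inv_mem' := fun {k} hk x hx => by
          show k.symm x = x
          rw [MulEquiv.symm_apply_eq, hk x hx] }
    haveI := solvable_fixing_involutions hFT S.isPGroup'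
      (fun x y h1 h2 => Subtype.ext (hc _ x.2 _ y.2 (congrArg Subtype.val h1) (congrArg Subtype.val h2)))
      K fun k hk => hk
    have hk : ∀ k : θ.ker, ((k : R) : MulAut H) ∈ K := fun k x hx => by
      have h1 := DFunLike.congr_fun (MonoidHom.mem_ker.mp k.2)
        (⟨(x : G), x.2, congrArg Subtype.val hx⟩ : EG)
      exact Subtype.ext (congrArg (fun z : EG => (z : G)) h1)
    exact Group.isSolvable_of_isSolvable_injective
      (f := (R.subtype.comp θ.ker.subtype).codRestrict K hk) fun i j e =>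
        Subtype.ext (Subtype.ext (congrArg (fun z : K => (z : MulAut H)) e))
  exact TransAut.solvable_of_hom θ

theorem out_solvable_small_sylow (hFT : OddSolvable.{u}) (S : Sylow 2 G)
    (hS1 : (S : Subgroup G) ≠ ⊥)
    (h : (∃ a b : ↥S, Subgroup.closure ({a, b} : Set ↥S) = ⊤) ∨
      ((∃ a b c : ↥S, Subgroup.closure ({a, b, c} : Set ↥S) = ⊤) ∧
        ∃ g ∈ Subgroup.normalizer ((S : Subgroup G) : Set G), Odd (orderOf g) ∧
          g ∉ Subgroup.centralizer ((S : Subgroup G) : Set G)) ∨
      ((∀ s ∈ S, ∀ t ∈ S, orderOf s = 2 → orderOf t = 2 → s * t = t * s) ∧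
        (∀ s ∈ S, ∀ t ∈ S, orderOf s = 2 → orderOf t = 2 → ∃ g : G, g * s * g⁻¹ = t))) :
    Group.IsSolvable (Cfsg.Out G) := by
  rcases h with h | ⟨h, hg⟩ | ⟨h1, h2⟩
  · exact out_solvable_two_generated hFT S hS1 h
  · exact out_solvable_three_generated hFT S hS1 h hg
  · exact out_solvable_one_class hFT S hS1 h1 h2

end CfsgLib.FTDep.OutCases
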