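import Cfsg.Agent.Lib.FTDep.SylowCentralAut
import Cfsg.Prelude.Def_KGroupFacts

/-!
# The outer automorphism group and the automorphisms of a Sylow 2-subgroup

By the Frattini argument `Out G` is an image of the group `autStab S` of automorphisms leaving a
Sylow 2-subgroup `S` invariant; the kernel of `autStab S → Aut S` is solvable for `O(G) = 1` given
the odd order theorem.
-/

set_option autoImplicit false
set_option linter.style.haveILetI false

universe u

namespace CfsgLib.FTDep

open Subgroup Cfsg

variable {G : Type u} [Group G]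

/-- The automorphisms of `G` mapping the subgroup `S` onto itself. -/
def autStab (S : Subgroup G) : Subgroup (MulAut G) where
  carrier := {φ | ∀ x, φ x ∈ S ↔ x ∈ S}
  one_mem' := fun _ => Iff.rfl
  mul_mem' := fun {a b} ha hb x => (ha (b x)).trans (hb x)
  inv_mem' := fun {a} ha x => by
    rw [← ha (a⁻¹ x), show a (a⁻¹ x) = x from a.apply_symm_apply x]

theorem mem_autStab {S : Subgroup G} {φ : MulAut G} :
    φ ∈ autStab S ↔ ∀ x, φ x ∈ S ↔ x ∈ S := Iff.rfl

/-- Restriction of automorphisms leaving `S` invariant to `S`. -/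
def autRestrict (S : Subgroup G) : autStab S →* MulAut S where
  toFun φ :=
    { toFun := fun x => ⟨(φ : MulAut G) x, (φ.2 x).mpr x.2⟩
      invFun := fun x => ⟨(φ : MulAut G)⁻¹ x, ((autStab S).inv_mem φ.2 x).mpr x.2⟩
      left_inv := fun x => Subtype.ext ((φ : MulAut G).symm_apply_apply x)
      right_inv := fun x => Subtype.ext ((φ : MulAut G).apply_symm_apply x)
      map_mul' := fun x y => Subtype.ext (map_mul (φ : MulAut G) (x : G) y) }
  map_one' := rfl
  map_mul' _ _ := rfl

@[simp] theorem autRestrict_apply (S : Subgroup G) (φ : autStab S) (x : S) :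
    ((autRestrict S φ x : S) : G) = (φ : MulAut G) x := rfl

variable [Finite G]

theorem autStab_to_out_surjective {p : ℕ} [Fact p.Prime] (S : Sylow p G) :
    Function.Surjective ((QuotientGroup.mk' (Inn G)).comp (autStab (S : Subgroup G)).subtype) := by
  intro z
  obtain ⟨φ, rfl⟩ := QuotientGroup.mk'_surjective (Inn G) z
  obtain ⟨g, hg⟩ := MulAction.exists_smul_eq G S
    (Sylow.ofCard ((S : Subgroup G).map φ.toMonoidHom) (by
      rw [Subgroup.card_map_of_injective φ.injective, S.card_eq_multiplicity]))
  have hg' : ∀ x, x ∈ (S : Subgroup G).map φ.toMonoidHom ↔ g⁻¹ * x * g ∈ (S : Subgroup G) := by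
    intro x
    have h1 : x ∈ (S : Subgroup G).map φ.toMonoidHom ↔ x ∈ ((g • S : Sylow p G) : Subgroup G) := by
      rw [hg]; rfl
    rw [h1, Sylow.coe_subgroup_smul, Subgroup.mem_pointwise_smul_iff_inv_smul_mem]
    simp [MulAut.smul_def]
  have hmem : MulAut.conj g⁻¹ * φ ∈ autStab (S : Subgroup G) := fun x => by
    have h2 := hg' (φ x)
    simp only [MulAut.mul_apply, MulAut.conj_apply, inv_inv]
    rw [← h2]
    exact Subgroup.mem_map_iff_mem φ.injective
  refine ⟨⟨_, hmem⟩, ?_⟩
  simp only [MonoidHom.coe_comp, Function.comp_apply, Subgroup.coe_subtype, QuotientGroup.mk'_apply,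
    QuotientGroup.mk_mul]
  rw [show ((MulAut.conj g⁻¹ : MulAut G) : MulAut G ⧸ Inn G) = 1 from
    (QuotientGroup.eq_one_iff _).mpr ⟨g⁻¹, rfl⟩, one_mul]

/-- If `O(G) = 1` and the automorphisms induced on a Sylow 2-subgroup form a solvable group, then
`Out G` is solvable. -/
theorem out_solvable_of_range (hFT : OddSolvable.{u})
    (hO : ∀ N : Subgroup G, N.Normal → Odd (Nat.card N) → N = ⊥) (S : Sylow 2 G)
    (hR : Group.IsSolvable (autRestrict (S : Subgroup G)).range) :
    Group.IsSolvable (Cfsg.Out G) := by
  haveI : Fact (Nat.Prime 2) := ⟨Nat.prime_two⟩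
  haveI := hR
  let C : Subgroup (MulAut G) :=
    { carrier := {φ | ∀ s : G, s ∈ S → φ s = s}
      one_mem' := fun _ _ => rfl
      mul_mem' := fun {a b} ha hb s hs => by
        show a (b s) = s
        rw [hb s hs, ha s hs]
      inv_mem' := fun {a} ha s hs => by
        show a.symm s = s
        rw [MulEquiv.symm_apply_eq, ha s hs] }
  haveI : Group.IsSolvable C := (fixes_sylow_solvable hFT hO S C fun _ => Iff.rfl).2
  haveI : Group.IsSolvable (autRestrict (S : Subgroup G)).ker := by
    let f : (autRestrict (S : Subgroup G)).ker →* C :=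
      { toFun := fun k => ⟨((k : autStab (S : Subgroup G)) : MulAut G), fun s hs =>
          congrArg Subtype.val (DFunLike.congr_fun k.2 (⟨s, hs⟩ : (S : Subgroup G)))⟩
        map_one' := rfl
        map_mul' := fun _ _ => rfl }
    exact Group.isSolvable_of_isSolvable_injective (f := f) fun a b (h : f a = f b) =>
      Subtype.ext (Subtype.ext (congrArg (fun c : C => (c : MulAut G)) h))
  haveI : Group.IsSolvable (autStab (S : Subgroup G)) := by
    haveI : Group.IsSolvable (autStab (S : Subgroup G) ⧸ (autRestrict (S : Subgroup G)).ker) :=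
      Group.isSolvable_of_surjective (f :=
        (QuotientGroup.quotientKerEquivRange (autRestrict (S : Subgroup G))).symm.toMonoidHom)
        (QuotientGroup.quotientKerEquivRange _).symm.surjective
    exact (Group.isSolvable_iff_subgroup_quotient (autRestrict (S : Subgroup G)).ker).mpr ⟨inferInstance, inferInstance⟩
  exact Group.isSolvable_of_surjective (autStab_to_out_surjective S)

theorem eq_bot_of_odd_of_simple [IsSimpleGroup G] (S : Sylow 2 G) (hS1 : (S : Subgroup G) ≠ ⊥)
    (N : Subgroup G) (hN : N.Normal) (hodd : Odd (Nat.card N)) : N = ⊥ := by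
  haveI : Fact (Nat.Prime 2) := ⟨Nat.prime_two⟩
  refine hN.eq_bot_or_eq_top.resolve_right fun h => hS1 ?_
  rw [h, Subgroup.card_top] at hodd
  obtain ⟨k, hk⟩ := IsPGroup.iff_card.mp S.isPGroup'
  refine Subgroup.eq_bot_of_card_eq _ ?_
  rcases Nat.eq_zero_or_pos k with rfl | hk0
  · simpa using hk
  · exfalso
    have h2 : 2 ∣ Nat.card G :=
      ((dvd_pow_self 2 hk0.ne').trans hk.symm.dvd).trans (Subgroup.card_subgroup_dvd_card _)
    exact (Nat.not_even_iff_odd.mpr hodd) (even_iff_two_dvd.mpr h2)

/-- A simple group of even order with solvable `Aut S` has a solvable outer automorphism group. -/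
theorem out_solvable_of_solvable_aut [IsSimpleGroup G] (hFT : OddSolvable.{u}) (S : Sylow 2 G)
    (hS1 : (S : Subgroup G) ≠ ⊥) (hS : Group.IsSolvable (MulAut (S : Subgroup G))) :
    Group.IsSolvable (Cfsg.Out G) :=
  haveI := hS
  out_solvable_of_range hFT (eq_bot_of_odd_of_simple S hS1) S
    inferInstance

end CfsgLib.FTDep
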