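import Cfsg.Agent.Lib.ZStar.FusionCenter
import Cfsg.Agent.Lib.PGroups.Basic
import Cfsg.Agent.Lib.FTDep.Basic

/-!
# A complement `Q` whose derived subgroup has a central element with the same centraliser

* `shared_centralizer_commutator_odd`: `[N, Q]` has odd order;
* `shared_centralizer_commutator`: it is solvable, given `OddSolvable`.
-/

set_option autoImplicit false
set_option linter.style.haveILetI false

universe u

namespace CfsgLib.FTDep

open Subgroup
open Cfsg CfsgLib.Signalizer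
open scoped commutatorElement

variable {G : Type u} [Group G]

/-- A multiplicative map with commuting values kills commutators. -/
theorem eq_one_of_mem_commutator {Q : Subgroup G} (f : G → G)
    (hmul : ∀ a ∈ Q, ∀ b ∈ Q, f (a * b) = f a * f b)
    (hcomm : ∀ a ∈ Q, ∀ b ∈ Q, Commute (f a) (f b)) {x : G} (hx : x ∈ ⁅Q, Q⁆) : f x = 1 := by
  let φ : Q →* G := MonoidHom.mk' (fun q => f q) fun a b => hmul a a.2 b b.2
  have h : ⁅Q, Q⁆ ≤ φ.ker.map Q.subtype := by
    refine Subgroup.commutator_le.mpr fun a ha b hb => ⟨⁅(⟨a, ha⟩ : Q), (⟨b, hb⟩ : Q)⁆, ?_, by simp [commutatorElement_def]⟩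
    refine MonoidHom.mem_ker.mpr ?_
    rw [map_commutatorElement]
    exact commutatorElement_eq_one_iff_mul_comm.mpr (hcomm a ha b hb).eq
  obtain ⟨q, hq, rfl⟩ := h hx
  exact hq

variable [Finite G] (N Q : Subgroup G) [N.Normal] {t : G}

/-- A `Q`-invariant 2-subgroup of `N` is centralised by `Q`. -/
theorem shared_centralizer_two_le (hQ : IsPGroup 2 Q) (htQ : t ∈ ⁅Q, Q⁆)
    (hC : N ⊓ centralizer (Q : Set G) = N ⊓ centralizer ({t} : Set G))
    (S : Sylow 2 G) (hQS : Q ≤ S) :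
    (S : Subgroup G) ⊓ N ≤ centralizer (Q : Set G) := by
  haveI : Fact (Nat.Prime 2) := ⟨Nat.prime_two⟩
  set R := (S : Subgroup G) ⊓ N with hR
  by_contra hne
  set C := R ⊓ centralizer (Q : Set G) with hCdef
  set T := (S : Subgroup G) ⊓ normalizer (C : Set G) with hT
  have hTp : IsPGroup 2 T := S.isPGroup'.to_le inf_le_left
  have hCT : C ≤ T := le_inf (inf_le_left.trans inf_le_left) le_normalizer
  have hQT : Q ≤ T := le_inf hQS fun q hq => mem_normalizer_iff.mpr fun c => by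
    have hfix : ∀ d ∈ C, q * d * q⁻¹ = d := fun d hd => by
      rw [mem_centralizer_iff.mp hd.2 q hq, mul_inv_cancel_right]
    refine ⟨fun h => by rw [hfix c h]; exact h, fun h => ?_⟩
    have h2 := mem_centralizer_iff.mp h.2 q hq
    have : q * c * q⁻¹ = c := by
      have h3 : q⁻¹ * (q * (q * c * q⁻¹)) = q⁻¹ * (q * c * q⁻¹ * q) := by rw [h2]
      simpa [mul_assoc] using h3
    rwa [this] at h
  haveI hCn : (C.subgroupOf T).Normal := normal_subgroupOf_of_le_normalizer inf_le_right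
  haveI hRn : (R.subgroupOf T).Normal := by
    refine normal_subgroupOf_of_le_normalizer (inf_le_left.trans fun s hs => ?_)
    exact mem_normalizer_iff.mpr fun x => ⟨fun hx => ⟨(S : Subgroup G).mul_mem ((S : Subgroup G).mul_mem hs hx.1) ((S : Subgroup G).inv_mem hs),
      Subgroup.Normal.conj_mem ‹N.Normal› x hx.2 s⟩, fun hx => ⟨by
        have : s⁻¹ * (s * x * s⁻¹) * s ∈ (S : Subgroup G) :=
          (S : Subgroup G).mul_mem ((S : Subgroup G).mul_mem ((S : Subgroup G).inv_mem hs) hx.1) hs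
        rwa [show s⁻¹ * (s * x * s⁻¹) * s = x by group] at this, by
        have := Subgroup.Normal.conj_mem ‹N.Normal› _ hx.2 s⁻¹
        simpa [mul_assoc] using this⟩⟩
  -- the normaliser condition in `R`
  have hlt : C < R ⊓ normalizer (C : Set G) := by
    have hCR : C < R := lt_of_le_of_ne inf_le_left fun h => hne (h ▸ inf_le_right)
    haveI := (S.isPGroup'.to_le (inf_le_left : R ≤ (S : Subgroup G))).isNilpotent
    have hne' : C.subgroupOf R ≠ ⊤ := by
      rw [Ne, subgroupOf_eq_top]; exact not_le_of_gt hCR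
    obtain ⟨x, hx, hxC⟩ := SetLike.exists_of_lt
      (Group.normalizerCondition_of_isNilpotent (G := R) (C.subgroupOf R) (lt_top_iff_ne_top.2 hne'))
    refine lt_of_le_of_ne (le_inf inf_le_left le_normalizer) fun h => hxC ?_
    have hxN : (x : G) ∈ normalizer (C : Set G) := by
      refine mem_normalizer_iff.mpr fun y => ?_
      have hxn := mem_normalizer_iff.1 hx
      constructor
      · intro hy; exact (hxn ⟨y, hy.1⟩).1 hy
      · intro hy
        have hyR : y ∈ R := by
          have := mul_mem (mul_mem (inv_mem x.2) hy.1) x.2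
          simpa [mul_assoc] using this
        exact (hxn ⟨y, hyR⟩).2 hy
    exact h.ge ⟨x.2, hxN⟩
  set π := QuotientGroup.mk' (C.subgroupOf T)
  haveI : ((R.subgroupOf T).map π).Normal :=
    hRn.map π (QuotientGroup.mk'_surjective _)
  have hRb : (R.subgroupOf T).map π ≠ ⊥ := by
    rw [Ne, Subgroup.map_eq_bot_iff, QuotientGroup.ker_mk']
    intro h
    obtain ⟨x, hx, hxC⟩ := SetLike.exists_of_lt hlt
    exact hxC (h (show (⟨x, hx.1.1, hx.2⟩ : T) ∈ R.subgroupOf T from hx.1))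
  obtain ⟨z, hz, hz1⟩ := (Subgroup.ne_bot_iff_exists_ne_one).mp
    (CfsgLib.PGroups.inf_center_ne_bot (hTp.to_quotient _) hRb)
    |>.elim fun z hz => (⟨(z : _), z.2, fun h => hz (Subtype.ext h)⟩ :
      ∃ z : T ⧸ C.subgroupOf T, z ∈ (R.subgroupOf T).map π ⊓ center _ ∧ z ≠ 1)
  obtain ⟨⟨x, hxT⟩, hxR, rfl⟩ := hz.1
  have hxR' : x ∈ R := hxR
  have hxC : x ∉ C := fun h => hz1 ((QuotientGroup.eq_one_iff _).mpr h)
  set c : G → G := fun q => x⁻¹ * q * x * q⁻¹ with hc
  have hcC : ∀ q ∈ Q, c q ∈ C := fun q hq => by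
    have h1 := (mem_center_iff.mp hz.2) (π ⟨q, hQT hq⟩)
    rw [← map_mul, ← map_mul, QuotientGroup.mk'_apply, QuotientGroup.mk'_apply,
      QuotientGroup.eq] at h1
    -- `(q x)⁻¹ (x q) ∈ C`
    have h2 : (q * x)⁻¹ * (x * q) ∈ C := h1
    have h3 := inv_mem h2
    have h4 : q * ((q * x)⁻¹ * (x * q))⁻¹ * q⁻¹ = c q := by simp only [hc]; group
    rw [← h4, mem_centralizer_iff.mp h3.2 q hq, mul_inv_cancel_right]
    exact h3
  have hqc : ∀ q ∈ Q, ∀ d ∈ C, q * d = d * q := fun q hq d hd => mem_centralizer_iff.mp hd.2 q hq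
  have hcc : ∀ q ∈ Q, ∀ d ∈ C, Commute (c q) d := fun q hq d hd => by
    have hd' : x * d * x⁻¹ ∈ C := (mem_normalizer_iff.mp hxT.2 d).mp hd
    have e1 := hqc q hq _ hd'
    have e2 : q * d * q⁻¹ = d := by rw [hqc q hq d hd, mul_inv_cancel_right]
    show c q * d = d * c q
    calc c q * d = c q * (q * d * q⁻¹) := by rw [e2]
      _ = x⁻¹ * (q * (x * d * x⁻¹)) * x * q⁻¹ := by simp only [hc]; group
      _ = x⁻¹ * (x * d * x⁻¹ * q) * x * q⁻¹ := by rw [e1]
      _ = d * c q := by simp only [hc]; group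
  have hmul : ∀ a ∈ Q, ∀ b ∈ Q, c (a * b) = c a * c b := fun a ha b hb => by
    calc c (a * b) = c a * (a * c b * a⁻¹) := by simp only [hc]; group
      _ = c a * c b := by rw [hqc a ha _ (hcC b hb), mul_inv_cancel_right]
  have ht : c t = 1 := eq_one_of_mem_commutator c hmul (fun a ha b hb => hcc a ha _ (hcC b hb)) htQ
  refine hxC ⟨hxR', ?_⟩
  have hxt : x ∈ N ⊓ centralizer ({t} : Set G) := by
    refine ⟨hxR'.2, mem_centralizer_singleton_iff.mpr ?_⟩
    calc x * t = x * c t * t := by rw [ht, mul_one]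
      _ = t * x := by simp only [hc]; group
  rw [← hC] at hxt
  exact hxt.2

/-- `[N, Q]` has odd order. -/
theorem shared_centralizer_commutator_odd (hG : Q ⊔ N = ⊤) (hQ : IsPGroup 2 Q)
    (htZ : t ∈ Q ⊓ centralizer (Q : Set G)) (htQ : t ∈ ⁅Q, Q⁆)
    (hC : N ⊓ centralizer (Q : Set G) = N ⊓ centralizer ({t} : Set G)) :
    Odd (Nat.card ↥⁅N, Q⁆) := by
  haveI : Fact (Nat.Prime 2) := ⟨Nat.prime_two⟩
  obtain ⟨S, hQS⟩ := hQ.exists_le_sylow
  have hRQ := shared_centralizer_two_le N Q hQ htQ hC S hQS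
  have hdec : ∀ g : G, ∃ n ∈ N, ∃ q ∈ Q, g = n * q := fun g => by
    obtain ⟨n, hn, q, hq, h⟩ :=
      (Core.mem_sup_iff_mul' (H := Q) (N := N) (x := g) (by rw [normalizer_eq_top]; exact le_top)).mp
        (hG ▸ mem_top g)
    exact ⟨n, hn, q, hq, h⟩
  have htq : ∀ q ∈ Q, q * t = t * q := fun q hq => mem_centralizer_iff.mp htZ.2 q hq
  have hCt : ∀ y ∈ N, y * t = t * y → ∀ q ∈ Q, q * y = y * q := fun y hy h q hq => by
    have h1 : y ∈ N ⊓ centralizer ({t} : Set G) := ⟨hy, mem_centralizer_singleton_iff.mpr h⟩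
    rw [← hC] at h1
    exact mem_centralizer_iff.mp h1.2 q hq
  -- `t` is central in `S`
  have htS : ∀ s ∈ (S : Subgroup G), s * t = t * s := fun s hs => by
    obtain ⟨n, hn, q, hq, rfl⟩ := hdec s
    have hnR : n ∈ (S : Subgroup G) ⊓ N :=
      ⟨by
        have h := (S : Subgroup G).mul_mem hs ((S : Subgroup G).inv_mem (hQS hq))
        rwa [mul_inv_cancel_right] at h, hn⟩
    rw [mul_assoc, htq q hq, ← mul_assoc, ← mem_centralizer_iff.mp (hRQ hnR) t htZ.1, mul_assoc]
  -- `t` is the only conjugate of itself in `S`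
  have hiso : ∀ g : G, g * t * g⁻¹ ∈ (S : Subgroup G) → g * t * g⁻¹ = t := fun g hg => by
    obtain ⟨n, hn, q₀, hq₀, rfl⟩ := hdec g
    have e0 : n * q₀ * t * (n * q₀)⁻¹ = n * t * n⁻¹ := by
      rw [mul_assoc n, htq q₀ hq₀]; group
    rw [e0] at hg ⊢
    set s := n * t * n⁻¹ with hs
    set r := t⁻¹ * s with hr
    have hrN : r ∈ N := by
      rw [hr, hs, show t⁻¹ * (n * t * n⁻¹) = t⁻¹ * n * t * n⁻¹ by group]
      exact N.mul_mem (by simpa using Subgroup.Normal.conj_mem ‹N.Normal› n hn t⁻¹) (N.inv_mem hn)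
    have hrR : r ∈ (S : Subgroup G) ⊓ N := ⟨(S : Subgroup G).mul_mem ((S : Subgroup G).inv_mem (hQS htZ.1)) hg, hrN⟩
    have hqr : ∀ q ∈ Q, q * r = r * q := fun q hq => mem_centralizer_iff.mp (hRQ hrR) q hq
    have hrs : r * s = s * r := by
      rw [show s = t * r by rw [hr, mul_inv_cancel_left], ← mul_assoc, ← hqr t htZ.1]
    set φ : G → G := fun q => q⁻¹ * n * q * n⁻¹ with hφ
    -- elements of `N` centralising `s` centralise `n Q n⁻¹`
    have key : ∀ y ∈ N, y * s = s * y → ∀ q ∈ Q, Commute y (q * φ q) := fun y hy h q hq => by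
      have h1 := hCt (n⁻¹ * y * n) (by simpa using Subgroup.Normal.conj_mem ‹N.Normal› y hy n⁻¹)
        (by
          calc n⁻¹ * y * n * t = n⁻¹ * (y * s) * n := by rw [hs]; group
            _ = n⁻¹ * (s * y) * n := by rw [h]
            _ = t * (n⁻¹ * y * n) := by rw [hs]; group) q hq
      have e : q * φ q = n * q * n⁻¹ := by simp only [hφ]; group
      show y * (q * φ q) = q * φ q * y
      rw [e]
      calc y * (n * q * n⁻¹) = n * (n⁻¹ * y * n * q) * n⁻¹ := by group
        _ = n * (q * (n⁻¹ * y * n)) * n⁻¹ := by rw [h1]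
        _ = n * q * n⁻¹ * y := by group
    have hφN : ∀ q ∈ Q, φ q ∈ N := fun q hq =>
      N.mul_mem (by simpa using Subgroup.Normal.conj_mem ‹N.Normal› n hn q⁻¹) (N.inv_mem hn)
    have hφr : ∀ q ∈ Q, Commute (φ q) r := fun q hq => by
      have h1 : Commute q r := hqr q hq
      have h2 := (h1.inv_left).mul_left (key r hrN hrs q hq).symm
      rwa [inv_mul_cancel_left] at h2
    have hφt : ∀ q ∈ Q, Commute (φ q) t := fun q hq => by
      have h1 : Commute (n * q * n⁻¹) s := by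
        rw [hs]
        show _ * _ = _ * _
        calc n * q * n⁻¹ * (n * t * n⁻¹) = n * (q * t) * n⁻¹ := by group
          _ = n * (t * q) * n⁻¹ := by rw [htq q hq]
          _ = n * t * n⁻¹ * (n * q * n⁻¹) := by group
      have h2 : Commute (n * q * n⁻¹) r := by
        have h3 := (key r hrN hrs q hq).symm
        rwa [show q * φ q = n * q * n⁻¹ by simp only [hφ]; group] at h3
      have h4 : Commute (n * q * n⁻¹) t := by
        have h5 := h1.mul_right h2.inv_right
        rwa [show s * r⁻¹ = t by rw [hr]; group] at h5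
      have h6 := (Commute.inv_left (show Commute q t from htq q hq)).mul_left h4
      rwa [show q⁻¹ * (n * q * n⁻¹) = φ q by simp only [hφ]; group] at h6
    have hφq : ∀ a ∈ Q, ∀ b ∈ Q, Commute b (φ a) := fun a ha b hb =>
      hCt _ (hφN a ha) (hφt a ha).eq b hb
    have hφs : ∀ q ∈ Q, Commute (φ q) s := fun q hq => by
      have := (hφt q hq).mul_right (hφr q hq)
      rwa [hr, mul_inv_cancel_left] at this
    have hcomm : ∀ a ∈ Q, ∀ b ∈ Q, Commute (φ a) (φ b) := fun a ha b hb => by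
      have := ((hφq a ha b hb).symm.inv_right).mul_right (key _ (hφN a ha) (hφs a ha).eq b hb)
      rwa [inv_mul_cancel_left] at this
    have hmul : ∀ a ∈ Q, ∀ b ∈ Q, φ (a * b) = φ a * φ b := fun a ha b hb => by
      calc φ (a * b) = b⁻¹ * (φ a) * b * (φ b) := by simp only [hφ]; group
        _ = φ a * φ b := by
          rw [mul_assoc b⁻¹, ← (hφq a ha b hb).eq, inv_mul_cancel_left]
    have h := eq_one_of_mem_commutator φ hmul hcomm htQ
    calc s = t * φ t := by rw [hs]; simp only [hφ]; group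
      _ = t := by rw [h, mul_one]
  have hfix : ZStar.Fixed (S : Subgroup G) t := by
    refine ⟨hQS htZ.1, fun g k hg => ?_⟩
    set C := centralizer ({t ^ k} : Set G) with hCk
    have hSC : (S : Subgroup G) ≤ C := fun s hs =>
      mem_centralizer_singleton_iff.mpr ((show Commute s t from htS s hs).pow_right k).eq
    have htC : g⁻¹ * t * g ∈ C := by
      refine mem_centralizer_singleton_iff.mpr ?_
      have h1 := htS _ hg
      calc g⁻¹ * t * g * t ^ k = g⁻¹ * (t * (g * t ^ k * g⁻¹)) * g := by group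
        _ = g⁻¹ * (g * t ^ k * g⁻¹ * t) * g := by rw [h1]
        _ = t ^ k * (g⁻¹ * t * g) := by group
    have hp : IsPGroup 2 (zpowers (⟨_, htC⟩ : C)) := by
      obtain ⟨j, hj⟩ := IsPGroup.iff_orderOf.1 S.isPGroup' ⟨t, hQS htZ.1⟩
      refine IsPGroup.of_card (n := j) ?_
      rw [Nat.card_zpowers, ← Subgroup.orderOf_coe]
      rw [← hj, ← Subgroup.orderOf_coe]
      show orderOf (g⁻¹ * t * g) = orderOf t
      conv_rhs => rw [← Signalizer.orderOf_conj g⁻¹ t]
      rw [inv_inv]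
    obtain ⟨U, hU⟩ := hp.exists_le_sylow
    obtain ⟨h, hh⟩ := MulAction.exists_smul_eq C U (S.subtype hSC)
    have h1 : (h : G) * (g⁻¹ * t * g) * (h : G)⁻¹ ∈ (S : Subgroup G) := by
      have : h * ⟨_, htC⟩ * h⁻¹ ∈ (S.subtype hSC : Sylow 2 C) := by
        rw [← hh]
        show _ ∈ ((h • U : Sylow 2 C) : Subgroup C)
        rw [Sylow.coe_subgroup_smul]
        exact ⟨⟨_, htC⟩, hU (mem_zpowers _), rfl⟩
      exact this
    have h2 : (h : G) * g⁻¹ * t * ((h : G) * g⁻¹)⁻¹ = t :=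
      hiso _ (by simpa [mul_assoc] using h1)
    have h3 : Commute ((h : G) * g⁻¹) t := mul_inv_eq_iff_eq_mul.mp h2
    have h4 : (h : G) * g⁻¹ ∈ C := mem_centralizer_singleton_iff.mpr (h3.pow_right k).eq
    have h5 : g⁻¹ ∈ C := by simpa using mul_mem (inv_mem h.2) h4
    rw [mem_centralizer_singleton_iff.mp (by simpa using inv_mem h5 : g ∈ C), mul_inv_cancel_right]
  set O := oddCore G ⊓ N with hO
  have hOodd : Odd (Nat.card O) :=
    ZStar.odd_of_dvd (card_dvd_of_le inf_le_left) (ZStar.odd_card_oddCore G)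
  refine ZStar.odd_of_dvd (card_dvd_of_le (commutator_le.mpr fun n hn q hq => ?_)) hOodd
  have hcop : (Nat.card (zpowers t)).Coprime (Nat.card O) := by
    obtain ⟨j, hj⟩ := IsPGroup.iff_orderOf.1 S.isPGroup' ⟨t, hQS htZ.1⟩
    rw [← Subgroup.orderOf_coe] at hj
    rw [Nat.card_zpowers, show orderOf t = 2 ^ j from hj]
    exact (Nat.coprime_two_left.2 hOodd).pow_left j
  haveI : O.Normal := by rw [hO]; infer_instance
  obtain ⟨o, ho, hoc⟩ := Core.exists_centralizing_in_coset (A := zpowers t) (N := O) (k := n)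
    (by rw [normalizer_eq_top]; exact le_top) hcop (Or.inl inferInstance) fun a ha => by
      obtain ⟨m, rfl⟩ := mem_powers_iff_mem_zpowers.mpr ha
      have h1 := ZStar.commutator_mem_oddCore_of_fixed S (hfix.pow m) n
      refine ⟨?_, N.mul_mem (N.inv_mem hn) (Subgroup.Normal.conj_mem ‹N.Normal› n hn _)⟩
      have h2 := Subgroup.Normal.conj_mem (inferInstance : (oddCore G).Normal) _
        h1 n⁻¹
      simpa [mul_assoc] using h2
  have hy : n * o ∈ N := N.mul_mem hn ho.2
  have hyq : q * (n * o) = n * o * q :=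
    hCt _ hy (mem_centralizer_iff.mp hoc t (mem_zpowers t)).symm q hq
  have e : ⁅n, q⁆ = n * o * (o⁻¹ * (q * o * q⁻¹)) * (n * o)⁻¹ := by
    have h1 : (n * o)⁻¹ * q⁻¹ = q⁻¹ * (n * o)⁻¹ := by rw [← mul_inv_rev, hyq, mul_inv_rev]
    calc ⁅n, q⁆ = n * q * o * ((n * o)⁻¹ * q⁻¹) := by rw [commutatorElement_def]; group
      _ = n * q * o * (q⁻¹ * (n * o)⁻¹) := by rw [h1]
      _ = _ := by group
  rw [e]
  exact Subgroup.Normal.conj_mem inferInstance _
    (O.mul_mem (O.inv_mem ho) (Subgroup.Normal.conj_mem inferInstance o ho q)) _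

/-- `[N, Q]` is solvable of odd order, given the odd order theorem. -/
theorem shared_centralizer_commutator (hFT : OddSolvable.{u}) (hG : Q ⊔ N = ⊤) (hQ : IsPGroup 2 Q)
    (htZ : t ∈ Q ⊓ centralizer (Q : Set G)) (htQ : t ∈ ⁅Q, Q⁆)
    (hC : N ⊓ centralizer (Q : Set G) = N ⊓ centralizer ({t} : Set G)) :
    Group.IsSolvable ↥⁅N, Q⁆ ∧ Odd (Nat.card ↥⁅N, Q⁆) :=
  have h := shared_centralizer_commutator_odd N Q hG hQ htZ htQ hC
  ⟨hFT _ h, h⟩

end CfsgLib.FTDep
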