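import Cfsg.Agent.Lib.FTDep.Trichotomy
import Cfsg.Agent.Lib.Components.StandardClosure
import Cfsg.Agent.Lib.Components.UniqueComponent

/-!
# A standard subgroup of a core-free group
-/

set_option autoImplicit false
set_option linter.style.haveILetI false

universe u

namespace CfsgLib.FTDep

open Subgroup
open CfsgLib.Components CfsgLib.Signalizer
open scoped commutatorElement Pointwise

variable {G : Type u} [Group G] [Finite G]

theorem pLayer_two_eq_layer (hFT : OddSolvable.{u}) (hO : Cfsg.pPrimeCore 2 G = ⊥) :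
    Cfsg.pLayer 2 G = Cfsg.layer G := by
  haveI : Fact (Nat.Prime 2) := ⟨Nat.prime_two⟩
  refine le_antisymm (sSup_le fun K hK => le_layer ⟨hK.1, ?_⟩)
    (layer_le_iff.mpr fun K hK => pComponent_le_pLayer (component_isPComponent_two hFT hK))
  haveI := pPrimeCore_normal (G := K) 2
  have h0 : Cfsg.pPrimeCore 2 K = ⊥ := by
    apply Subgroup.map_injective K.subtype_injective
    rw [pPrimeCore_subnormal 2 hK.1, hO, bot_inf_eq, Subgroup.map_bot]
  exact IsQuasisimple.congr ((QuotientGroup.quotientMulEquivOfEq h0).trans QuotientGroup.quotientBot)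
    (pComponent_quotient_core hK)

/-- Nothing nontrivial in `C(A)` is centralized by an element outside `N(A)`, for even order. -/
theorem odd_of_centralized {A : Subgroup G} (hA : Cfsg.IsStandardSubgroup A) {d : G}
    (hd : d ∉ normalizer (A : Set G)) {K : Subgroup G} (hKC : K ≤ centralizer (A : Set G))
    (hdK : ∀ k ∈ K, d * k = k * d) : Odd (Nat.card K) := by
  rw [hA.2.2.2] at hd
  refine Odd.of_dvd_nat (hA.2.1.2 d hd) (Subgroup.card_dvd_of_le fun k hk => ?_)
  refine ⟨hKC hk, k, hKC hk, ?_⟩
  show d * k * d⁻¹ = k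
  rw [hdK k hk, mul_inv_cancel_right]

/-- `E(G)` and `F(G)` when `A` lies in the product of a `t`-orbit of components. -/
theorem layer_of_orbit (hFT : OddSolvable.{u}) {A : Subgroup G} (hA : Cfsg.IsStandardSubgroup A)
    (hO : Cfsg.pPrimeCore 2 G = ⊥) {t : G} {D : Subgroup G} (hD : Cfsg.IsComponent D)
    (hAF : A ≤ D ⊔ MulAut.conj t • D)
    (hDN : ¬ D ≤ normalizer (A : Set G)) :
    Cfsg.layer G = D ⊔ MulAut.conj t • D ∧ Cfsg.fittingSubgroup G = ⊥ ∧
      ∀ K : Subgroup G, Cfsg.IsComponent K → K = D ∨ K = MulAut.conj t • D := by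
  haveI : Fact (Nat.Prime 2) := ⟨Nat.prime_two⟩
  set D' := MulAut.conj t • D with hD'
  have hD'c : Cfsg.IsComponent D' := isComponent_conj hD t
  obtain ⟨d, hd, hdN⟩ := Set.not_subset.mp hDN
  have huniq : ∀ K : Subgroup G, Cfsg.IsComponent K → K = D ∨ K = D' := by
    intro K hK
    by_contra hne
    push Not at hne
    have h1 : ⁅K, D⁆ = ⊥ := components_commute hK hD hne.1
    have h2 : ⁅K, D'⁆ = ⊥ := components_commute hK hD'c hne.2
    have hKA : K ≤ centralizer (A : Set G) := by
      rw [← Subgroup.commutator_eq_bot_iff_le_centralizer, Subgroup.commutator_comm]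
      rw [Subgroup.commutator_eq_bot_iff_le_centralizer]
      refine hAF.trans (sup_le ?_ ?_)
      · exact Subgroup.commutator_eq_bot_iff_le_centralizer.mp ((Subgroup.commutator_comm D K).trans h1)
      · exact Subgroup.commutator_eq_bot_iff_le_centralizer.mp ((Subgroup.commutator_comm D' K).trans h2)
    exact Nat.not_even_iff_odd.mpr (odd_of_centralized hA hdN hKA fun k hk =>
      (Subgroup.mem_centralizer_iff.mp (Subgroup.commutator_eq_bot_iff_le_centralizer.mp h1 hk) d hd))
      (even_card_of_quasisimple hFT hK.2)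
  refine ⟨le_antisymm (layer_le_iff.mpr fun K hK => ?_) (sup_le (le_layer hD) (le_layer hD'c)), ?_, huniq⟩
  · rcases huniq K hK with rfl | rfl
    · exact le_sup_left
    · exact le_sup_right
  set P := Cfsg.fittingSubgroup G with hP
  have hcD : ∀ L : Subgroup G, Cfsg.IsComponent L → L ≤ centralizer (P : Set G) := fun L hL =>
    Subgroup.commutator_eq_bot_iff_le_centralizer.mp (component_commutes_fitting hL)
  have hPA : P ≤ centralizer (A : Set G) := by
    rw [← Subgroup.commutator_eq_bot_iff_le_centralizer, Subgroup.commutator_comm,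
      Subgroup.commutator_eq_bot_iff_le_centralizer]
    exact hAF.trans (sup_le (hcD D hD) (hcD D' hD'c))
  have hodd := odd_of_centralized hA hdN hPA fun k hk =>
    (Subgroup.mem_centralizer_iff.mp (hcD D hD hd) k hk).symm
  by_contra hne
  have hPp : IsPGroup 2 P := by rw [hP, fitting_eq_pCore_of_core_bot hO]; exact pCore_isPGroup 2
  obtain ⟨k, hk⟩ := hPp.exists_card_eq
  rcases Nat.eq_zero_or_pos k with rfl | hk0
  · exact hne (Subgroup.eq_bot_of_card_eq P (by rw [hk, pow_zero]))
  · exact Nat.not_even_iff_odd.mpr hodd (by rw [hk]; exact even_two.pow_of_ne_zero hk0.ne')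

theorem standard_trichotomy (hFT : OddSolvable.{u}) (A : Subgroup G) (hA : Cfsg.IsStandardSubgroup A)
    (hO : Cfsg.oddCore G = ⊥) (t : G) (ht : orderOf t = 2) (htA : t ∈ centralizer (A : Set G)) :
    A.Normal ∨ (∃ X : Subgroup G, IsSimpleGroup ↥X ∧ ¬ IsMulCommutative ↥X ∧ Nonempty (↥X ≃* ↥A) ∧
      (∀ a ∈ X, ∀ b ∈ X.map (MulAut.conj t).toMonoidHom, a * b = b * a) ∧
      X ⊓ X.map (MulAut.conj t).toMonoidHom = ⊥ ∧
      X ⊔ X.map (MulAut.conj t).toMonoidHom = Cfsg.layer G ∧
      centralizer (A : Set G) = zpowers t) ∨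
    (A ≤ Cfsg.layer G ∧ IsSimpleGroup ↥(Cfsg.layer G) ∧ ¬ IsMulCommutative ↥(Cfsg.layer G)) := by
  haveI : Fact (Nat.Prime 2) := ⟨Nat.prime_two⟩
  set C := centralizer ({t} : Set G) with hC
  have hL2 := pLayer_two_eq_layer hFT hO
  have hAt : A ≤ C := fun a ha => Subgroup.mem_centralizer_singleton_iff.mpr
    (Subgroup.mem_centralizer_iff.mp htA a ha)
  have hAc : Cfsg.IsComponent (A.subgroupOf C) := by
    refine ⟨((Subgroup.normal_subgroupOf_iff_le_normalizer hAt).mpr
      (centralizer_le_normalizer_standard hA ht htA)).isSubnormal, ?_⟩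
    exact IsQuasisimple.congr (Subgroup.subgroupOfEquivOfLe hAt).symm hA.1
  obtain ⟨hp, hAE⟩ := component_centralizer_le_layer hFT hL2 ht hAt hAc
  obtain ⟨D, hD, ⟨htD, hAD⟩ | ⟨h, hAR⟩⟩ := pumpUp_dichotomy ht hp hAE
  · by_cases hAeq : A = D
    · left
      subst hAeq
      refine ⟨fun x hx g => ?_⟩
      by_cases hg : A.map (MulAut.conj g).toMonoidHom = A
      · exact hg.le ⟨x, hx, rfl⟩
      · refine absurd ?_ (hA.2.2.1 g hg)
        exact components_commute hD (isComponent_conj hD g) (Ne.symm hg)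
    right; right
    have hDN : ¬ D ≤ normalizer (A : Set G) := fun hle => by
      have hn : (A.subgroupOf D).Normal := (Subgroup.normal_subgroupOf_iff_le_normalizer hAD).mpr hle
      rcases IsQuasisimple.normal_le_center_or_eq_top hD.2 hn with hc | hc
      · refine IsQuasisimple.not_isMulCommutative hA.1 ⟨⟨fun a b => Subtype.ext ?_⟩⟩
        exact (congrArg Subtype.val (Subgroup.mem_center_iff.mp
          (hc (show (⟨a, hAD a.2⟩ : D) ∈ A.subgroupOf D from a.2)) ⟨b, hAD b.2⟩)).symm
      · exact hAeq (le_antisymm hAD (Subgroup.subgroupOf_eq_top.mp hc))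
    have hDt : MulAut.conj t • D = D := smul_eq_self_of_mem_normalizer htD
    obtain ⟨hE, hF, -⟩ := layer_of_orbit (t := t) hFT hA hO hD (by rw [hDt, sup_idem]; exact hAD) hDN
    rw [hDt, sup_idem] at hE
    rw [hE]
    exact ⟨hAD, isSimpleGroup_of_quasisimple hD.2 (component_center_eq_bot hF hD),
      IsQuasisimple.not_isMulCommutative hD.2⟩
  right; left
  set D' := MulAut.conj t • D with hD'
  have hD'c : Cfsg.IsComponent D' := isComponent_conj hD t
  have hne : D' ≠ D := fun he => h.notMem (mem_normalizer_of_smul_eq_self he)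
  have htt : t * t = 1 := by rw [← pow_two, h.pow]
  have hcomm : ⁅D, D'⁆ = ⊥ := components_commute hD hD'c (Ne.symm hne)
  have hdiag : ∀ a : D, h.diagHom a = a * (t * a * t⁻¹) := by
    intro a
    show orbitProd t 2 (a : G) = _
    simp [orbitProd]
  have hmem : ∀ a ∈ D, t * a * t⁻¹ ∈ D' := fun a ha =>
    Subgroup.smul_mem_pointwise_smul a (MulAut.conj t) D ha
  have hAF : A ≤ D ⊔ D' := by
    rw [hAR]
    rintro _ ⟨a, rfl⟩
    rw [hdiag]
    exact mul_mem (Subgroup.mem_sup_left a.2) (Subgroup.mem_sup_right (hmem a a.2))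
  have hDN : ¬ D ≤ normalizer (A : Set G) := fun hle => by
    refine h.diag_not_commute ?_
    rw [← hAR]
    refine le_bot_iff.mp ?_
    conv_lhs => rw [← IsComponent.commutator_eq_self hD]
    have hint : ∀ b : G, b ∈ A → b ∈ D → ∀ e ∈ D, e * b = b * e := by
      intro b hbA hbD e he
      have hbt : b * t = t * b := Subgroup.mem_centralizer_singleton_iff.mp (hAt hbA)
      have hbD' : b ∈ D' := by
        have := hmem b hbD
        rwa [← hbt, mul_inv_cancel_right] at this
      exact Subgroup.mem_centralizer_iff.mp (Subgroup.commutator_eq_bot_iff_le_centralizer.mp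
        ((Subgroup.commutator_comm D' D).trans hcomm) hbD') e he
    have h1 : ⁅⁅D, A⁆, D⁆ = ⊥ := by
      rw [Subgroup.commutator_eq_bot_iff_le_centralizer, Subgroup.commutator_le]
      intro e he a ha
      refine Subgroup.mem_centralizer_iff.mpr fun e' he' => ?_
      refine hint _ ?_ ?_ e' he'
      · rw [commutatorElement_def]
        exact mul_mem ((Subgroup.mem_normalizer_iff.mp (hle he) a).mp ha) (inv_mem ha)
      · rw [commutatorElement_def, mul_assoc e a, mul_assoc]
        refine mul_mem he ((Subgroup.mem_normalizer_iff.mp ?_ _).mp (inv_mem he))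
        refine (hAF.trans (sup_le Subgroup.le_normalizer ?_)) ha
        exact (Subgroup.commutator_eq_bot_iff_le_centralizer.mp
          ((Subgroup.commutator_comm D' D).trans hcomm)).trans (Subgroup.centralizer_le_normalizer _)
    have h2 : ⁅⁅D, D⁆, A⁆ = ⊥ :=
      Subgroup.commutator_commutator_eq_bot_of_rotate h1 (by rwa [Subgroup.commutator_comm A D])
    rw [Subgroup.commutator_comm] at h2
    exact h2.le
  obtain ⟨hE, hF, huniq⟩ := layer_of_orbit (t := t) hFT hA hO hD hAF hDN
  have hZ := component_center_eq_bot hF hD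
  have hsimp := isSimpleGroup_of_quasisimple hD.2 hZ
  have hint : D ⊓ D' = ⊥ := by
    rw [eq_bot_iff]
    intro x hx
    have : (⟨x, hx.1⟩ : D) ∈ Subgroup.center D := Subgroup.mem_center_iff.mpr fun e =>
      Subtype.ext (Subgroup.mem_centralizer_iff.mp (Subgroup.commutator_eq_bot_iff_le_centralizer.mp
        ((Subgroup.commutator_comm D' D).trans hcomm) hx.2) e e.2)
    rw [hZ, Subgroup.mem_bot] at this
    exact congrArg Subtype.val this
  have hinj : Function.Injective h.diagHom := by
    rw [← MonoidHom.ker_eq_bot_iff, eq_bot_iff]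
    intro a ha
    rw [MonoidHom.mem_ker, hdiag] at ha
    have : (a : G) ∈ D ⊓ D' := Subgroup.mem_inf.mpr ⟨a.2, by
      rw [eq_inv_of_mul_eq_one_left ha]; exact inv_mem (hmem a a.2)⟩
    rw [hint, Subgroup.mem_bot] at this
    exact Subgroup.mem_bot.mpr (Subtype.ext this)
  refine ⟨D, hsimp, IsQuasisimple.not_isMulCommutative hD.2,
    ⟨(MonoidHom.ofInjective hinj).trans (MulEquiv.subgroupCongr hAR.symm)⟩,
    fun a ha b hb => ((Subgroup.mem_centralizer_iff.mp
      (Subgroup.commutator_eq_bot_iff_le_centralizer.mp hcomm ha) b hb)).symm, hint, hE.symm, ?_⟩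
  refine le_antisymm (fun c hc => ?_) (by rw [Subgroup.zpowers_le]; exact htA)
  -- an element of `C(A)` fixing `D` is trivial
  have key : ∀ c ∈ centralizer (A : Set G), MulAut.conj c • D = D → c = 1 := by
    intro c hc hcD
    have hcD' : MulAut.conj c • D' = D' := by
      rcases huniq (MulAut.conj c • D') (isComponent_conj hD'c c) with h1 | h1
      · exact absurd (smul_left_cancel (MulAut.conj c) (h1.trans hcD.symm)) hne
      · exact h1
    have hfix : ∀ a ∈ D, c * a * c⁻¹ = a ∧ c * (t * a * t⁻¹) * c⁻¹ = t * a * t⁻¹ := by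
      intro a ha
      have h1 : c * h.diagHom ⟨a, ha⟩ * c⁻¹ = h.diagHom ⟨a, ha⟩ := by
        rw [← (Subgroup.mem_centralizer_iff.mp hc _ (hAR.ge ⟨⟨a, ha⟩, rfl⟩)), mul_inv_cancel_right]
      rw [hdiag] at h1
      have e1 : c * a * c⁻¹ ∈ D := hcD ▸ Subgroup.smul_mem_pointwise_smul a (MulAut.conj c) D ha
      have e2 : c * (t * a * t⁻¹) * c⁻¹ ∈ D' :=
        hcD' ▸ Subgroup.smul_mem_pointwise_smul _ (MulAut.conj c) D' (hmem a ha)
      have e3 : a⁻¹ * (c * a * c⁻¹) = (t * a * t⁻¹) * (c * (t * a * t⁻¹) * c⁻¹)⁻¹ := by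
        rw [eq_mul_inv_iff_mul_eq, mul_assoc, inv_mul_eq_iff_eq_mul]
        rw [← h1]; group
      have : a⁻¹ * (c * a * c⁻¹) ∈ D ⊓ D' :=
        Subgroup.mem_inf.mpr ⟨mul_mem (inv_mem ha) e1, e3 ▸ mul_mem (hmem a ha) (inv_mem e2)⟩
      rw [hint, Subgroup.mem_bot] at this
      refine ⟨(inv_mul_eq_one.mp this).symm, ?_⟩
      rw [this] at e3
      exact (mul_inv_eq_one.mp e3.symm).symm
    have hcE : c ∈ centralizer (Cfsg.generalizedFittingSubgroup G : Set G) := by
      rw [Cfsg.generalizedFittingSubgroup, hF, sup_bot_eq, hE]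
      have hle : D ⊔ D' ≤ centralizer ({c} : Set G) := by
        refine sup_le (fun a ha => Subgroup.mem_centralizer_singleton_iff.mpr ?_) ?_
        · exact (mul_inv_eq_iff_eq_mul.mp (hfix a ha).1).symm
        · intro b hb
          obtain ⟨a, ha, rfl⟩ := hb
          exact Subgroup.mem_centralizer_singleton_iff.mpr (mul_inv_eq_iff_eq_mul.mp (hfix a ha).2).symm
      exact Subgroup.mem_centralizer_iff.mpr fun x hx =>
        Subgroup.mem_centralizer_singleton_iff.mp (hle hx)
    have hcF := centralizer_gFitting_le hcE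
    have hcZ : (⟨c, hcF⟩ : Cfsg.generalizedFittingSubgroup G) ∈
        Subgroup.center (Cfsg.generalizedFittingSubgroup G) :=
      Subgroup.mem_center_iff.mpr fun x => Subtype.ext (Subgroup.mem_centralizer_iff.mp hcE x x.2)
    have hcfit : c ∈ Cfsg.fittingSubgroup G := by
      haveI := gFitting_normal (G := G)
      refine subnormal_nilpotent_le_fitting
        (((inferInstance : (Subgroup.center (Cfsg.generalizedFittingSubgroup G)).Normal).isSubnormal.trans'
          gFitting_normal.isSubnormal)) ?_ (Subgroup.mem_map.mpr ⟨⟨c, hcF⟩, hcZ, rfl⟩)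
      haveI : Group.IsNilpotent (Subgroup.center (Cfsg.generalizedFittingSubgroup G)) :=
        Subgroup.nilpotent_iff_lowerCentralSeries.mpr ⟨1, by
          rw [Subgroup.lowerCentralSeries_succ, Subgroup.lowerCentralSeries_zero,
            Subgroup.commutator_eq_bot_iff_le_centralizer]
          exact fun a _ => Subgroup.mem_centralizer_iff.mpr fun b _ => mul_comm' b a⟩
      exact Group.nilpotent_of_mulEquiv (Subgroup.equivMapOfInjective _ _ (Subgroup.subtype_injective _))
    rwa [hF, Subgroup.mem_bot] at hcfit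
  rcases huniq (MulAut.conj c • D) (isComponent_conj hD c) with h1 | h1
  · rw [key c hc h1]; exact one_mem _
  · have h2 : MulAut.conj (t * c) • D = D := by
      rw [map_mul, mul_smul, h1, ← mul_smul, ← map_mul, htt, map_one, one_smul]
    have h3 := key _ (mul_mem htA hc) h2
    rw [show c = t by rw [← mul_one t, ← h3, ← mul_assoc, htt, one_mul]]
    exact Subgroup.mem_zpowers t

end CfsgLib.FTDep
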