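import Cfsg.Agent.Lib.FTDep.SylowCentralFusion
import Cfsg.Agent.Lib.FTDep.Basic
import Mathlib.GroupTheory.Transfer

/-!
# Automorphisms centralising a Sylow 2-subgroup

* `commutator_eq_one_of_fixes_sylow`: if `O(G) = 1`, `T` is a 2-group of automorphisms fixing a
  Sylow 2-subgroup pointwise and so does `d`, normalising `T`, then `[d, τ] ∈ Z(T)` implies
  `[d, τ] = 1`.
* `fixes_sylow_structure`: the group of all such automorphisms has abelian Sylow 2-subgroups with
  normal complements, and is solvable given the odd order theorem.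
-/

set_option autoImplicit false
set_option linter.style.haveILetI false

universe u

namespace CfsgLib.FTDep

open Subgroup Cfsg

variable {G : Type u} [Group G] [Finite G]

theorem commutator_eq_one_of_fixes_sylow
    (hO : ∀ N : Subgroup G, N.Normal → Odd (Nat.card N) → N = ⊥) (S : Sylow 2 G)
    (T : Subgroup (MulAut G)) (hT : IsPGroup 2 T) (hTS : ∀ b ∈ T, ∀ s ∈ S, b s = s)
    (d : MulAut G) (hdS : ∀ s ∈ S, d s = s) (hdT : ∀ b ∈ T, d * b * d⁻¹ ∈ T)
    {τ : MulAut G} (hτ : τ ∈ T) (hz : ∀ b ∈ T, Commute b (d * τ * d⁻¹ * τ⁻¹)) :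
    d * τ * d⁻¹ * τ⁻¹ = 1 := by
  haveI : Fact (Nat.Prime 2) := ⟨Nat.prime_two⟩
  let φ : T →* MulAut G := T.subtype
  haveI : Finite (G ⋊[φ] T) := Finite.of_equiv _ SemidirectProduct.equivProd.symm
  let Gs : Subgroup (G ⋊[φ] T) := (SemidirectProduct.inl : G →* G ⋊[φ] T).range
  haveI hGn : Gs.Normal := by
    show (SemidirectProduct.inl : G →* G ⋊[φ] T).range.Normal
    rw [SemidirectProduct.range_inl_eq_ker_rightHom]; infer_instance
  let Ts : Subgroup (G ⋊[φ] T) := (SemidirectProduct.inr : T →* G ⋊[φ] T).range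
  let Q : Subgroup (G ⋊[φ] T) :=
    { carrier := {x | x.left ∈ (S : Subgroup G)}
      one_mem' := S.one_mem
      mul_mem' := fun {x y} hx hy => by
        show x.left * φ x.right y.left ∈ (S : Subgroup G)
        rw [show φ x.right y.left = y.left from hTS _ x.right.2 _ hy]
        exact (S : Subgroup G).mul_mem hx hy
      inv_mem' := fun {x} hx => by
        show φ x.right⁻¹ x.left⁻¹ ∈ (S : Subgroup G)
        rw [show φ x.right⁻¹ x.left⁻¹ = x.left⁻¹ from
          hTS _ x.right⁻¹.2 _ ((S : Subgroup G).inv_mem hx)]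
        exact (S : Subgroup G).inv_mem hx }
  have hQc : Nat.card Q = Nat.card S * Nat.card T := by
    rw [← Nat.card_prod]
    exact Nat.card_congr
      { toFun := fun x => (⟨x.1.left, x.2⟩, x.1.right)
        invFun := fun p => ⟨⟨p.1.1, p.2⟩, p.1.2⟩
        left_inv := fun _ => rfl
        right_inv := fun _ => rfl }
  have hQp : IsPGroup 2 Q := by
    obtain ⟨i, hi⟩ := IsPGroup.iff_card.mp S.isPGroup'
    obtain ⟨j, hj⟩ := IsPGroup.iff_card.mp hT
    exact IsPGroup.of_card (n := i + j) (by rw [hQc, hi, hj, pow_add])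
  have hidx : Q.index = (S : Subgroup G).index := by
    have h1 := Q.card_mul_index
    have h2 := (S : Subgroup G).card_mul_index
    rw [hQc, SemidirectProduct.card, ← h2] at h1
    have h3 : Nat.card S * Nat.card T * Q.index =
        Nat.card S * Nat.card T * (S : Subgroup G).index := by rw [h1]; ring
    exact Nat.eq_of_mul_eq_mul_left (Nat.mul_pos Nat.card_pos Nat.card_pos) h3
  let P : Sylow 2 (G ⋊[φ] T) := hQp.toSylow (by rw [hidx]; exact S.not_dvd_index)
  have hPmem : ∀ x, x ∈ (P : Subgroup (G ⋊[φ] T)) ↔ x.left ∈ (S : Subgroup G) := fun _ => Iff.rfl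
  have hGT : Gs ⊔ Ts = ⊤ := top_unique fun x _ => by
    rw [← SemidirectProduct.inl_left_mul_inr_right x]
    exact mul_mem (mem_sup_left ⟨_, rfl⟩) (mem_sup_right ⟨_, rfl⟩)
  have hTsP : Ts ≤ (P : Subgroup (G ⋊[φ] T)) := by
    rintro _ ⟨b, rfl⟩
    exact (hPmem _).mpr (by rw [SemidirectProduct.left_inr]; exact S.one_mem)
  let f : T →* T :=
    { toFun := fun b => ⟨d * b * d⁻¹, hdT b b.2⟩
      map_one' := Subtype.ext (by simp)
      map_mul' := fun a b => Subtype.ext (by simp [mul_assoc]) }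
  have hf : Function.Bijective f := Finite.injective_iff_bijective.mp fun a b h =>
    Subtype.ext (mul_left_cancel (mul_right_cancel (congrArg Subtype.val h)))
  let fg : T ≃* T := MulEquiv.ofBijective f hf
  let D : MulAut (G ⋊[φ] T) := SemidirectProduct.congr d fg fun b => by
    ext n
    show d ((b : MulAut G) n) = (d * (b : MulAut G) * d⁻¹) (d n)
    simp
  set c : T := f ⟨τ, hτ⟩ * (⟨τ, hτ⟩ : T)⁻¹ with hc
  have hiso : ∀ g : G ⋊[φ] T, g * SemidirectProduct.inr c * g⁻¹ ∈ (P : Subgroup (G ⋊[φ] T)) →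
      g * SemidirectProduct.inr c * g⁻¹ = SemidirectProduct.inr c := fun g hg => by
    refine commutator_isolated Gs Ts P hGT hTsP ?_ D ?_ ?_ ?_
      (τ₀ := SemidirectProduct.inr ⟨τ, hτ⟩) ⟨_, rfl⟩ ?_ ?_ hg
    · rintro _ hs ⟨s, rfl⟩ _ ⟨b, rfl⟩
      have hsS : s ∈ (S : Subgroup G) := by simpa [hPmem] using hs
      show _ * _ = _ * _
      ext
      · simp [φ, hTS _ b.2 s hsS]
      · simp
    · rintro _ ⟨s, rfl⟩
      exact ⟨d s, by ext <;> simp [D, fg]⟩
    · rintro _ hs ⟨s, rfl⟩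
      have hsS : s ∈ (S : Subgroup G) := by simpa [hPmem] using hs
      ext
      · simp [D, hdS s hsS]
      · simp [D]
    · rintro _ ⟨b, rfl⟩
      exact ⟨f b, by ext <;> simp [D, fg]⟩
    · ext
      · simp [D, hc]
      · simp [D, fg, hc]
    · rintro _ ⟨b, rfl⟩
      exact Commute.map (show Commute b c from Subtype.ext (hz b b.2).eq) SemidirectProduct.inr
  have hcP : SemidirectProduct.inr c ∈ (P : Subgroup (G ⋊[φ] T)) := hTsP ⟨c, rfl⟩
  have hcZ : ∀ x ∈ (P : Subgroup (G ⋊[φ] T)), Commute x (SemidirectProduct.inr c) := fun x hx => by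
    show _ * _ = _ * _
    ext
    · have h1 : (c : MulAut G) x.left = x.left := hTS _ c.2 _ ((hPmem x).mp hx)
      simp [φ, h1]
    · have h2 : x.right * c = c * x.right := Subtype.ext (hz x.right x.right.2).eq
      simp [h2]
  have hfix := fixed_of_isolated P hcP hcZ hiso
  set O := (oddCore (G ⋊[φ] T)).comap (SemidirectProduct.inl : G →* G ⋊[φ] T) with hOdef
  have hObot : O = ⊥ := by
    refine hO O inferInstance (ZStar.odd_of_dvd ?_ (ZStar.odd_card_oddCore (G ⋊[φ] T)))
    rw [← card_map_of_injective (K := O) (f := (SemidirectProduct.inl : G →* G ⋊[φ] T))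
      SemidirectProduct.inl_injective]
    exact card_dvd_of_le (map_comap_le _ _)
  have hfixG : ∀ g : G, (c : MulAut G) g = g := fun g => by
    have h1 := ZStar.commutator_mem_oddCore_of_fixed P hfix (SemidirectProduct.inl g)
    rw [← map_inv, ← map_inv, ← SemidirectProduct.inl_aut, ← map_mul] at h1
    have h2 : φ c g * g⁻¹ ∈ O := h1
    rw [hObot, Subgroup.mem_bot, mul_inv_eq_one] at h2
    exact h2
  have : (c : MulAut G) = 1 := MulEquiv.ext hfixG
  simpa [hc, f] using this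

/-- The automorphisms fixing a Sylow 2-subgroup pointwise, for `O(G) = 1`. -/
theorem fixes_sylow_structure (hO : ∀ N : Subgroup G, N.Normal → Odd (Nat.card N) → N = ⊥)
    (S : Sylow 2 G) (C : Subgroup (MulAut G))
    (hC : ∀ φ : MulAut G, φ ∈ C ↔ ∀ s : G, s ∈ S → φ s = s) (T : Sylow 2 C) :
    (∀ a b : T, a * b = b * a) ∧
      ∃ N : Subgroup C, N.Normal ∧ Subgroup.IsComplement' N (T : Subgroup C) := by
  haveI : Fact (Nat.Prime 2) := ⟨Nat.prime_two⟩
  set T' : Subgroup (MulAut G) := (T : Subgroup C).map C.subtype with hT'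
  have key : ∀ d : C, (∀ b ∈ (T : Subgroup C), d * b * d⁻¹ ∈ (T : Subgroup C)) →
      ∀ τ ∈ (T : Subgroup C), (∀ b ∈ (T : Subgroup C), Commute b (d * τ * d⁻¹ * τ⁻¹)) →
      d * τ * d⁻¹ * τ⁻¹ = 1 := by
    intro d hd τ hτ hz
    refine Subtype.ext (commutator_eq_one_of_fixes_sylow hO S T' (T.isPGroup'.map _) ?_ (d : MulAut G)
      ((hC _).mp d.2) ?_ ⟨τ, hτ, rfl⟩ ?_)
    · rintro _ ⟨b, -, rfl⟩ s hs
      exact (hC _).mp b.2 s hs
    · rintro _ ⟨b, hb, rfl⟩
      exact ⟨_, hd b hb, rfl⟩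
    · rintro _ ⟨b, hb, rfl⟩
      exact Commute.map (hz b hb) C.subtype
  have habel : ∀ a b : T, a * b = b * a := by
    by_contra hne
    haveI : Nontrivial (T ⧸ center T) := QuotientGroup.nontrivial_iff.mpr fun e => hne fun a b =>
      (mem_center_iff.mp (e ▸ mem_top b : b ∈ center T) a)
    obtain ⟨z, hz, hz1⟩ := SetLike.exists_of_lt ((T.isPGroup'.to_quotient (center T)).bot_lt_center)
    obtain ⟨a, rfl⟩ := QuotientGroup.mk'_surjective (center T) z
    refine hz1 (Subgroup.mem_bot.mpr ((QuotientGroup.eq_one_iff a).mpr (mem_center_iff.mpr fun b => ?_)))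
    have hab : a * b * a⁻¹ * b⁻¹ ∈ center T := by
      refine (QuotientGroup.eq_one_iff _).mp ?_
      have := mem_center_iff.mp hz (QuotientGroup.mk' _ b)
      simp only [QuotientGroup.mk'_apply] at this
      simp only [QuotientGroup.mk_mul, QuotientGroup.mk_inv, ← this, mul_inv_cancel_right,
        mul_inv_cancel]
    have h1 := key (a : C) (fun c hc => T.mul_mem (T.mul_mem a.2 hc) (T.inv_mem a.2)) b b.2
      fun c hc => Commute.map (mem_center_iff.mp hab ⟨c, hc⟩ : Commute ⟨c, hc⟩ (a * b * a⁻¹ * b⁻¹))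
        (T : Subgroup C).subtype
    have h2 : a * b * a⁻¹ * b⁻¹ = 1 := Subtype.ext h1
    rw [mul_inv_eq_one, mul_inv_eq_iff_eq_mul] at h2
    exact h2.symm
  have hN : normalizer ((T : Subgroup C) : Set C) ≤ centralizer ((T : Subgroup C) : Set C) := by
    intro d hd
    refine mem_centralizer_iff.mpr fun τ hτ => ?_
    have hd' : ∀ b ∈ (T : Subgroup C), d * b * d⁻¹ ∈ (T : Subgroup C) := fun b hb =>
      (mem_normalizer_iff.mp hd b).mp hb
    have h1 := key d hd' τ hτ fun b hb => congrArg Subtype.val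
      (habel ⟨b, hb⟩ ⟨_, mul_mem (hd' τ hτ) ((T : Subgroup C).inv_mem hτ)⟩)
    rw [mul_inv_eq_one, mul_inv_eq_iff_eq_mul] at h1
    exact h1.symm
  exact ⟨habel, _, (MonoidHom.transferSylow T hN).normal_ker,
    MonoidHom.ker_transferSylow_isComplement' T hN⟩

theorem fixes_sylow_solvable (hFT : OddSolvable.{u})
    (hO : ∀ N : Subgroup G, N.Normal → Odd (Nat.card N) → N = ⊥) (S : Sylow 2 G)
    (C : Subgroup (MulAut G)) (hC : ∀ φ : MulAut G, φ ∈ C ↔ ∀ s : G, s ∈ S → φ s = s) :
    (∀ T : Sylow 2 C, (∀ a b : T, a * b = b * a) ∧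
      ∃ N : Subgroup C, N.Normal ∧ Subgroup.IsComplement' N (T : Subgroup C)) ∧
      Group.IsSolvable C := by
  haveI : Fact (Nat.Prime 2) := ⟨Nat.prime_two⟩
  refine ⟨fixes_sylow_structure hO S C hC, ?_⟩
  obtain ⟨T⟩ : Nonempty (Sylow 2 C) := inferInstance
  obtain ⟨habel, N, hNn, hc⟩ := fixes_sylow_structure hO S C hC T
  haveI := hNn
  haveI : Group.IsSolvable N := hFT N (by
    rw [← hc.index_eq_card, Nat.odd_iff, ← Nat.two_dvd_ne_zero]
    exact T.not_dvd_index)
  haveI : Group.IsSolvable (C ⧸ N) :=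
    Group.isSolvable_of_comm fun x y => by
      have h1 : ∀ z : C ⧸ N, ∃ b : T, (b : C ⧸ N) = z := by
        intro z
        obtain ⟨g, rfl⟩ := QuotientGroup.mk_surjective z
        obtain ⟨⟨n, b⟩, rfl⟩ := hc.surjective g
        refine ⟨b, ?_⟩
        show ((b : C) : C ⧸ N) = ((n : C) * (b : C) : C)
        rw [QuotientGroup.mk_mul, (QuotientGroup.eq_one_iff (n : C)).mpr n.2, one_mul]
      obtain ⟨a, rfl⟩ := h1 x
      obtain ⟨b, rfl⟩ := h1 y
      rw [← QuotientGroup.mk_mul, ← QuotientGroup.mk_mul, ← Subgroup.coe_mul, habel,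
        Subgroup.coe_mul]
  exact (Group.isSolvable_iff_subgroup_quotient N).mpr ⟨inferInstance, inferInstance⟩

end CfsgLib.FTDep
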