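import Cfsg.Agent.Lib.ZStar.FusionCenter
import Cfsg.Agent.Lib.PGroups.Basic

/-!
# Fusion of complements centralising a Sylow 2-subgroup of a normal subgroup

`X = G * T`, `T` a 2-subgroup centralising `S = P ⊓ G` for a Sylow 2-subgroup `P ≥ T`.

* `exists_moved_normalizer`: an element of `P` which is not isolated in `P` is moved by the
  normaliser of a subgroup of `P` containing it.
* `fixed_of_isolated`: an isolated central element of `P` has all powers isolated.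
* `commutator_isolated`: if an automorphism `d` fixes `S` and preserves `G` and `T`, then an element
  `d τ * τ⁻¹` central in `T` is isolated in `P`.
-/

set_option autoImplicit false
set_option linter.style.haveILetI false

universe u

namespace CfsgLib.FTDep

open Subgroup

variable {X : Type u} [Group X] [Finite X]

private theorem exists_mem_normalizer_of_lt {R Q : Subgroup X} (hQ : IsPGroup 2 Q) (h : R < Q) :
    ∃ x ∈ Q, x ∈ normalizer (R : Set X) ∧ x ∉ R := by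
  haveI : Fact (Nat.Prime 2) := ⟨Nat.prime_two⟩
  haveI := hQ.isNilpotent
  have hne : R.subgroupOf Q ≠ ⊤ := by
    rw [Ne, subgroupOf_eq_top]; exact not_le_of_gt h
  obtain ⟨x, hx, hxR⟩ := SetLike.exists_of_lt
    (Group.normalizerCondition_of_isNilpotent (R.subgroupOf Q) (lt_top_iff_ne_top.2 hne))
  refine ⟨x, x.2, mem_normalizer_iff.mpr fun y => ?_, hxR⟩
  have hxn := mem_normalizer_iff.1 hx
  constructor
  · intro hy; exact (hxn ⟨y, h.le hy⟩).1 hy
  · intro hy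
    have hyQ : y ∈ Q := by
      have := Q.mul_mem (Q.mul_mem (Q.inv_mem x.2) (h.le hy)) x.2
      rwa [show (x : X)⁻¹ * ((x : X) * y * (x : X)⁻¹) * x = y by group] at this
    exact (hxn ⟨y, hyQ⟩).2 hy

omit [Finite X] in
private theorem card_conj (K : Subgroup X) (x : X) :
    Nat.card ↥(K.map (MulAut.conj x).toMonoidHom) = Nat.card K :=
  card_map_of_injective (f := (MulAut.conj x).toMonoidHom) (MulAut.conj x).injective

private theorem mem_normalizer_of_conj {R : Subgroup X} {x : X}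
    (h : ∀ r ∈ R, x * r * x⁻¹ ∈ R) : x ∈ normalizer (R : Set X) := by
  have hle : R.map (MulAut.conj x).toMonoidHom ≤ R := by
    rintro _ ⟨r, hr, rfl⟩; exact h r hr
  have he : R.map (MulAut.conj x).toMonoidHom = R :=
    Subgroup.eq_of_le_of_card_ge hle
      (card_conj _ x).ge
  refine mem_normalizer_iff.mpr fun y => ⟨h y, fun hy => ?_⟩
  have hy' : x * y * x⁻¹ ∈ R.map (MulAut.conj x).toMonoidHom := he.symm ▸ hy
  obtain ⟨r, hr, hre⟩ := hy'
  obtain rfl : r = y := (MulAut.conj x).injective hre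
  exact hr

/-- A 2-subgroup of `C(t)` can be moved into a Sylow subgroup inside `C(t)`. -/
private theorem exists_conj_le {t : X} (P : Sylow 2 X) (htZ : ∀ s ∈ (P : Subgroup X), Commute s t)
    {W : Subgroup X} (hW : IsPGroup 2 W) (hWt : ∀ w ∈ W, Commute w t) :
    ∃ k : X, Commute k t ∧ ∀ w ∈ W, k * w * k⁻¹ ∈ (P : Subgroup X) := by
  haveI : Fact (Nat.Prime 2) := ⟨Nat.prime_two⟩
  set C := centralizer ({t} : Set X) with hC
  have hPC : (P : Subgroup X) ≤ C := fun s hs => mem_centralizer_singleton_iff.mpr (htZ s hs).eq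
  have hWC : W ≤ C := fun w hw => mem_centralizer_singleton_iff.mpr (hWt w hw).eq
  obtain ⟨U, hU⟩ := (hW.comap_of_injective C.subtype C.subtype_injective).exists_le_sylow
  obtain ⟨k, hk⟩ := MulAction.exists_smul_eq C U (P.subtype hPC)
  refine ⟨k, mem_centralizer_singleton_iff.mp k.2, fun w hw => ?_⟩
  have : k * ⟨w, hWC hw⟩ * k⁻¹ ∈ (P.subtype hPC : Sylow 2 C) := by
    rw [← hk]
    show _ ∈ ((k • U : Sylow 2 C) : Subgroup C)
    rw [Sylow.coe_subgroup_smul]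
    exact ⟨⟨w, hWC hw⟩, hU hw, rfl⟩
  exact this

private theorem card_lt_card' {H K : Subgroup X} (h : H < K) : Nat.card H < Nat.card K := by
  by_contra hle
  exact h.ne (Subgroup.eq_of_le_of_card_ge h.le (not_lt.mp hle))

omit [Finite X] in
private theorem mem_map_conj {P : Subgroup X} {h z : X} :
    z ∈ P.map (MulAut.conj h).toMonoidHom ↔ h⁻¹ * z * h ∈ P := by
  constructor
  · rintro ⟨p, hp, rfl⟩
    simpa [mul_assoc] using hp
  · intro hz
    exact ⟨_, hz, by simp [mul_assoc]⟩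

/-- An element of `P` which is not isolated is moved by some local normaliser. -/
theorem exists_moved_normalizer (P : Sylow 2 X) {t : X} (htP : t ∈ P) {g : X}
    (hg : g * t * g⁻¹ ∈ (P : Subgroup X)) (hne : g * t * g⁻¹ ≠ t) :
    ∃ R ≤ (P : Subgroup X), t ∈ R ∧ ∃ n ∈ normalizer (R : Set X), n * t * n⁻¹ ≠ t := by
  haveI : Fact (Nat.Prime 2) := ⟨Nat.prime_two⟩
  by_contra hcon
  push Not at hcon
  let B := {h : X // h⁻¹ * t * h ∈ (P : Subgroup X) ∧ h * t * h⁻¹ ≠ t}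
  haveI : Nonempty B := ⟨⟨g⁻¹, by simpa using hg, fun h => hne (by
    calc g * t * g⁻¹ = g * (g⁻¹ * t * g⁻¹⁻¹) * g⁻¹ := by rw [h]
      _ = t := by group)⟩⟩
  obtain ⟨⟨h, hhP, hht⟩, hmax⟩ := Finite.exists_max fun b : B =>
    Nat.card ((P : Subgroup X) ⊓ (P : Subgroup X).map (MulAut.conj (b : X)).toMonoidHom : Subgroup X)
  set P₂ := (P : Subgroup X).map (MulAut.conj h).toMonoidHom with hP₂
  set R := (P : Subgroup X) ⊓ P₂ with hR
  have htR : t ∈ R := ⟨htP, mem_map_conj.mpr hhP⟩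
  have hRP : R < (P : Subgroup X) := by
    refine lt_of_le_of_ne inf_le_left fun e => hht (hcon _ le_rfl htP h ?_)
    have hle : (P : Subgroup X) ≤ P₂ := fun x hx => (e.symm ▸ hx : x ∈ R).2
    have he : (P : Subgroup X) = P₂ := Subgroup.eq_of_le_of_card_ge hle
      (card_conj _ h).le
    refine mem_normalizer_of_conj fun r hr => ?_
    rw [he]; exact ⟨r, hr, rfl⟩
  have hRP₂ : R < P₂ := by
    refine lt_of_le_of_ne inf_le_right fun e => hRP.ne ?_
    exact Subgroup.eq_of_le_of_card_ge inf_le_left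
      (by rw [e, hP₂, card_conj])
  set N := normalizer (R : Set X) with hN
  have hfix := hcon R inf_le_left htR
  obtain ⟨U, hU⟩ := ((P.isPGroup'.to_le (inf_le_left : (P : Subgroup X) ⊓ N ≤ _)).comap_of_injective
    N.subtype N.subtype_injective).exists_le_sylow
  obtain ⟨P₃, hP₃⟩ := (U.2.map N.subtype).exists_le_sylow
  obtain ⟨h₃, hh₃⟩ := MulAction.exists_smul_eq X P P₃
  have hconj₃ : ∀ z : X, z ∈ N → ∀ hz : z ∈ N, (⟨z, hz⟩ : N) ∈ (U : Subgroup N) →
      h₃⁻¹ * z * h₃ ∈ (P : Subgroup X) := fun z _ hz hzU => by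
    have h1 : z ∈ (P₃ : Subgroup X) := hP₃ ⟨⟨z, hz⟩, hzU, rfl⟩
    rw [← hh₃, Sylow.coe_subgroup_smul] at h1
    exact mem_map_conj.mp h1
  have hPN : ∀ z ∈ (P : Subgroup X) ⊓ N, h₃⁻¹ * z * h₃ ∈ (P : Subgroup X) := fun z hz =>
    hconj₃ z hz.2 hz.2 (hU hz)
  have ht₃ : h₃ * t * h₃⁻¹ = t := by
    by_contra hb
    refine Nat.not_lt.2 (hmax ⟨h₃, hPN t ⟨htP, le_normalizer htR⟩, hb⟩)
      (lt_of_lt_of_le ?_ (card_le_of_le (H := (P : Subgroup X) ⊓ N) ?_))
    · obtain ⟨x, hxP, hxN, hxR⟩ := exists_mem_normalizer_of_lt P.isPGroup' hRP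
      exact card_lt_card' (lt_of_le_of_ne (le_inf inf_le_left le_normalizer)
        fun e => hxR (e.symm ▸ ⟨hxP, hxN⟩ : x ∈ R))
    · exact fun z hz => ⟨hz.1, mem_map_conj.mpr (hPN z hz)⟩
  obtain ⟨x, hxP₂, hxN, hxR⟩ := exists_mem_normalizer_of_lt (P.isPGroup'.map _) hRP₂
  obtain ⟨V, hV⟩ := ((P.isPGroup'.map (MulAut.conj h).toMonoidHom).to_le
    (inf_le_left : P₂ ⊓ N ≤ P₂)).comap_of_injective N.subtype N.subtype_injective |>.exists_le_sylow
  obtain ⟨y, hy⟩ := MulAction.exists_smul_eq N V U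
  have hyt : (y : X) * t * (y : X)⁻¹ = t := hfix y y.2
  have hyU : ∀ z ∈ P₂ ⊓ N, h₃⁻¹ * ((y : X) * z * (y : X)⁻¹) * h₃ ∈ (P : Subgroup X) := fun z hz => by
    refine hconj₃ _ (N.mul_mem (N.mul_mem y.2 hz.2) (N.inv_mem y.2))
      (N.mul_mem (N.mul_mem y.2 hz.2) (N.inv_mem y.2)) ?_
    rw [← hy, Sylow.coe_subgroup_smul]
    exact ⟨⟨z, hz.2⟩, hV hz, rfl⟩
  set h' := h₃⁻¹ * (y : X) * h with hh'
  have hh'P : h'⁻¹ * t * h' ∈ (P : Subgroup X) := by
    have e1 : h₃ * t * h₃⁻¹ = t := ht₃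
    have e : h'⁻¹ * t * h' = h⁻¹ * ((y : X)⁻¹ * (h₃ * t * h₃⁻¹) * y) * h := by rw [hh']; group
    rw [e, e1]
    have e2 : (y : X)⁻¹ * t * y = t := by
      calc (y : X)⁻¹ * t * y = (y : X)⁻¹ * ((y : X) * t * (y : X)⁻¹) * y := by rw [hyt]
        _ = t := by group
    rwa [e2]
  have hh't : h' * t * h'⁻¹ ≠ t := fun e => hht (by
    calc h * t * h⁻¹ = (y : X)⁻¹ * (h₃ * (h' * t * h'⁻¹) * h₃⁻¹) * y := by rw [hh']; group
      _ = (y : X)⁻¹ * ((y : X) * t * (y : X)⁻¹) * y := by rw [e, ht₃, hyt]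
      _ = t := by group)
  refine Nat.not_lt.2 (hmax ⟨h', hh'P, hh't⟩) (lt_of_lt_of_le ?_ (le_of_eq_of_le
    (card_conj (P₂ ⊓ N) (h₃⁻¹ * (y : X))).symm
    (card_le_of_le (H := (P₂ ⊓ N).map (MulAut.conj (h₃⁻¹ * (y : X))).toMonoidHom) ?_)))
  · exact card_lt_card' (lt_of_le_of_ne (le_inf inf_le_right le_normalizer)
      fun e => hxR (e.symm ▸ ⟨hxP₂, hxN⟩ : x ∈ R))
  · rintro _ ⟨z, hz, rfl⟩
    refine ⟨?_, mem_map_conj.mpr ?_⟩
    · show h₃⁻¹ * (y : X) * z * (h₃⁻¹ * (y : X))⁻¹ ∈ (P : Subgroup X)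
      rw [show h₃⁻¹ * (y : X) * z * (h₃⁻¹ * (y : X))⁻¹ = h₃⁻¹ * ((y : X) * z * (y : X)⁻¹) * h₃ by group]
      exact hyU z hz
    · have h1 := mem_map_conj.mp hz.1
      simpa [hh', mul_assoc] using h1

/-- An isolated central element of `P` has isolated powers. -/
theorem fixed_of_isolated (P : Sylow 2 X) {t : X} (htP : t ∈ P)
    (htZ : ∀ s ∈ (P : Subgroup X), Commute s t)
    (hiso : ∀ g : X, g * t * g⁻¹ ∈ (P : Subgroup X) → g * t * g⁻¹ = t) :
    ZStar.Fixed (P : Subgroup X) t := by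
  haveI : Fact (Nat.Prime 2) := ⟨Nat.prime_two⟩
  refine ⟨htP, fun g k hg => ?_⟩
  set x := g⁻¹ * t * g with hx
  have hxk : ∀ w ∈ zpowers x, Commute w (t ^ k) := by
    have h1 : Commute x (t ^ k) := by
      have h2 := htZ _ hg
      show x * t ^ k = t ^ k * x
      calc x * t ^ k = g⁻¹ * (t * (g * t ^ k * g⁻¹)) * g := by rw [hx]; group
        _ = g⁻¹ * (g * t ^ k * g⁻¹ * t) * g := by rw [h2.eq]
        _ = t ^ k * x := by rw [hx]; group
    rintro _ ⟨m, rfl⟩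
    exact h1.zpow_left m
  have hp : IsPGroup 2 (zpowers x) := by
    obtain ⟨j, hj⟩ := IsPGroup.iff_orderOf.1 P.isPGroup' ⟨t, htP⟩
    refine IsPGroup.of_card (n := j) ?_
    rw [← Subgroup.orderOf_coe] at hj
    rw [Nat.card_zpowers, ← hj, hx]
    conv_rhs => rw [← Signalizer.orderOf_conj g⁻¹ t]
    rw [inv_inv]
  obtain ⟨c, hc, hcP⟩ := exists_conj_le P (fun s hs => (htZ s hs).pow_right k) hp hxk
  have h3 : c * g⁻¹ * t * (c * g⁻¹)⁻¹ = t := by
    refine hiso _ ?_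
    have := hcP x (mem_zpowers x)
    simpa [hx, mul_assoc] using this
  have h4 : Commute (c * g⁻¹) (t ^ k) :=
    (show Commute (c * g⁻¹) t from mul_inv_eq_iff_eq_mul.mp h3).pow_right k
  have h5 : Commute g⁻¹ (t ^ k) := by
    have := hc.inv_left.mul_left h4
    rwa [inv_mul_cancel_left] at this
  have h6 : Commute g (t ^ k) := by simpa using h5.inv_left
  rw [h6.eq, mul_inv_cancel_right]

/-- An element `d τ * τ⁻¹` central in `T` is isolated in `P`. -/
theorem commutator_isolated (G T : Subgroup X) [G.Normal] (P : Sylow 2 X) (hGT : G ⊔ T = ⊤)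
    (hTP : T ≤ P) (hTS : ∀ s ∈ (P : Subgroup X), s ∈ G → ∀ b ∈ T, Commute s b)
    (d : MulAut X) (hdG : ∀ x ∈ G, d x ∈ G) (hdS : ∀ s ∈ (P : Subgroup X), s ∈ G → d s = s)
    (hdT : ∀ b ∈ T, d b ∈ T) {τ₀ : X} (hτ₀ : τ₀ ∈ T) {t : X} (ht : t = d τ₀ * τ₀⁻¹)
    (htT : ∀ b ∈ T, Commute b t) {g : X} (hg : g * t * g⁻¹ ∈ (P : Subgroup X)) :
    g * t * g⁻¹ = t := by
  haveI : Fact (Nat.Prime 2) := ⟨Nat.prime_two⟩
  have hdec : ∀ x : X, ∃ a ∈ G, ∃ b ∈ T, a * b = x := fun x =>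
    mem_sup_of_normal_left.1 (hGT ▸ mem_top x)
  have hdecP : ∀ p ∈ (P : Subgroup X), ∃ a ∈ (P : Subgroup X) ⊓ G, ∃ b ∈ T, a * b = p := fun p hp => by
    obtain ⟨a, ha, b, hb, rfl⟩ := hdec p
    refine ⟨a, ⟨?_, ha⟩, b, hb, rfl⟩
    have := (P : Subgroup X).mul_mem hp ((P : Subgroup X).inv_mem (hTP hb))
    rwa [mul_inv_cancel_right] at this
  have htmem : t ∈ T := ht ▸ T.mul_mem (hdT _ hτ₀) (T.inv_mem hτ₀)
  have htP := hTP htmem
  have htZ : ∀ s ∈ (P : Subgroup X), Commute s t := fun s hs => by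
    obtain ⟨a, ha, b, hb, rfl⟩ := hdecP s hs
    exact (hTS a ha.1 ha.2 t htmem).mul_left (htT b hb)
  by_contra hne
  obtain ⟨R₀, hR₀⟩ := exists_moved_normalizer P htP hg hne
  let A := {R : Subgroup X // R ≤ (P : Subgroup X) ∧ t ∈ R ∧
    ∃ n ∈ normalizer (R : Set X), n * t * n⁻¹ ≠ t}
  haveI : Nonempty A := ⟨⟨R₀, hR₀⟩⟩
  obtain ⟨⟨R₁, hR₁⟩, hmax₁⟩ := Finite.exists_max fun R : A => Nat.card (R : Subgroup X)
  let A' := {R : A // Nat.card (R : Subgroup X) = Nat.card R₁}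
  haveI : Nonempty A' := ⟨⟨⟨R₁, hR₁⟩, rfl⟩⟩
  obtain ⟨⟨⟨R, hRP, htR, n, hn, hnt⟩, hcard⟩, hmax₂⟩ := Finite.exists_max fun R : A' =>
    Nat.card ((P : Subgroup X) ⊓ normalizer (((R : A) : Subgroup X) : Set X) : Subgroup X)
  have hbig : ∀ R' : Subgroup X, R < R' → R' ≤ (P : Subgroup X) →
      ∀ m ∈ normalizer (R' : Set X), m * t * m⁻¹ = t := fun R' hlt hle m hm => by
    by_contra hmt
    exact Nat.not_lt.2 ((hmax₁ ⟨R', hle, hlt.le htR, m, hm, hmt⟩).trans hcard.ge)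
      (card_lt_card' hlt)
  set N := normalizer (R : Set X) with hN
  set NP := (P : Subgroup X) ⊓ N with hNP
  have hRNP : R ≤ NP := le_inf hRP le_normalizer
  -- `N_P(R)` is a maximal 2-subgroup of `N(R)`
  have hsyl : ∀ W : Subgroup X, IsPGroup 2 W → NP ≤ W → W ≤ N → W = NP := fun W hW hle hWN => by
    rcases eq_or_lt_of_le hRP with hRe | hlt
    · have h1 : NP = (P : Subgroup X) := le_antisymm inf_le_left (hRe ▸ hRNP)
      rw [h1] at hle ⊢
      exact P.3 hW hle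
    by_contra hWne
    have hRlt : R < NP := by
      obtain ⟨x, hx, hxN, hxR⟩ := exists_mem_normalizer_of_lt P.isPGroup' hlt
      exact lt_of_le_of_ne hRNP fun e => hxR (e.symm ▸ ⟨hx, hxN⟩ : x ∈ R)
    obtain ⟨x, hxW, hxNP, hxnot⟩ := exists_mem_normalizer_of_lt hW (lt_of_le_of_ne hle (Ne.symm hWne))
    have hxt : Commute x t := mul_inv_eq_iff_eq_mul.mp (hbig NP hRlt inf_le_left x hxNP)
    set W' := W ⊓ centralizer ({t} : Set X) with hW'
    obtain ⟨k, hk, hkP⟩ := exists_conj_le P htZ (hW.to_le (inf_le_left : W' ≤ W))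
      fun w hw => mem_centralizer_singleton_iff.mp hw.2
    have hNPW' : NP < W' := by
      refine lt_of_le_of_ne (le_inf hle fun s hs =>
        mem_centralizer_singleton_iff.mpr (htZ s hs.1).eq) fun e => hxnot ?_
      rw [e]; exact ⟨hxW, mem_centralizer_singleton_iff.mpr hxt.eq⟩
    set R' := R.map (MulAut.conj k).toMonoidHom with hR'
    have hR'card : Nat.card R' = Nat.card R₁ := by
      rw [hR', card_conj]; exact hcard
    have hkt : k * t * k⁻¹ = t := by rw [hk.eq, mul_inv_cancel_right]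
    have hmem : R' ≤ (P : Subgroup X) ∧ t ∈ R' ∧
        ∃ m ∈ normalizer (R' : Set X), m * t * m⁻¹ ≠ t := by
      refine ⟨?_, ⟨t, htR, hkt⟩, k * n * k⁻¹, mem_normalizer_of_conj ?_, fun e => hnt ?_⟩
      · rintro _ ⟨r, hr, rfl⟩
        exact hkP r (hNPW'.le (hRNP hr))
      · rintro _ ⟨r, hr, rfl⟩
        exact ⟨n * r * n⁻¹, (mem_normalizer_iff.mp hn r).mp hr, by simp [mul_assoc]⟩
      · calc n * t * n⁻¹ = k⁻¹ * (k * n * k⁻¹ * (k * t * k⁻¹) * (k * n * k⁻¹)⁻¹) * k := by group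
          _ = k⁻¹ * (k * t * k⁻¹) * k := by rw [hkt, e]
          _ = t := by group
    refine Nat.not_lt.2 (hmax₂ ⟨⟨R', hmem⟩, hR'card⟩) ?_
    refine lt_of_lt_of_le (card_lt_card' hNPW') (le_of_eq_of_le
      (card_conj W' k).symm (card_le_of_le ?_))
    rintro _ ⟨w, hw, rfl⟩
    refine ⟨hkP w hw, mem_normalizer_of_conj ?_⟩
    rintro _ ⟨r, hr, rfl⟩
    exact ⟨w * r * w⁻¹, (mem_normalizer_iff.mp (hWN hw.1) r).mp hr, by simp [mul_assoc]⟩
  set M := N ⊓ centralizer ((R ⊓ G : Subgroup X) : Set X) with hM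
  have hMn : ∀ x ∈ N, ∀ m ∈ M, x * m * x⁻¹ ∈ M := fun x hx m hm => by
    refine ⟨N.mul_mem (N.mul_mem hx hm.1) (N.inv_mem hx), mem_centralizer_iff.mpr fun r hr => ?_⟩
    have h1 : x⁻¹ * r * x ∈ R ⊓ G := by
      refine ⟨?_, ?_⟩
      · exact (mem_normalizer_iff''.mp hx r).mp hr.1
      · simpa using Subgroup.Normal.conj_mem ‹G.Normal› r hr.2 x⁻¹
    have h2 := mem_centralizer_iff.mp hm.2 _ h1
    calc r * (x * m * x⁻¹) = x * (x⁻¹ * r * x * m) * x⁻¹ := by group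
      _ = x * (m * (x⁻¹ * r * x)) * x⁻¹ := by rw [h2]
      _ = x * m * x⁻¹ * r := by group
  -- odd elements of `M` centralise `R`
  have hodd : ∀ a ∈ M, Odd (orderOf a) → a ∈ G ∧ ∀ r ∈ R, Commute a r := fun a ha hao => by
    have haG : a ∈ G := by
      obtain ⟨x, hx, b, hb, hxb⟩ := hdec a
      obtain ⟨j, hj⟩ := P.isPGroup' ⟨b, hTP hb⟩
      have hbj : b ^ 2 ^ j = 1 := congrArg Subtype.val hj
      have h1 : QuotientGroup.mk' G a = QuotientGroup.mk' G b := by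
        rw [← hxb, map_mul, (QuotientGroup.eq_one_iff x).mpr hx |> fun h => (show QuotientGroup.mk' G x = 1 from h),
          one_mul]
      have h2 : orderOf (QuotientGroup.mk' G a) ∣ 2 ^ j := by
        rw [h1]; exact orderOf_dvd_of_pow_eq_one (by rw [← map_pow, hbj, map_one])
      have h3 := Nat.dvd_gcd (orderOf_map_dvd (QuotientGroup.mk' G) a) h2
      rw [(Nat.coprime_two_right.2 hao).pow_right j, Nat.dvd_one, orderOf_eq_one_iff] at h3
      exact (QuotientGroup.eq_one_iff a).mp h3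
    refine ⟨haG, fun r hr => ?_⟩
    set c := r⁻¹ * a * r * a⁻¹ with hc
    have hcR : c ∈ R := by
      rw [hc, show r⁻¹ * a * r * a⁻¹ = r⁻¹ * (a * r * a⁻¹) by group]
      exact R.mul_mem (R.inv_mem hr) ((mem_normalizer_iff.mp ha.1 r).mp hr)
    have hcG : c ∈ G := by
      rw [hc]
      exact G.mul_mem (by simpa using Subgroup.Normal.conj_mem ‹G.Normal› a haG r⁻¹) (G.inv_mem haG)
    have hca : Commute c a := mem_centralizer_iff.mp ha.2 c ⟨hcR, hcG⟩
    have hj : ∀ j : ℕ, a ^ j * r = r * c ^ j * a ^ j := by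
      intro j
      induction j with
      | zero => simp
      | succ j ih =>
        calc a ^ (j + 1) * r = a * (a ^ j * r) := by rw [pow_succ' a j, mul_assoc]
          _ = (a * r) * c ^ j * a ^ j := by rw [ih, ← mul_assoc, ← mul_assoc]
          _ = (r * c * a) * c ^ j * a ^ j := by rw [hc]; group
          _ = r * (c * (a * c ^ j)) * a ^ j := by group
          _ = r * (c * (c ^ j * a)) * a ^ j := by rw [(hca.pow_left j).eq]
          _ = r * c ^ (j + 1) * a ^ (j + 1) := by rw [pow_succ' c j, pow_succ' a j]; group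
    have h1 := hj (orderOf a)
    rw [pow_orderOf_eq_one, one_mul, mul_one, left_eq_mul] at h1
    obtain ⟨i, hi⟩ := P.isPGroup' ⟨c, hRP hcR⟩
    have h2 := Nat.dvd_gcd (orderOf_dvd_of_pow_eq_one h1)
      (orderOf_dvd_of_pow_eq_one (congrArg Subtype.val hi : c ^ 2 ^ i = 1))
    rw [(Nat.coprime_two_right.2 hao).pow_right i, Nat.dvd_one, orderOf_eq_one_iff] at h2
    show a * r = r * a
    calc a * r = r * c * a := by rw [hc]; group
      _ = r * a := by rw [h2, mul_one]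
  set W := (P : Subgroup X) ⊓ M with hW
  have hNPsyl : ∀ U : Subgroup X, IsPGroup 2 U → U ≤ N →
      ∃ m ∈ N, ∀ u ∈ U, m * u * m⁻¹ ∈ NP := fun U hU hUN => by
    obtain ⟨U', hU'⟩ := (hU.comap_of_injective N.subtype N.subtype_injective).exists_le_sylow
    obtain ⟨Q', hQ'⟩ := ((P.isPGroup'.to_le (inf_le_left : NP ≤ _)).comap_of_injective
      N.subtype N.subtype_injective).exists_le_sylow
    have hQe : (Q' : Subgroup N).map N.subtype = NP := hsyl _ (Q'.2.map _)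
      (fun s hs => ⟨⟨s, hs.2⟩, hQ' hs, rfl⟩) (map_subtype_le _)
    obtain ⟨m, hm⟩ := MulAction.exists_smul_eq N U' Q'
    refine ⟨m, m.2, fun u hu => hQe ▸ ⟨m * ⟨u, hUN hu⟩ * m⁻¹, ?_, rfl⟩⟩
    rw [← hm]
    show _ ∈ ((m • U' : Sylow 2 N) : Subgroup N)
    rw [Sylow.coe_subgroup_smul]
    exact ⟨⟨u, hUN hu⟩, hU' hu, rfl⟩
  have hWcard : ∀ U : Subgroup X, IsPGroup 2 U → U ≤ M → Nat.card U ≤ Nat.card W := fun U hU hUM => by
    obtain ⟨m, hm, hmU⟩ := hNPsyl U hU (hUM.trans inf_le_left)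
    refine le_of_eq_of_le (card_conj U m).symm
      (card_le_of_le ?_)
    rintro _ ⟨u, hu, rfl⟩
    exact ⟨(hmU u hu).1, hMn m hm u (hUM hu)⟩
  have hWM : W ≤ M := inf_le_right
  obtain ⟨WS, hWS⟩ := ((P.isPGroup'.to_le (inf_le_left : W ≤ _)).comap_of_injective
    M.subtype M.subtype_injective).exists_le_sylow
  have hWe : (WS : Subgroup M).map M.subtype = W :=
    (Subgroup.eq_of_le_of_card_ge (show W ≤ (WS : Subgroup M).map M.subtype from fun s hs => ⟨⟨s, hs.2⟩, hWS hs, rfl⟩)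
      (hWcard _ (WS.2.map _) (map_subtype_le _))).symm
  -- `M` centralises `t`
  have hMt : ∀ m ∈ M, Commute m t := by
    set F := (centralizer ({t} : Set X)).subgroupOf M with hF
    have hdvd : Nat.card M ∣ Nat.card F := by
      rw [Nat.dvd_iff_prime_pow_dvd_dvd]
      intro p k hp hpk
      haveI : Fact p.Prime := ⟨hp⟩
      obtain ⟨Q⟩ : Nonempty (Sylow p M) := inferInstance
      refine dvd_trans ?_ (card_dvd_of_le (H := if p = 2 then (WS : Subgroup M).comap (MonoidHom.id M) else (Q : Subgroup M)) ?_)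
      · split_ifs with h
        · subst h
          rw [comap_id]
          exact WS.pow_dvd_card_of_pow_dvd_card hpk
        · exact Q.pow_dvd_card_of_pow_dvd_card hpk
      · split_ifs with h
        · rintro ⟨x, hx⟩ hxW
          rw [comap_id] at hxW
          have : x ∈ W := hWe ▸ ⟨⟨x, hx⟩, hxW, rfl⟩
          exact mem_centralizer_singleton_iff.mpr (htZ x this.1).eq
        · rintro ⟨x, hx⟩ hxQ
          obtain ⟨j, hj⟩ := IsPGroup.iff_orderOf.1 Q.isPGroup' ⟨_, hxQ⟩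
          rw [← Subgroup.orderOf_coe, ← Subgroup.orderOf_coe] at hj
          have ho : Odd (orderOf x) := by
            rw [show orderOf x = p ^ j from hj]
            exact (hp.odd_of_ne_two h).pow
          exact mem_centralizer_singleton_iff.mpr ((hodd x hx ho).2 t htR).eq
    have htop : F = ⊤ := eq_top_of_card_eq F (Nat.dvd_antisymm (card_subgroup_dvd_card F) hdvd)
    intro m hm
    have : (⟨m, hm⟩ : M) ∈ F := htop ▸ mem_top _
    exact mem_centralizer_singleton_iff.mp this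
  have hWR : W ≤ R := by
    by_contra hnle
    set V : Sylow 2 M := WS
    obtain ⟨U, hU⟩ : ∃ U : Sylow 2 M, (U : Subgroup M).map M.subtype =
        W.map (MulAut.conj n).toMonoidHom := by
      have hle : W.map (MulAut.conj n).toMonoidHom ≤ M := by
        rintro _ ⟨w, hw, rfl⟩
        exact hMn n hn w hw.2
      have hp : IsPGroup 2 ((W.map (MulAut.conj n).toMonoidHom).subgroupOf M) :=
        ((P.isPGroup'.to_le (inf_le_left : W ≤ _)).map _).comap_of_injective _ M.subtype_injective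
      obtain ⟨U, hU⟩ := hp.exists_le_sylow
      refine ⟨U, (Subgroup.eq_of_le_of_card_ge (show W.map (MulAut.conj n).toMonoidHom ≤ (U : Subgroup M).map M.subtype from fun s hs => ⟨⟨s, hle hs⟩, hU hs, rfl⟩) ?_).symm⟩
      rw [card_conj W n]
      exact hWcard _ (U.2.map _) (map_subtype_le _)
    obtain ⟨m, hm⟩ := MulAction.exists_smul_eq M U V
    set n' := (m : X) * n with hn'
    have hn'N : n' ∈ N := N.mul_mem m.2.1 hn
    have hn'W : ∀ w ∈ W, n' * w * n'⁻¹ ∈ W := fun w hw => by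
      have h1 : n * w * n⁻¹ ∈ (U : Subgroup M).map M.subtype := hU.symm ▸ ⟨w, hw, rfl⟩
      obtain ⟨u, hu, hue⟩ := h1
      rw [← hWe]
      refine ⟨m * u * m⁻¹, ?_, ?_⟩
      · show _ ∈ ((V : Sylow 2 M) : Subgroup M)
        rw [← hm, Sylow.coe_subgroup_smul]
        exact ⟨u, hu, rfl⟩
      · show (m : X) * (M.subtype u) * (m : X)⁻¹ = _
        rw [hue, hn']; group
    have hn't : n' * t * n'⁻¹ ≠ t := fun e => hnt (by
      calc n * t * n⁻¹ = (m : X)⁻¹ * (n' * t * n'⁻¹) * m := by rw [hn']; group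
        _ = (m : X)⁻¹ * (t * m) := by rw [e, mul_assoc]
        _ = t := by rw [← (hMt m m.2).eq, inv_mul_cancel_left])
    refine hn't (hbig (R ⊔ W) (lt_of_le_of_ne le_sup_left fun e => hnle (e.symm ▸ le_sup_right))
      (sup_le hRP inf_le_left) n' (mem_normalizer_of_conj fun r hr => ?_))
    have : (R ⊔ W).map (MulAut.conj n').toMonoidHom ≤ R ⊔ W := by
      rw [Subgroup.map_sup]
      refine sup_le_sup ?_ ?_
      · rintro _ ⟨x, hx, rfl⟩; exact (mem_normalizer_iff.mp hn'N x).mp hx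
      · rintro _ ⟨x, hx, rfl⟩; exact hn'W x hx
    exact this ⟨r, hr, rfl⟩
  -- every 2-element of `M` lies in `R`
  have htwo : ∀ u ∈ M, (∃ j : ℕ, u ^ 2 ^ j = 1) → u ∈ R := fun u hu ⟨j, hj⟩ => by
    have hp : IsPGroup 2 (zpowers (⟨u, hu⟩ : M)) := by
      obtain ⟨i, -, hi⟩ := (Nat.dvd_prime_pow Nat.prime_two).1 (orderOf_dvd_of_pow_eq_one hj)
      refine IsPGroup.of_card (n := i) ?_
      rw [Nat.card_zpowers, ← Subgroup.orderOf_coe]; exact hi
    obtain ⟨U, hU⟩ := hp.exists_le_sylow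
    obtain ⟨m, hm⟩ := MulAction.exists_smul_eq M U WS
    have h1 : m * ⟨u, hu⟩ * m⁻¹ ∈ (WS : Subgroup M) := by
      rw [← hm]
      show _ ∈ ((m • U : Sylow 2 M) : Subgroup M)
      rw [Sylow.coe_subgroup_smul]
      exact ⟨_, hU (mem_zpowers _), rfl⟩
    have h2 : (m : X) * u * (m : X)⁻¹ ∈ R := hWR (hWe ▸ ⟨_, h1, rfl⟩)
    exact (mem_normalizer_iff.mp m.2.1 u).mpr h2
  -- `T ≤ R`
  have hTR : T ≤ R := by
    by_contra hnle
    set RT := R ⊓ T with hRT
    have hlt : RT < T := lt_of_le_of_ne inf_le_right fun e => hnle (e ▸ inf_le_left)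
    have hTp : IsPGroup 2 T := P.isPGroup'.to_le hTP
    set NT := T ⊓ normalizer (RT : Set X) with hNT
    have hRTNT : RT ≤ NT := le_inf inf_le_right le_normalizer
    haveI : (RT.subgroupOf NT).Normal := normal_subgroupOf_of_le_normalizer inf_le_right
    haveI : Nontrivial (NT ⧸ RT.subgroupOf NT) := by
      obtain ⟨x, hx, hxN, hxR⟩ := exists_mem_normalizer_of_lt hTp hlt
      refine QuotientGroup.nontrivial_iff.mpr fun e => hxR ?_
      have : (⟨x, hx, hxN⟩ : NT) ∈ RT.subgroupOf NT := e ▸ mem_top _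
      exact this
    have hcen := ((hTp.to_le (inf_le_left : NT ≤ T)).to_quotient (RT.subgroupOf NT)).bot_lt_center
    obtain ⟨z, hz, hz1⟩ := SetLike.exists_of_lt hcen
    obtain ⟨⟨τ, hτ⟩, rfl⟩ := QuotientGroup.mk'_surjective (RT.subgroupOf NT) z
    have hτR : τ ∉ R := fun h => hz1 (by
      rw [Subgroup.mem_bot]; exact (QuotientGroup.eq_one_iff _).mpr (show τ ∈ RT from ⟨h, hτ.1⟩))
    refine hτR (hWR ⟨hTP hτ.1, mem_normalizer_of_conj fun r hr => ?_, ?_⟩)
    · obtain ⟨a, ha, b, hb, rfl⟩ := hdecP r (hRP hr)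
      have hbN : b ∈ NT := by
        refine ⟨hb, mem_normalizer_of_conj fun x hx => ⟨?_, T.mul_mem (T.mul_mem hb hx.2) (T.inv_mem hb)⟩⟩
        have h1 : a * b * x * (a * b)⁻¹ ∈ R := R.mul_mem (R.mul_mem hr hx.1) (R.inv_mem hr)
        have h2 := hTS a ha.1 ha.2 (b * x * b⁻¹) (T.mul_mem (T.mul_mem hb hx.2) (T.inv_mem hb))
        have h3 : a * b * x * (a * b)⁻¹ = b * x * b⁻¹ := by
          rw [show a * b * x * (a * b)⁻¹ = a * (b * x * b⁻¹) * a⁻¹ by group, h2.eq, mul_inv_cancel_right]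
        rwa [h3] at h1
      have h1 := mem_center_iff.mp hz (QuotientGroup.mk' _ ⟨b, hbN⟩)
      rw [← map_mul, ← map_mul, QuotientGroup.mk'_apply, QuotientGroup.mk'_apply,
        QuotientGroup.eq] at h1
      have h2 : (b * τ)⁻¹ * (τ * b) ∈ RT := h1
      have h3 := (hTS a ha.1 ha.2 τ hτ.1).eq
      have e : τ * (a * b) * τ⁻¹ = a * b * ((τ * ((b * τ)⁻¹ * (τ * b)) * τ⁻¹)) := by
        calc τ * (a * b) * τ⁻¹ = (τ * a) * b * τ⁻¹ := by group
          _ = (a * τ) * b * τ⁻¹ := by rw [h3]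
          _ = _ := by group
      rw [e]
      exact R.mul_mem hr ((mem_normalizer_iff.mp hτ.2 _).mp h2).1
    · exact mem_centralizer_iff.mpr fun s hs => (hTS s (hRP hs.1) hs.2 τ hτ.1).eq
  -- the final step
  obtain ⟨a, ha, b, hb, hab⟩ := hdec n
  have haN : a ∈ N := by
    have := N.mul_mem hn (N.inv_mem (le_normalizer (hTR hb)))
    rwa [← hab, mul_inv_cancel_right] at this
  have hat : a * t * a⁻¹ ≠ t := fun e => hnt (by
    rw [← hab, show a * b * t * (a * b)⁻¹ = a * (b * t * b⁻¹) * a⁻¹ by group, (htT b hb).eq,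
      mul_inv_cancel_right, e])
  have hRdec : ∀ r ∈ R, ∃ x ∈ R ⊓ G, ∃ y ∈ T, x * y = r := fun r hr => by
    obtain ⟨x, hx, y, hy, rfl⟩ := hdecP r (hRP hr)
    refine ⟨x, ⟨?_, hx.2⟩, y, hy, rfl⟩
    have := R.mul_mem hr (R.inv_mem (hTR hy))
    rwa [mul_inv_cancel_right] at this
  have hdR1 : ∀ r ∈ R ⊓ G, d r = r := fun r hr => hdS r (hRP hr.1) hr.2
  have hdR : ∀ r ∈ R, d r ∈ R := fun r hr => by
    obtain ⟨x, hx, y, hy, rfl⟩ := hRdec r hr
    rw [map_mul, hdR1 x hx]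
    exact R.mul_mem hx.1 (hTR (hdT y hy))
  have hdRsurj : ∀ r ∈ R, ∃ r' ∈ R, d r' = r := fun r hr => by
    have he : R.map d.toMonoidHom = R := Subgroup.eq_of_le_of_card_ge
      (by rintro _ ⟨x, hx, rfl⟩; exact hdR x hx) (card_map_of_injective d.injective).ge
    have : r ∈ R.map d.toMonoidHom := he.symm ▸ hr
    exact this
  have hdaN : d a ∈ N := mem_normalizer_of_conj fun r hr => by
    obtain ⟨r', hr', rfl⟩ := hdRsurj r hr
    rw [← map_inv, ← map_mul, ← map_mul]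
    exact hdR _ ((mem_normalizer_iff.mp haN r').mp hr')
  set u := a⁻¹ * d a with hu
  have huG : u ∈ G := G.mul_mem (G.inv_mem ha) (hdG a ha)
  have haR1 : ∀ r ∈ R ⊓ G, a * r * a⁻¹ ∈ R ⊓ G := fun r hr =>
    ⟨(mem_normalizer_iff.mp haN r).mp hr.1, Subgroup.Normal.conj_mem ‹G.Normal› r hr.2 a⟩
  have huM : u ∈ M := by
    refine ⟨N.mul_mem (N.inv_mem haN) hdaN, mem_centralizer_iff.mpr fun r hr => ?_⟩
    have h1 := hdR1 _ (haR1 r hr)
    rw [map_mul, map_mul, map_inv, hdR1 r hr] at h1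
    calc r * u = a⁻¹ * (a * r * a⁻¹) * d a := by rw [hu]; group
      _ = a⁻¹ * (d a * r * (d a)⁻¹) * d a := by rw [h1]
      _ = u * r := by rw [hu]; group
  have huT : ∀ c ∈ T, Commute u c := fun c hc => by
    obtain ⟨j, m, hm, he⟩ := Nat.exists_eq_two_pow_mul_odd (orderOf_pos u).ne'
    have h1 : u ^ m ∈ R ⊓ G := by
      refine ⟨htwo _ (M.pow_mem huM m) ⟨j, ?_⟩, G.pow_mem huG m⟩
      rw [← pow_mul, mul_comm, ← he, pow_orderOf_eq_one]
    have h2 : Commute (u ^ m) c := hTS _ (hRP h1.1) h1.2 c hc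
    have ho : Odd (orderOf (u ^ 2 ^ j)) := by
      rw [orderOf_pow' _ (pow_ne_zero j two_ne_zero), he, Nat.gcd_mul_right_left,
        Nat.mul_div_cancel_left _ (Nat.two_pow_pos j)]
      exact hm
    have h3 : Commute (u ^ 2 ^ j) c := (hodd _ (M.pow_mem huM _) ho).2 c (hTR hc)
    have hcop : Nat.Coprime m (2 ^ j) := (Nat.coprime_two_right.2 hm).pow_right j
    obtain ⟨x, y, hxy⟩ := Int.isCoprime_iff_nat_coprime.2 (show (m : ℤ).natAbs.Coprime ((2 ^ j : ℕ) : ℤ).natAbs by simpa using hcop)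
    have : u = (u ^ m) ^ x * (u ^ 2 ^ j) ^ y := by
      rw [← zpow_natCast, ← zpow_natCast, ← zpow_mul, ← zpow_mul, ← zpow_add,
        mul_comm (m : ℤ), mul_comm ((2 ^ j : ℕ) : ℤ), hxy, zpow_one]
    rw [this]
    exact (h2.zpow_left x).mul_left (h3.zpow_left y)
  set δ : X → X := fun c => c⁻¹ * (a * c * a⁻¹) with hδ
  have hδR : ∀ c ∈ T, δ c ∈ R ⊓ G := fun c hc => by
    refine ⟨R.mul_mem (R.inv_mem (hTR hc)) ((mem_normalizer_iff.mp haN c).mp (hTR hc)), ?_⟩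
    simp only [hδ]
    rw [show c⁻¹ * (a * c * a⁻¹) = (c⁻¹ * a * c) * a⁻¹ by group]
    exact G.mul_mem (by simpa using Subgroup.Normal.conj_mem ‹G.Normal› a ha c⁻¹) (G.inv_mem ha)
  have hmul : ∀ c ∈ T, ∀ c' ∈ T, δ (c * c') = δ c * δ c' := fun c hc c' hc' => by
    have h1 := hTS _ (hRP (hδR c hc).1) (hδR c hc).2 c' hc'
    calc δ (c * c') = c'⁻¹ * (δ c * c') * δ c' := by simp only [hδ]; group
      _ = δ c * δ c' := by rw [h1.eq, inv_mul_cancel_left]
  have hinv : ∀ c ∈ T, δ (d c) = δ c := fun c hc => by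
    have h1 := huT (d c) (hdT c hc)
    have h2 : a * d c * a⁻¹ = d a * d c * (d a)⁻¹ := by
      calc a * d c * a⁻¹ = a * (d c * u) * (a * u)⁻¹ := by group
        _ = a * (u * d c) * (a * u)⁻¹ := by rw [h1.eq]
        _ = _ := by rw [hu]; group
    calc δ (d c) = d (δ c) := by simp only [hδ]; rw [h2, map_mul, map_mul, map_mul, map_inv, map_inv]
      _ = δ c := hdR1 _ (hδR c hc)
  have h1 := hmul t htmem τ₀ hτ₀
  rw [show t * τ₀ = d τ₀ by rw [ht, inv_mul_cancel_right], hinv _ hτ₀, right_eq_mul] at h1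
  exact hat (inv_mul_eq_one.mp h1).symm

end CfsgLib.FTDep
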