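import Cfsg.Agent.Lib.FTDep.Basic

/-!
# The trichotomy for components of involution centralizers
-/

set_option autoImplicit false
set_option linter.style.haveILetI false

universe u

namespace CfsgLib.FTDep

open Subgroup
open CfsgLib.Components CfsgLib.Signalizer
open scoped commutatorElement Pointwise

variable {G : Type u} [Group G] [Finite G]

theorem component_trichotomy (hFT : OddSolvable.{u}) (hL2 : Cfsg.pLayer 2 G = Cfsg.layer G) (t : G)
    (ht : orderOf t = 2) (L : Subgroup G) (hLt : L ≤ centralizer ({t} : Set G))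
    (hL : Cfsg.IsComponent (L.subgroupOf (centralizer ({t} : Set G)))) :
    ∃ D : Subgroup G, Cfsg.IsComponent D ∧ (L = D ∨ (L < D ∧ D = ⁅D, zpowers t⁆) ∨
      (D.map (MulAut.conj t).toMonoidHom ≠ D ∧
        L = (Cfsg.layer ↥((D ⊔ D.map (MulAut.conj t).toMonoidHom) ⊓ centralizer ({t} : Set G))).map
          ((D ⊔ D.map (MulAut.conj t).toMonoidHom) ⊓ centralizer ({t} : Set G)).subtype)) := by
  haveI : Fact (Nat.Prime 2) := ⟨Nat.prime_two⟩
  obtain ⟨hp, hLE⟩ := component_centralizer_le_layer hFT hL2 ht hLt hL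
  set C := centralizer ({t} : Set G) with hC
  have hLq : Cfsg.IsQuasisimple L := IsQuasisimple.congr (Subgroup.subgroupOfEquivOfLe hLt) hL.2
  obtain ⟨D, hD, ⟨htD, hLD⟩ | ⟨h, hLR⟩⟩ := pumpUp_dichotomy ht hp hLE
  · refine ⟨D, hD, ?_⟩
    rcases eq_or_lt_of_le hLD with h | h
    · exact Or.inl h
    refine Or.inr (Or.inl ⟨h, ?_⟩)
    set T := zpowers t with hT
    have hTD : T ≤ normalizer (D : Set G) := by rw [hT, Subgroup.zpowers_le]; exact htD
    have hle : ⁅D, T⁆ ≤ D := by
      rw [Subgroup.commutator_le]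
      intro d hd s hs
      rw [commutatorElement_def, mul_assoc d s, mul_assoc]
      exact mul_mem hd ((Subgroup.mem_normalizer_iff.mp (hTD hs) _).mp (inv_mem hd))
    have hn : ((⁅D, T⁆).subgroupOf D).Normal := by
      refine ⟨fun x hx g => ?_⟩
      have h1 : ⁅D, T⁆ ≤ (⁅D, T⁆).comap (MulAut.conj (g : G)).toMonoidHom := by
        rw [Subgroup.commutator_le]
        intro a ha s hs
        show (g : G) * ⁅a, s⁆ * (g : G)⁻¹ ∈ ⁅D, T⁆
        rw [show (g : G) * ⁅a, s⁆ * (g : G)⁻¹ = ⁅(g : G) * a, s⁆ * ⁅(g : G), s⁆⁻¹ by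
          simp only [commutatorElement_def]; group]
        exact mul_mem (Subgroup.commutator_mem_commutator (mul_mem g.2 ha) hs)
          (inv_mem (Subgroup.commutator_mem_commutator g.2 hs))
      exact h1 hx
    rcases IsQuasisimple.normal_le_center_or_eq_top hD.2 (N := (⁅D, T⁆).subgroupOf D) hn with hc | hc
    · exfalso
      have h1 : ⁅⁅D, T⁆, D⁆ = ⊥ := by
        rw [Subgroup.commutator_eq_bot_iff_le_centralizer]
        intro z hz
        refine Subgroup.mem_centralizer_iff.mpr fun d hd => ?_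
        exact congrArg Subtype.val (Subgroup.mem_center_iff.mp
          (hc (show (⟨z, hle hz⟩ : D) ∈ (⁅D, T⁆).subgroupOf D from hz)) ⟨d, hd⟩)
      have h2 : ⁅⁅D, D⁆, T⁆ = ⊥ :=
        Subgroup.commutator_commutator_eq_bot_of_rotate h1 (by rwa [Subgroup.commutator_comm T D])
      rw [IsComponent.commutator_eq_self hD, Subgroup.commutator_eq_bot_iff_le_centralizer, hT,
        centralizer_zpowers] at h2
      rcases components_eq_or_commute hL (isComponent_subgroupOf hD h2) with he | he
      · exact h.ne (by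
          rw [← Subgroup.map_subgroupOf_eq_of_le hLt, ← Subgroup.map_subgroupOf_eq_of_le h2, he])
      · refine IsQuasisimple.commutator_self_ne_bot hL.2 (le_bot_iff.mp ?_)
        exact (Subgroup.commutator_mono le_rfl (Subgroup.comap_mono hLD)).trans he.le
    · exact le_antisymm (Subgroup.subgroupOf_eq_top.mp hc) hle
  · refine ⟨D, hD, Or.inr (Or.inr ⟨fun he => ?_, ?_⟩)⟩
    · exact h.notMem (mem_normalizer_of_smul_eq_self he)
    set D' := D.map (MulAut.conj t).toMonoidHom with hD'
    set F := D ⊔ D' with hF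
    set C' := F ⊓ C with hC'
    set R := h.diagHom.range with hR
    have hne : D' ≠ D := fun he => h.notMem (mem_normalizer_of_smul_eq_self he)
    have hcomm : ⁅D', D⁆ = ⊥ :=
      components_commute (show Cfsg.IsComponent D' from isComponent_conj hD t) hD hne
    have htt : t * t = 1 := by rw [← pow_two, h.pow]
    have hti : t⁻¹ = t := inv_eq_of_mul_eq_one_right htt
    have hmem : ∀ a ∈ D, t * a * t⁻¹ ∈ D' := fun a ha => ⟨a, ha, rfl⟩
    have hmem' : ∀ b ∈ D', t * b * t⁻¹ ∈ D := by
      rintro _ ⟨a, ha, rfl⟩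
      show t * (t * a * t⁻¹) * t⁻¹ ∈ D
      rw [show t * (t * a * t⁻¹) * t⁻¹ = (t * t) * a * (t * t)⁻¹ by group, htt]
      simpa using ha
    have hdiag : ∀ a : D, h.diagHom a = a * (t * a * t⁻¹) := by
      intro a
      show orbitProd t 2 (a : G) = _
      simp [orbitProd]
    have hRC : R ≤ C' := by
      rintro _ ⟨a, rfl⟩
      refine ⟨?_, Subgroup.mem_centralizer_singleton_iff.mpr ?_⟩
      · rw [hdiag]
        exact mul_mem (Subgroup.mem_sup_left a.2) (Subgroup.mem_sup_right (hmem a a.2))
      · exact (h.diagHom_commute a).eq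
    have hD'n : D' ≤ normalizer (D : Set G) :=
      (Subgroup.commutator_eq_bot_iff_le_centralizer.mp hcomm).trans
        (Subgroup.centralizer_le_normalizer _)
    have hdec : ∀ f ∈ C', ∃ r ∈ R, r⁻¹ * f ∈ centralizer (F : Set G) := by
      rintro f ⟨hfF, hfC⟩
      have hf : f ∈ ((D ⊔ D' : Subgroup G) : Set G) := hfF
      rw [Subgroup.coe_mul_of_right_le_normalizer_left D D' hD'n] at hf
      obtain ⟨a, ha, b, hb, rfl⟩ := hf
      refine ⟨_, ⟨⟨a, ha⟩, rfl⟩, ?_⟩
      set c := (h.diagHom ⟨a, ha⟩)⁻¹ * (a * b) with hc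
      have hcD' : c ∈ D' := by
        rw [hc, hdiag, show (a * (t * a * t⁻¹))⁻¹ * (a * b) = (t * a * t⁻¹)⁻¹ * b by group]
        exact mul_mem (inv_mem (hmem a ha)) hb
      have hct : c * t = t * c :=
        Subgroup.mem_centralizer_singleton_iff.mp (mul_mem (inv_mem (hRC ⟨_, rfl⟩).2) hfC)
      have hcD : c ∈ D := by
        have := hmem' c hcD'
        rwa [← hct, mul_inv_cancel_right] at this
      refine Subgroup.mem_centralizer_iff.mpr fun x hx => ?_
      have hle : F ≤ centralizer ({c} : Set G) := by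
        refine sup_le (fun x hx => ?_) (fun x hx => ?_)
        · exact Subgroup.mem_centralizer_singleton_iff.mpr
            (Subgroup.mem_centralizer_iff.mp
              (Subgroup.commutator_eq_bot_iff_le_centralizer.mp hcomm hcD') x hx)
        · exact Subgroup.mem_centralizer_singleton_iff.mpr
            (Subgroup.mem_centralizer_iff.mp
              (Subgroup.commutator_eq_bot_iff_le_centralizer.mp hcomm hx) c hcD).symm
      exact Subgroup.mem_centralizer_singleton_iff.mp (hle hx)
    have hC'R : ⁅C', C'⁆ ≤ R := by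
      rw [Subgroup.commutator_le]
      intro a ha b hb
      obtain ⟨r, hr, hrc⟩ := hdec a ha
      obtain ⟨s, hs, hsd⟩ := hdec b hb
      set c := r⁻¹ * a with hc
      set d := s⁻¹ * b with hd
      have e1 : a = r * c := by rw [hc]; group
      have e2 : b = s * d := by rw [hd]; group
      have hk : ∀ e ∈ F, c * e = e * c ∧ d * e = e * d := fun e he =>
        ⟨(Subgroup.mem_centralizer_iff.mp hrc e he).symm, (Subgroup.mem_centralizer_iff.mp hsd e he).symm⟩
      have hsF : s ∈ F := (hRC hs).1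
      have hdF : d ∈ F := by rw [hd]; exact mul_mem (inv_mem hsF) hb.1
      have hrF : r ∈ F := (hRC hr).1
      have hres : a * b * a⁻¹ * b⁻¹ = r * s * r⁻¹ * s⁻¹ := by
        rw [e1, e2]
        have q1 : c * (s * d) * c⁻¹ = s * d := by
          rw [(hk _ (mul_mem hsF hdF)).1, mul_inv_cancel_right]
        have q2 : d * r⁻¹ = r⁻¹ * d := (hk _ (inv_mem hrF)).2
        calc r * c * (s * d) * (r * c)⁻¹ * (s * d)⁻¹
            = r * (c * (s * d) * c⁻¹) * r⁻¹ * (s * d)⁻¹ := by group
          _ = r * s * (d * r⁻¹) * (d⁻¹ * s⁻¹) := by rw [q1]; group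
          _ = _ := by rw [q2]; group
      rw [commutatorElement_def, hres]
      exact mul_mem (mul_mem (mul_mem hr hs) (inv_mem hr)) (inv_mem hs)
    have hn : (R.subgroupOf C').Normal := by
      refine ⟨fun x hx g => ?_⟩
      have h1 : ⁅(g : G), (x : G)⁆ ∈ R := hC'R (Subgroup.commutator_mem_commutator g.2 x.2)
      show (g : G) * x * (g : G)⁻¹ ∈ R
      rw [show (g : G) * x * (g : G)⁻¹ = ⁅(g : G), (x : G)⁆ * x by simp only [commutatorElement_def]; group]
      exact mul_mem h1 hx
    rw [hLR]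
    refine le_antisymm (fun x hx => ?_) ?_
    · exact ⟨⟨x, hRC hx⟩, le_layer ⟨hn.isSubnormal, IsQuasisimple.congr
        (Subgroup.subgroupOfEquivOfLe hRC).symm h.diag_isQuasisimple⟩
          (show (⟨x, hRC hx⟩ : C') ∈ R.subgroupOf C' from hx), rfl⟩
    · rw [← layer_perfect (G := C'), Subgroup.map_commutator]
      exact (Subgroup.commutator_mono (Subgroup.map_subtype_le _) (Subgroup.map_subtype_le _)).trans hC'R

end CfsgLib.FTDep
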